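import Cfsg.Agent.W4.A

/-! Type A: the frame `Fr` from the generators. -/

set_option autoImplicit false
set_option linter.unusedSectionVars false

namespace Cfsg.Agent.W4

open Cfsg.Agent.BG Subgroup

variable {G : Type*} [Group G] [Finite G]

theorem a0_mul (p q : Mu) : p * q = ⟨p.a ^^ q.a, p.b ^^ q.b, p.c ^^ q.c, p.d ^^ q.d ^^ (p.a && q.b), p.e ^^ q.e ^^ (p.b && q.c),
    p.k ^^ q.k ^^ (p.a && q.e) ^^ (p.d && q.c)⟩ := rfl

set_option maxHeartbeats 8000000 in
theorem a0_hom {A B C D W S : G} (aa : A * A = 1) (bb : B * B = 1) (cc : C * C = 1) (dd : D * D = 1) (ww : W * W = 1)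
    (ss : S * S = 1) (sa : S * A = A * S) (sb : S * B = B * S) (sc : S * C = C * S) (sd : S * D = D * S) (sw : S * W = W * S)
    (wd : W * D = D * (W * C)) (cd : C * D = D * C) (bd : B * D = D * B) (ad : A * D = D * (A * S)) (cw : C * W = W * C)
    (bw : B * W = W * (B * A)) (aw : A * W = W * A) (bc : B * C = C * (B * S)) (ac : A * C = C * A) (ab : A * B = B * A) :
    ∃ f : Mu →* G, f e12 = B ∧ f e13 = A ∧ f e24 = C ∧ f e34 = D ∧ f e23 = W ∧ f mz = S := by
  let F : Mu → G := fun p => (bif p.c then D else 1) * ((bif p.b then W else 1) * ((bif p.e then C else 1) *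
    ((bif p.a then B else 1) * ((bif p.d then A else 1) * (bif p.k then S else 1)))))
  have r : ∀ {X Y Z : G}, X * Y = Z → ∀ z, X * (Y * z) = Z * z := fun h z => by rw [← mul_assoc, h]
  have h : ∀ g ∈ [e12, e23, e34, e13, e24, mz], ∀ q, F (g * q) = F g * F q := by
    rintro g hg ⟨a, b, c, d, e, k⟩
    simp only [List.mem_cons, List.not_mem_nil, or_false] at hg
    rcases hg with rfl | rfl | rfl | rfl | rfl | rfl <;> cases a <;> cases b <;> cases c <;> cases d <;> cases e <;> cases k <;>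
      simp only [F, a0_mul, e12, e23, e34, e13, e24, mz, Bool.xor_false, Bool.false_xor, Bool.xor_true, Bool.true_xor,
        Bool.not_true, Bool.not_false, Bool.and_true, Bool.and_false, cond_true, cond_false,
        mul_one, one_mul, mul_assoc, aa, bb, cc, dd, ww, ss, sa, sb, sc, sd, sw, wd, cd, bd, ad, cw, bw, aw, bc, ac, ab,
        r aa, r bb, r cc, r dd, r ww, r ss, r sa, r sb, r sc, r sd, r sw, r wd, r cd, r bd, r ad, r cw, r bw, r aw, r bc,
        r ac, r ab]
  refine ⟨MonoidHom.mk' F (hom_of_gen F h (show (1 : G) * (1 * (1 * (1 * (1 * 1)))) = 1 by simp)), ?_, ?_, ?_, ?_, ?_, ?_⟩ <;>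
    simp [F, e12, e23, e34, e13, e24, mz]

theorem a0_inj {f : Mu →* G} (h : f mz ≠ 1) : Function.Injective f := by
  refine (injective_iff_map_eq_one f).2 fun p hp => by_contra fun p1 => h ?_
  have k : ∀ p : Mu, p ≠ 1 → p = mz ∨ (∃ q, p * q * p⁻¹ * q⁻¹ = mz) ∨
      ∃ q r, p * q * p⁻¹ * q⁻¹ * r * (p * q * p⁻¹ * q⁻¹)⁻¹ * r⁻¹ = mz := by decide +kernel
  rcases k p p1 with e | ⟨q, e⟩ | ⟨q, r, e⟩ <;> rw [← e] <;> simp [hp]

theorem Gen.typeA {s x w a c : G} {Q : Subgroup G} (h : Gen s Q x w a c) (hA : w * c = c * w) :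
    ∃ f : Mu →* G, Fr f x ∧ f mz = s ∧ Q = mQ.map f := by
  have g := h.qg
  have cj2 : ∀ {u v z : G}, u * v = z → (x * u * x⁻¹) * (x * v * x⁻¹) = x * z * x⁻¹ := fun e => by rw [← e]; group
  have xsx : x * s * x⁻¹ = s := by rw [g.xs]; group
  have bb : (x * a * x⁻¹) * (x * a * x⁻¹) = 1 := by rw [cj2 g.aa]; group
  have dd : (x * c * x⁻¹) * (x * c * x⁻¹) = 1 := by rw [cj2 g.cc]; group
  have sb : s * (x * a * x⁻¹) = x * a * x⁻¹ * s := by
    have := (cj2 (u := s) (v := a) rfl).trans ((congrArg (x * · * x⁻¹) g.as.symm).trans (cj2 (u := a) (v := s) rfl).symm)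
    rwa [xsx] at this
  have sd : s * (x * c * x⁻¹) = x * c * x⁻¹ * s := by
    have := (cj2 (u := s) (v := c) rfl).trans ((congrArg (x * · * x⁻¹) g.cs.symm).trans (cj2 (u := c) (v := s) rfl).symm)
    rwa [xsx] at this
  have bd : (x * a * x⁻¹) * (x * c * x⁻¹) = (x * c * x⁻¹) * (x * a * x⁻¹) := (cj2 g.ac).trans (cj2 rfl).symm
  have cm : ∀ {u v : G}, u * u = 1 → v * v = 1 → (u * v) * (u * v) = 1 → u * v = v * u := fun {u v} h1 h2 h3 => by
    rw [eq_inv_of_mul_eq_one_left h3, mul_inv_rev, ← eq_inv_of_mul_eq_one_left h1, ← eq_inv_of_mul_eq_one_left h2]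
  have cd : c * (x * c * x⁻¹) = x * c * x⁻¹ * c := cm g.cc dd (by rw [← g.xc, cj2 dd]; group)
  have ab : a * (x * a * x⁻¹) = x * a * x⁻¹ * a := (cm bb g.aa (by rw [← g.xa, cj2 bb]; group)).symm
  have x2 : x⁻¹ = x * x := by
    rw [inv_eq_iff_mul_eq_one, ← h.x3]; simp only [pow_succ, pow_zero, one_mul, mul_assoc]
  have wi : w⁻¹ = w := inv_eq_of_mul_eq_one_right h.w2
  have wcj : ∀ u : G, w * u = u * w → w * (x * u * x⁻¹) * w⁻¹ = x * (x * u * x⁻¹) * x⁻¹ := fun u e => by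
    calc _ = (w * x * w⁻¹) * (w * u * w⁻¹) * (w * x * w⁻¹)⁻¹ := by group
      _ = x * x * u * (x * x)⁻¹ := by rw [h.wx, e, mul_inv_cancel_right, ← x2]
      _ = _ := by group
  have ad : a * (x * c * x⁻¹) = x * c * x⁻¹ * (a * s) := by rw [g.ac', sd, g.as, mul_assoc]
  have bc : x * a * x⁻¹ * c = c * (x * a * x⁻¹ * s) := by
    have e := cj2 g.ac'
    rw [← cj2 (u := s * (x * c * x⁻¹)) (v := a) rfl, ← cj2 (u := s) rfl, xsx, g.xc] at e
    generalize x * a * x⁻¹ = B at *
    generalize x * c * x⁻¹ = D at *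
    refine mul_right_cancel (b := D) ?_
    calc _ = s * (c * D) * B := by rw [← e]; group
      _ = s * c * (D * B) := by group
      _ = c * (s * B) * D := by rw [← bd, ← g.cs]; group
      _ = _ := by rw [sb]
  have wd : w * (x * c * x⁻¹) = x * c * x⁻¹ * (w * c) := by
    have e := (wcj c hA).trans g.xc
    calc _ = w * (x * c * x⁻¹) * w⁻¹ * w := by group
      _ = _ := by rw [e, cd, hA, mul_assoc]
  have bw : x * a * x⁻¹ * w = w * (x * a * x⁻¹ * a) := by
    have e := (wcj a h.wa).trans g.xa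
    rw [← e, wi, ← mul_assoc, ← mul_assoc, h.w2, one_mul]
  obtain ⟨f, f12, f13, f24, f34, f23, fz⟩ := a0_hom g.aa bb g.cc dd h.w2 g.ss g.as.symm sb g.cs.symm sd h.ws.symm wd cd bd ad
    hA.symm bw h.wa.symm bc g.ac ab
  have inj : Function.Injective f := a0_inj (fz ▸ g.s1)
  have nf : ∀ p ∈ mQ, p = (bif p.c then e34 else 1) * (bif p.e then e24 else 1) * (bif p.a then e12 else 1) *
      (bif p.d then e13 else 1) * (bif p.k then mz else 1) := by decide +kernel
  have hQ : Q = mQ.map f := by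
    refine le_antisymm ?_ ?_
    · rw [h.gen, closure_le]
      rintro _ (rfl | rfl | rfl | rfl | rfl)
      exacts [⟨mz, rfl, fz⟩, ⟨e13, rfl, f13⟩, ⟨e24, rfl, f24⟩, ⟨e12, rfl, f12⟩, ⟨e34, rfl, f34⟩]
    · rintro _ ⟨p, hp, rfl⟩
      have k : ∀ (b : Bool) (u : Mu), f u ∈ Q → f (bif b then u else 1) ∈ Q := fun b u hu => by
        cases b
        · simp
        · exact hu
      rw [nf p hp]
      simp only [map_mul]
      refine mul_mem (mul_mem (mul_mem (mul_mem (k _ _ ?_) (k _ _ ?_)) (k _ _ ?_)) (k _ _ ?_)) (k _ _ ?_) <;>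
        rw [h.gen] <;> apply Subgroup.subset_closure <;> simp [f12, f13, f24, f34, fz]
  have hx : ∀ p ∈ mQ, x * f p * x⁻¹ = f (cx p) := fun p hp => by
    have nf' : ∀ p ∈ mQ, cx p = (bif p.c then e24 * e34 else 1) * (bif p.e then e34 else 1) * (bif p.a then e12 * e13 else 1) *
      (bif p.d then e12 else 1) * (bif p.k then mz else 1) := by decide +kernel
    have k : ∀ (b : Bool) {u v : Mu}, x * f u * x⁻¹ = f v → x * f (bif b then u else 1) * x⁻¹ = f (bif b then v else 1) :=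
      fun b u v e => by
        cases b
        · simp
        · exact e
    rw [nf' p hp]
    simp only [map_mul]
    rw [← k p.c (u := e34) (v := e24 * e34) (by rw [map_mul, f34, f24, g.xc]), ← k p.e (u := e24) (v := e34) (by rw [f34, f24]),
      ← k p.a (u := e12) (v := e12 * e13) (by rw [map_mul, f12, f13, g.xa]), ← k p.d (u := e13) (v := e12) (by rw [f12, f13]),
      ← k p.k (u := mz) (v := mz) (by rw [fz, xsx])]
    conv_lhs => rw [nf p hp]
    simp only [map_mul]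
    group
  have zc : ∀ p, f p * s = s * f p := fun p => by
    rw [← fz, ← map_mul, ← map_mul, (by decide +kernel : ∀ p : Mu, p * mz = mz * p) p]
  have TL : f.range ≤ C1[s] := by rintro _ ⟨p, rfl⟩; exact mem_cent1.2 (zc p)
  have cT : #f.range = 64 := by rw [← card_Mu]; exact (Nat.card_congr (MonoidHom.ofInjective inj).toEquiv).symm
  refine ⟨f, ⟨inj, ?_, h.x3, hx, by rw [f23, h.wx], fun y => ⟨fun hy => ?_, ?_⟩⟩, fz, hQ⟩
  · have := Nat.fact_prime_two
    refine Sylow_subnorm (sylow_mk (le_inf le_top (normG _)) (IsPGroup.of_card (n := 6) cT) fun d => ?_)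
    have le : ⊤ ⊓ N[f.range] ≤ C1[s] := fun n hn => by
      obtain ⟨p, e⟩ := conj_mem_of_norm hn.2 (⟨mz, fz⟩ : s ∈ f.range)
      have hp : p = mz := (by decide +kernel : ∀ p : Mu, p ≠ 1 → (∀ q, p * q = q * p) → p = mz) p
        (fun p1 => g.s1 (by
          rw [p1, map_one] at e
          calc s = n⁻¹ * (n * s * n⁻¹) * n := by group
            _ = 1 := by rw [← e]; group))
        fun q => inj (by
          obtain ⟨q', e'⟩ := conj_mem_of_norm' hn.2 (⟨q, rfl⟩ : f q ∈ f.range)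
          rw [map_mul, map_mul, e]
          calc _ = n * (s * (n⁻¹ * f q * n)) * n⁻¹ := by group
            _ = _ := by rw [← e', ← zc, e']; group)
      rw [hp, fz] at e
      exact mem_cent1.2 (mul_inv_eq_iff_eq_mul.1 e.symm)
    have e1 := card_mul_relIndex TL
    rw [cT, h.cardL] at e1
    have e2 := d.trans ⟨_, (relIndex_mul_relIndex _ _ _ (le_inf le_top (normG _)) le).symm⟩
    omega
  · rw [fz] at hy
    obtain ⟨q, hq, i, j, rfl⟩ := h.dec y hy
    obtain ⟨p, hp, rfl⟩ := hQ ▸ hq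
    have cq : ∀ p ∈ mQ, cx p ∈ mQ := fun _ _ => rfl
    have k : ∀ i : ℕ, ∀ p ∈ mQ, ∃ p' ∈ mQ, f p * x ^ i = x ^ i * f p' := fun i => by
      induction i with
      | zero => exact fun p hp => ⟨p, hp, by simp⟩
      | succ i ih =>
        intro p hp
        obtain ⟨p', hp', e⟩ := ih p hp
        refine ⟨cx (cx p'), cq _ (cq _ hp'), ?_⟩
        rw [pow_succ, ← mul_assoc, e, ← hx _ (cq _ hp'), ← hx _ hp']
        calc _ = x ^ i * x * (x⁻¹ * f p' * x⁻¹⁻¹) := by group
          _ = x ^ i * x * (x * x * f p' * (x * x)⁻¹) := by rw [← x2]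
          _ = _ := by group
    obtain ⟨p', -, e⟩ := k i p hp
    exact ⟨i, p' * e23 ^ j, by rw [e, map_mul, map_pow, f23, mul_assoc]⟩
  · rintro ⟨i, p, rfl⟩
    rw [fz]
    exact mul_mem (pow_mem (mem_cent1.2 g.xs) i) (TL ⟨p, rfl⟩)

end Cfsg.Agent.W4
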