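import Cfsg.Agent.W4.A
import Cfsg.Agent.S1169
import Cfsg.Agent.Invol.StrongEmb

/-! Piece A2 of S3344 (lead). -/

set_option autoImplicit false

namespace Cfsg.Agent.W4

open Cfsg.Agent.BG Subgroup Equiv

variable {G : Type*} [Group G] [Finite G]

theorem a2_T (f : Mu →* G) {p q r : Mu} (e : r * p * r⁻¹ = q) : IsConj (f p) (f q) :=
  f.map_isConj (isConj_iff.2 ⟨r, e⟩)

theorem Fr.a2_x {f : Mu →* G} {x : G} (h : Fr f x) {p : Mu} (hp : p ∈ mQ) : IsConj (f p) (f (cx p)) :=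
  isConj_iff.2 ⟨x, h.hx p hp⟩

theorem Fr.a2_three {f : Mu →* G} {x : G} (h : Fr f x) {p q : Mu} (hq : q ∈ mQ) (hq' : cx q ∈ mQ)
    (e : ∃ r, r * p * r⁻¹ = q ∨ r * p * r⁻¹ = cx q ∨ r * p * r⁻¹ = cx (cx q)) : IsConj (f p) (f q) := by
  obtain ⟨r, e | e | e⟩ := e
  · exact a2_T f e
  · exact (a2_T f e).trans (h.a2_x hq).symm
  · exact ((a2_T f e).trans (h.a2_x hq').symm).trans (h.a2_x hq).symm

theorem Fr.nsc [IsSimpleGroup G] {f : Mu →* G} {x w : G} {ε : Bool} (h : Fr f x) (h3 : W3 f w ε)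
    (hb : ¬ IsConj (f mz) (f e24)) (hc : ¬ IsConj (f mz) (f mc)) : False := by
  haveI : Fact (Nat.Prime 2) := ⟨Nat.prime_two⟩
  have c13 : IsConj (f e13) (f mz) := isConj_iff.2 ⟨w, h3.h13⟩
  have hU : ∀ u ∈ mU, u ≠ 1 → IsConj (f u) (f mz) := fun u hu h1 => by
    have : ∀ u ∈ mU, u ≠ 1 → u = mz ∨ ∃ r, r * u * r⁻¹ = e13 ∨ r * u * r⁻¹ = cx e13 ∨ r * u * r⁻¹ = cx (cx e13) := by
      decide +kernel
    rcases this u hu h1 with rfl | e
    · exact IsConj.refl _
    · exact (h.a2_three (by decide +kernel) (by decide +kernel) e).trans c13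
  have wz : w * f mz * w⁻¹ = f e13 := by
    rw [← h3.h13, show w * (w * f e13 * w⁻¹) * w⁻¹ = (w * w) * f e13 * (w * w)⁻¹ by group, h3.ww]; simp
  have wc : w * f mc * w⁻¹ = f (mz * (bif ε then e23 * mz else e23) * e13) := by
    calc w * f mc * w⁻¹ = (w * f e13 * w⁻¹) * (w * f e24 * w⁻¹) * (w * f mz * w⁻¹) := by
          rw [show mc = e13 * e24 * mz by decide +kernel, map_mul, map_mul]; group
      _ = _ := by rw [h3.h13, h3.h24, wz, map_mul, map_mul]
  have hO : ∀ p, p ∉ mU → p * p = 1 → IsConj (f p) (f e24) ∨ IsConj (f p) (f mc) := fun p hp h2 => by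
    have : ∀ ε : Bool, ∀ p, p ∉ mU → p * p = 1 →
        (∃ r, r * p * r⁻¹ = e24 ∨ r * p * r⁻¹ = cx e24 ∨ r * p * r⁻¹ = cx (cx e24)) ∨
        (∃ r, r * p * r⁻¹ = mc ∨ r * p * r⁻¹ = cx mc ∨ r * p * r⁻¹ = cx (cx mc)) ∨
        (∃ r, r * p * r⁻¹ = (bif ε then e23 * mz else e23)) ∨
        ∃ r, r * p * r⁻¹ = mz * (bif ε then e23 * mz else e23) * e13 := by decide +kernel
    rcases this ε p hp h2 with e | e | ⟨r, e⟩ | ⟨r, e⟩
    · exact Or.inl (h.a2_three (by decide +kernel) (by decide +kernel) e)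
    · exact Or.inr (h.a2_three (by decide +kernel) (by decide +kernel) e)
    · exact Or.inl ((a2_T f e).trans (isConj_iff.2 ⟨w, h3.h24⟩).symm)
    · exact Or.inr ((a2_T f e).trans (isConj_iff.2 ⟨w, wc⟩).symm)
  obtain ⟨S, hS⟩ := sylow_of_sylowIn_top h.syl
  have sc : Cfsg.IsStronglyClosed (mU.map f) (S : Subgroup G) := by
    rw [hS]
    refine ⟨map_le_range _ _, ?_⟩
    rintro _ ⟨u, hu, rfl⟩ g ⟨p, hp⟩
    by_cases hm : p ∈ mU
    · exact ⟨p, hm, hp⟩
    exfalso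
    have u1 : u ≠ 1 := by
      rintro rfl
      apply hm
      have : p = 1 := h.inj (by rw [hp]; simp)
      rw [this]; exact one_mem _
    have uu : u * u = 1 := (by decide +kernel : ∀ u ∈ mU, u * u = 1) u hu
    have pp : p * p = 1 := h.inj (by
      rw [map_mul, hp, show g * f u * g⁻¹ * (g * f u * g⁻¹) = g * (f u * f u) * g⁻¹ by group, ← map_mul, uu]; simp)
    have cup : IsConj (f u) (f p) := isConj_iff.2 ⟨g, hp.symm⟩
    rcases hO p hm pp with c | c
    · exact hb (((hU u hu u1).symm.trans cup).trans c)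
    · exact hc (((hU u hu u1).symm.trans cup).trans c)
  have ne : mU.map f ≠ ⊥ := fun e => by
    have : f mz ∈ (⊥ : Subgroup G) := e ▸ mem_map_of_mem f (by decide +kernel)
    exact absurd (h.inj ((mem_bot.1 this).trans (map_one f).symm)) (by decide +kernel)
  have cm : IsMulCommutative (mU.map f) := ⟨⟨by
    rintro ⟨_, a, ha, rfl⟩ ⟨_, b, hb, rfl⟩
    refine Subtype.ext ?_
    change f a * f b = f b * f a
    rw [← map_mul, ← map_mul, (by decide +kernel : ∀ a ∈ mU, ∀ b ∈ mU, a * b = b * a) a ha b hb]⟩⟩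
  rcases S1169.result S _ ne cm sc with c | ⟨H, hH⟩
  · rw [hS] at c
    have := congrArg Subtype.val (c.is_comm.comm ⟨f e12, e12, rfl⟩ ⟨f e23, e23, rfl⟩)
    change f e12 * f e23 = f e23 * f e12 at this
    rw [← map_mul, ← map_mul] at this
    exact absurd (h.inj this) (by decide +kernel)
  · refine hb (Invol.SE.isConj hH ?_ ?_) <;> rw [orderOf_injective f h.inj] <;>
      exact orderOf_eq_prime (by decide +kernel) (by decide +kernel)

end Cfsg.Agent.W4
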