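import Cfsg.Agent.W4.A

/-! The Weyl element `(3 4)` (`Fr.w3`). -/

set_option autoImplicit false
set_option linter.unusedSectionVars false

namespace Cfsg.Agent.W4

open Cfsg.Agent.BG Subgroup

variable {G : Type*} [Group G] [Finite G] {f : Mu →* G} {x g : G} {p q : Mu}

theorem Fr.eq (h : Fr f x) : f p = f q ↔ p = q := h.inj.eq_iff
theorem Fr.zS (h : Fr f x) : f.range ≤ C1[f mz] := by
  rintro _ ⟨p, rfl⟩
  exact (h.cen _).2 ⟨0, p, by simp⟩
theorem Fr.xs (h : Fr f x) : x ∈ C1[f mz] := (h.cen _).2 ⟨1, 1, by simp⟩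
theorem Fr.sylL (h : Fr f x) : SylowIn 2 f.range C1[f mz] := pHall_subl h.zS le_top h.syl
theorem Fr.xQ (h : Fr f x) (i : ℕ) (hq : q ∈ mQ) : ∃ r ∈ mQ, x ^ i * f q * (x ^ i)⁻¹ = f r := by
  induction i with
  | zero => exact ⟨q, hq, by simp⟩
  | succ i ih =>
    obtain ⟨r, hr, e⟩ := ih
    refine ⟨cx r, (by decide +kernel : ∀ r ∈ mQ, cx r ∈ mQ) r hr, ?_⟩
    rw [← h.hx r hr, ← e, pow_succ']; group

/-- an element of `C(s)` that keeps `e23` inside `T` lies in `T` -/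
theorem Fr.lemT (h : Fr f x) (hg : g ∈ C1[f mz]) (he : g * f e23 * g⁻¹ ∈ f.range) : g ∈ f.range := by
  obtain ⟨i, p, rfl⟩ := (h.cen g).1 hg
  obtain ⟨r, -, er⟩ := h.xQ i ((by decide +kernel : ∀ p : Mu, e23⁻¹ * (p * e23 * p⁻¹) ∈ mQ) p)
  have h1 : x ^ i * f e23 * (x ^ i)⁻¹ ∈ f.range := by
    have : x ^ i * f e23 * (x ^ i)⁻¹ = x ^ i * f p * f e23 * (x ^ i * f p)⁻¹ * (f r)⁻¹ := by
      rw [← er]; simp only [map_mul, map_inv]; group
    rw [this]; exact mul_mem he (inv_mem ⟨r, rfl⟩)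
  have h2 : f e23 * (x ^ i)⁻¹ * (f e23)⁻¹ = x ^ i := by
    calc _ = (f e23 * x ^ i * (f e23)⁻¹)⁻¹ := by group
      _ = _ := by rw [← conj_pow, h.ix, inv_pow, inv_inv]
  obtain ⟨t, ht⟩ := mul_mem h1 (inv_mem (⟨e23, rfl⟩ : f e23 ∈ f.range))
  have h3 : x ^ i * x ^ i = f t := by rw [ht, mul_assoc, mul_assoc, ← mul_assoc (f e23), h2]
  have h4 : (x ^ i) ^ 8 = 1 := by
    rw [show 8 = 2 * 4 from rfl, pow_mul, pow_two, h3, ← map_pow, (by decide +kernel : ∀ t : Mu, t ^ 4 = 1) t, map_one]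
  have h5 : (x ^ i) ^ 9 = 1 := by
    rw [← pow_mul, show i * 9 = 3 * (i * 3) by ring, pow_mul, h.x3, one_pow]
  rw [pow_succ, h4, one_mul] at h5
  rw [h5, one_mul]; exact ⟨p, rfl⟩

theorem Fr.nT (h : Fr f x) (hg : g ∈ N[f.range]) : g ∈ f.range := by
  have hn := fun a ha => (mem_normalizer_iff.1 hg a).1 ha
  refine h.lemT (mem_cent1.2 ?_) (hn _ ⟨_, rfl⟩)
  obtain ⟨p, hp⟩ := hn _ ⟨mz, rfl⟩
  have : p = mz := by
    refine (by decide +kernel : ∀ p : Mu, p ≠ 1 → (∀ q, q * p = p * q) → p = mz) p (fun e => ?_) fun q => h.inj ?_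
    · rw [e, map_one, eq_comm, conj_eq_one_iff, ← map_one f, h.eq] at hp
      exact absurd hp (by decide)
    · obtain ⟨r, hr⟩ := (mem_normalizer_iff.1 (inv_mem hg) _).1 ⟨q, rfl⟩
      have := mem_cent1.1 (h.zS ⟨r, rfl⟩)
      rw [map_mul, map_mul, hp]
      calc _ = g * ((g⁻¹ * f q * g⁻¹⁻¹) * f mz) * g⁻¹ := by group
        _ = _ := by rw [← hr, this, hr]; group
  rw [this] at hp
  calc _ = g * f mz * g⁻¹ * g := by group
    _ = _ := by rw [← hp]

theorem Fr.norm32 (h : Fr f x) {K : Subgroup G} (hK : K ≤ f.range) (hc : #K = 32) : f.range ≤ N[K] := by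
  have h1 : #f.range = 64 := by rw [← card_Mu]; exact (Nat.card_congr (MonoidHom.ofInjective h.inj).toEquiv).symm
  have h2 := (K.subgroupOf f.range).card_mul_index
  rw [Nat.card_congr (subgroupOfEquivOfLe hK).toEquiv, hc, h1] at h2
  exact (normal_subgroupOf_iff_le_normalizer hK).1 (normal_of_index_eq_two (by omega))

theorem Fr.card_map (h : Fr f x) (K : Subgroup Mu) : #(K.map f) = #K := card_map_of_injective h.inj
theorem a1_card : #mR3 = 32 := by rw [Nat.card_eq_fintype_card]; decide +kernel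

theorem Fr.a1_k (h : Fr f x) (hc : IsConj (f mz) (f e13)) : ∃ k ∈ N[mR3.map f], k * f e13 * k⁻¹ = f mz := by
  have := Nat.fact_prime_two
  obtain ⟨g, hg⟩ := isConj_iff.1 hc.symm
  obtain ⟨k, -, ek, hk⟩ := SW2.extc (S := f.range) (H := ⊤) (R := f.range) (by rw [top_inf_eq]; exact h.sylL) h.syl.pg
    le_top (mem_top g) hg
  have h0 : mR3.map f ≤ f.range := map_le_range _ _
  have h1 : cj k (mR3.map f) ≤ f.range := by
    intro y hy
    obtain ⟨_, ⟨p, hp, rfl⟩, rfl⟩ := mem_cj'.1 hy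
    exact hk _ ⟨p, rfl⟩ (by rw [← map_mul, ← map_mul, (by decide +kernel : ∀ p ∈ mR3, p * e13 = e13 * p) p hp])
  have c0 : #(mR3.map f) = 32 := by rw [h.card_map, a1_card]
  have n0 := h.norm32 h0 c0
  have n1 := h.norm32 h1 (by rw [card_cj, c0])
  obtain ⟨c, hc, e⟩ := Sylow_Jsub (pHall_subl n1 le_top h.syl) (Q := cj k f.range)
    (by rw [N_cj]; exact cj_mono k n0) (h.syl.pg.map _)
  rw [← cj_mul] at e
  have := mem_norm.1 (n0 (h.nT (mem_norm_of_cj_le e)))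
  rw [cj_mul, mem_norm.1 hc] at this
  exact ⟨k, mem_norm.2 this, ek⟩

/-- the action on `R₃` from the images of the generators -/
def al (p1 p2 p3 p : Mu) : Mu := (bif p.b then p2 else 1) * (bif p.e then p3 else 1) * (bif p.a then p1 else 1) *
  (bif p.d then mz else 1) * (bif p.k then e13 else 1)

theorem a1_dec : ∀ p1 ∈ mR3, p1 * p1 = 1 → ∀ p2 ∈ mR3, p1 * p2 * p1⁻¹ * p2⁻¹ = mz → ∀ p3 ∈ mR3, p1 * p3 * p1⁻¹ * p3⁻¹ = e13 →
    (∀ p ∈ [e12, e24, e23], al p1 p2 p3 (al p1 p2 p3 p) = p ∧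
      al p1 p2 p3 (e34 * al p1 p2 p3 (e34 * al p1 p2 p3 (e34 * p * e34⁻¹) * e34⁻¹) * e34⁻¹) = p) →
    (p1 = e12 ∨ p1 = e12 * e13 * mz) ∧ (p3 = e23 ∨ p3 = e23 * mz) := by decide +kernel

theorem Fr.w3 (h : Fr f x) (hc : IsConj (f mz) (f e13)) : ∃ w ε, W3 f w ε := by
  obtain ⟨k, hk, ek⟩ := h.a1_k hc
  have act : ∀ n ∈ N[mR3.map f], ∀ p ∈ mR3, ∃ q ∈ mR3, f q = n * f p * n⁻¹ := fun n hn p hp =>
    (mem_normalizer_iff.1 hn _).1 ⟨p, hp, rfl⟩
  have hj : f e34 ∈ N[mR3.map f] := h.norm32 (map_le_range _ _) (by rw [h.card_map, a1_card]) ⟨_, rfl⟩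
  have cj1 (p q r : Mu) (e : p * q * p⁻¹ = r) : f p * f q * (f p)⁻¹ = f r := by rw [← e]; simp
  have jj : f e34 * f e34 = 1 := by rw [← map_mul, show e34 * e34 = 1 by decide, map_one]
  have ji : (f e34)⁻¹ = f e34 := inv_eq_of_mul_eq_one_right jj
  -- `k s k⁻¹ ∈ {a, a s}`
  have ks : k * f mz * k⁻¹ = f e13 ∨ k * f mz * k⁻¹ = f (e13 * mz) := by
    obtain ⟨q, hq, e⟩ := act k hk mz (by decide)
    rw [← e, h.eq, h.eq]
    refine (by decide +kernel : ∀ q ∈ mR3, q ≠ 1 → q ≠ mz → (∀ r ∈ mR3, r * q = q * r) → q = e13 ∨ q = e13 * mz) q hq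
      (fun a => ?_) (fun a => ?_) fun r hr => h.inj ?_
    · rw [a, map_one, eq_comm, conj_eq_one_iff, ← map_one f, h.eq] at e
      exact absurd e (by decide)
    · rw [a] at e
      have : f e13 = f mz := mul_left_cancel (mul_right_cancel (ek.trans e))
      exact absurd (h.inj this) (by decide)
    · obtain ⟨r', -, e'⟩ := act k⁻¹ (inv_mem hk) r hr
      have := mem_cent1.1 (h.zS ⟨r', rfl⟩)
      rw [map_mul, map_mul, e]
      calc _ = k * ((k⁻¹ * f r * k⁻¹⁻¹) * f mz) * k⁻¹ := by group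
        _ = _ := by rw [← e', this, e']; group
  obtain ⟨j', hj'⟩ : ∃ j', j' = k⁻¹ * f e34 * k := ⟨_, rfl⟩
  have nj' : j' ∈ N[mR3.map f] := hj' ▸ mul_mem (mul_mem (inv_mem hk) hj) hk
  have j'a : j' * f e13 * j'⁻¹ = f e13 := by
    calc _ = k⁻¹ * (f e34 * (k * f e13 * k⁻¹) * (f e34)⁻¹) * k := by rw [hj']; group
      _ = _ := by rw [ek, cj1 e34 mz mz (by decide), ← ek]; group
  have j's : j' * f mz * j'⁻¹ = f e13 * f mz := by
    calc _ = k⁻¹ * (f e34 * (k * f mz * k⁻¹) * (f e34)⁻¹) * k := by rw [hj']; group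
      _ = k⁻¹ * (f mz * (k * f mz * k⁻¹)) * k := by
        rcases ks with a | a <;> rw [a]
        exacts [by rw [cj1 e34 e13 (mz * e13) (by decide), map_mul], by rw [cj1 e34 _ (mz * (e13 * mz)) (by decide), map_mul f mz]]
      _ = _ := by rw [← ek]; group
  obtain ⟨g, hg⟩ : ∃ g, g = f e34 * j' := ⟨_, rfl⟩
  have ng : g ∈ N[mR3.map f] := hg ▸ mul_mem hj nj'
  have ga : g * f e13 * g⁻¹ = f (e13 * mz) := by
    calc _ = f e34 * (j' * f e13 * j'⁻¹) * (f e34)⁻¹ := by rw [hg]; group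
      _ = _ := by rw [j'a, cj1 e34 e13 (e13 * mz) (by decide)]
  have gs : g * f mz * g⁻¹ = f e13 := by
    calc _ = f e34 * (j' * f mz * j'⁻¹) * (f e34)⁻¹ := by rw [hg]; group
      _ = _ := by rw [j's, ← map_mul, cj1 e34 _ e13 (by decide)]
  have gas : g * f (e13 * mz) * g⁻¹ = f mz := by
    calc _ = (g * f e13 * g⁻¹) * (g * f mz * g⁻¹) := by rw [map_mul]; group
      _ = _ := by rw [ga, gs, ← map_mul]; exact congrArg f (by decide)
  have g3s : g ^ 3 * f mz * (g ^ 3)⁻¹ = f mz := by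
    calc _ = g * (g * (g * f mz * g⁻¹) * g⁻¹) * g⁻¹ := by rw [pow_three]; group
      _ = _ := by rw [gs, ga, gas]
  obtain ⟨r, hr⟩ : g ^ 3 ∈ f.range := by
    refine h.lemT (mem_cent1.2 (by rw [← mul_inv_eq_iff_eq_mul, g3s])) ?_
    obtain ⟨q, -, e⟩ := act _ (pow_mem ng 3) e23 (by decide)
    exact ⟨q, e⟩
  have g12 : (g ^ 4) ^ 3 = 1 := by
    rw [← pow_mul, show 4 * 3 = 3 * 4 from rfl, pow_mul, ← hr, ← map_pow, (by decide +kernel : ∀ t : Mu, t ^ 4 = 1) r, map_one]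
  have jg : f e34 * g * f e34 = g⁻¹ := by
    rw [hg, hj', ← mul_assoc, jj]; simp only [mul_inv_rev, ji, inv_inv]; group
  obtain ⟨w, hw⟩ : ∃ w, w = g ^ 4 * f e34 := ⟨_, rfl⟩
  have nw : w ∈ N[mR3.map f] := hw ▸ mul_mem (pow_mem ng 4) hj
  have ww : w * w = 1 := by
    have : f e34 * g ^ 4 * f e34 = (g ^ 4)⁻¹ := by rw [← inv_pow, ← jg]; nth_rw 4 [← ji]; rw [conj_pow, ji]
    calc _ = g ^ 4 * (f e34 * g ^ 4 * f e34) := by rw [hw]; group
      _ = 1 := by rw [this, mul_inv_cancel]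
  have wi : w⁻¹ = w := inv_eq_of_mul_eq_one_right ww
  have br : (w * f e34) ^ 3 = 1 := by rw [hw, mul_assoc, jj, mul_one, g12]
  have wa : w * f e13 * w⁻¹ = f mz := by
    calc _ = g ^ 3 * (g * (f e34 * f e13 * (f e34)⁻¹) * g⁻¹) * (g ^ 3)⁻¹ := by rw [hw, pow_succ]; group
      _ = _ := by rw [cj1 e34 e13 (e13 * mz) (by decide), gas, g3s]
  have ws : w * f mz * w⁻¹ = f e13 := by
    rw [← wa]
    calc _ = (w * w) * f e13 * (w * w)⁻¹ := by group
      _ = _ := by rw [ww]; group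
  obtain ⟨p1, m1, e1⟩ := act w nw e12 (by decide)
  obtain ⟨p2, m2, e2⟩ := act w nw e23 (by decide)
  obtain ⟨p3, m3, e3⟩ := act w nw e24 (by decide)
  have hal : ∀ p ∈ mR3, f (al p1 p2 p3 p) = w * f p * w⁻¹ ∧ al p1 p2 p3 p ∈ mR3 := by
    intro p hp
    have e : p = (bif p.b then e23 else 1) * (bif p.e then e24 else 1) * (bif p.a then e12 else 1) *
      (bif p.d then e13 else 1) * (bif p.k then mz else 1) := by revert p; decide +kernel
    have k (b : Bool) (u v : Mu) (e : f u = w * f v * w⁻¹) : f (bif b then u else 1) = w * f (bif b then v else 1) * w⁻¹ := by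
      cases b <;> simp [e]
    have : f (al p1 p2 p3 p) = w * f p * w⁻¹ := by
      conv_rhs => rw [e]
      simp only [al, map_mul]
      rw [k p.a _ _ e1, k p.b _ _ e2, k p.e _ _ e3, k p.k e13 mz ws.symm]
      nth_rw 1 [k p.d mz e13 wa.symm]
      group
    obtain ⟨q, hq, e'⟩ := act w nw p hp
    exact ⟨this, h.inj (this.trans e'.symm) ▸ hq⟩
  have m34 : ∀ p ∈ mR3, e34 * p * e34⁻¹ ∈ mR3 := by decide +kernel
  obtain ⟨d1, d3⟩ := a1_dec p1 m1 (h.inj (by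
      rw [map_mul, e1, map_one]
      calc _ = w * (f e12 * f e12) * w⁻¹ := by group
        _ = 1 := by rw [← map_mul, show e12 * e12 = 1 by decide, map_one]; group)) p2 m2
    (h.inj (by
      rw [← wa, show e13 = e12 * e23 * e12⁻¹ * e23⁻¹ by decide]
      simp only [map_mul, map_inv, e1, e2]; group)) p3 m3
    (h.inj (by
      rw [← ws, show mz = e12 * e24 * e12⁻¹ * e24⁻¹ by decide]
      simp only [map_mul, map_inv, e1, e3]; group))
    fun p hp => by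
      have hp' : p ∈ mR3 := by revert p; decide +kernel
      refine ⟨h.inj ?_, h.inj ?_⟩
      · rw [(hal _ (hal _ hp').2).1, (hal _ hp').1]
        calc _ = (w * w) * f p * (w * w)⁻¹ := by group
          _ = _ := by rw [ww]; group
      · have a1 := hal _ (m34 _ hp')
        have a2 := hal _ (m34 _ a1.2)
        rw [(hal _ (m34 _ a2.2)).1, map_mul, map_mul, a2.1, map_mul, map_mul, a1.1, map_mul, map_mul, map_inv]
        calc _ = (w * f e34) ^ 3 * f p * ((w * f e34) ^ 3)⁻¹ := by rw [pow_three]; group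
          _ = _ := by rw [br]; group
  obtain ⟨ε, e4⟩ : ∃ ε : Bool, w * f e24 * w⁻¹ = f (bif ε then e23 * mz else e23) := by
    rcases d3 with a | a
    exacts [⟨false, by rw [← e3, a]; rfl⟩, ⟨true, by rw [← e3, a]; rfl⟩]
  rcases d1 with a | a
  · exact ⟨w, ε, ww, by rw [← e1, a], wa, e4, br⟩
  · refine ⟨f e24 * w * (f e24)⁻¹, ε, by rw [conj_mul, ww]; group, ?_, ?_, ?_, ?_⟩
    · calc _ = f e24 * ((w * f e12 * w⁻¹) * (w * ((f e12)⁻¹ * (f e24)⁻¹ * f e12 * f e24) * w⁻¹)) * (f e24)⁻¹ := by group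
        _ = _ := by
          rw [← map_inv, ← map_inv, ← map_mul, ← map_mul, ← map_mul, show e12⁻¹ * e24⁻¹ * e12 * e24 = mz by decide, ws, ← e1, a,
            ← map_mul, map_inv, cj1 _ _ e12 (by decide)]
    · calc _ = f e24 * (w * ((f e24)⁻¹ * f e13 * (f e24)⁻¹⁻¹) * w⁻¹) * (f e24)⁻¹ := by group
        _ = _ := by rw [← map_inv f e24, cj1 _ _ e13 (by decide), wa, map_inv, cj1 _ _ mz (by decide)]
    · calc _ = f e24 * (w * f e24 * w⁻¹) * (f e24)⁻¹ := by group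
        _ = _ := by rw [e4, cj1 e24 _ (bif ε then e23 * mz else e23) (by cases ε <;> decide)]
    · rw [← cj1 e24 e34 e34 (by decide), conj_mul, conj_pow, br]; group

end Cfsg.Agent.W4
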