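import Cfsg.Agent.W4.A0b
import Cfsg.Agent.W4.A1

/-! The Curtis–Tits relations in the type A frame (helper22): `Fr.fa`. -/

set_option autoImplicit false
set_option linter.unusedSectionVars false

namespace Cfsg.Agent.W4

open Cfsg.Agent.BG Subgroup

variable {G : Type*} [Group G] [Finite G] {f : Mu →* G} {x w g g' : G}

/-- the linear map on `A` with the given images of `e23, e24, e13, mz` -/
def a3lin (i23 i24 i13 iz p : Mu) : Mu :=
  (bif p.b then i23 else 1) * (bif p.e then i24 else 1) * (bif p.d then i13 else 1) * (bif p.k then iz else 1)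

/-- `g` acts on `A` as `ρ` -/
def A3Act (f : Mu →* G) (g : G) (ρ : Mu → Mu) : Prop := ∀ p ∈ mA, ρ p ∈ mA ∧ g * f p * g⁻¹ = f (ρ p)

theorem a3_lin {i23 i24 i13 iz : Mu} (h23 : w * f e23 * w⁻¹ = f i23) (h24 : w * f e24 * w⁻¹ = f i24)
    (h13 : w * f e13 * w⁻¹ = f i13) (hz : w * f mz * w⁻¹ = f iz) (hm : ∀ p ∈ mA, a3lin i23 i24 i13 iz p ∈ mA) :
    A3Act f w (a3lin i23 i24 i13 iz) := fun p hp => by
  refine ⟨hm p hp, ?_⟩
  have k : ∀ (b : Bool) {u v : Mu}, w * f u * w⁻¹ = f v → w * f (bif b then u else 1) * w⁻¹ = f (bif b then v else 1) :=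
    fun b _ _ e => by cases b; exacts [by simp, e]
  rw [(by decide +kernel : ∀ p ∈ mA, p = a3lin e23 e24 e13 mz p) p hp, a3lin, map_mul, map_mul, map_mul, ← conj_mul,
    ← conj_mul, ← conj_mul, k _ h23, k _ h24, k _ h13, k _ hz, ← map_mul, ← map_mul, ← map_mul,
    ← (by decide +kernel : ∀ p ∈ mA, p = (bif p.b then e23 else 1) * (bif p.e then e24 else 1) *
      (bif p.d then e13 else 1) * (bif p.k then mz else 1)) p hp]
  rfl

theorem A3Act.mul {ρ ρ' : Mu → Mu} (h : A3Act f g ρ) (h' : A3Act f g' ρ') : A3Act f (g * g') (fun p => ρ (ρ' p)) :=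
  fun p hp => ⟨(h _ (h' p hp).1).1, by rw [← (h _ (h' p hp).1).2, ← (h' p hp).2]; group⟩

theorem a3_T (q : Mu) : A3Act f (f q) (fun p => q * p * q⁻¹) := fun p hp =>
  ⟨(by decide +kernel : ∀ p ∈ mA, ∀ q, q * p * q⁻¹ ∈ mA) p hp q, by simp⟩

theorem Fr.a3_fin (h : Fr f x) {ρ : Mu → Mu} (ha : A3Act f g ρ) (hz : ρ mz = mz) :
    ∃ q, g = f q ∧ ∀ p ∈ mA, ρ p = q * p * q⁻¹ := by
  have e := (ha mz (by decide)).2
  rw [hz] at e
  obtain ⟨q, rfl⟩ := h.lemT (mem_cent1.2 (mul_inv_eq_iff_eq_mul.1 e)) ⟨_, (ha e23 (by decide)).2.symm⟩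
  exact ⟨q, rfl, fun p hp => h.inj (by rw [← (ha p hp).2]; simp)⟩

theorem a3_sw (ww : w * w = 1) {a b : G} (e : w * a * w⁻¹ = b) : w * b * w⁻¹ = a := by
  rw [← e]
  calc _ = (w * w) * a * (w * w)⁻¹ := by group
    _ = _ := by rw [ww]; group

theorem a3_mul {a b a' b' : Mu} (e : w * f a * w⁻¹ = f a') (e' : w * f b * w⁻¹ = f b') :
    w * f (a * b) * w⁻¹ = f (a' * b') := by rw [map_mul, map_mul, ← conj_mul, e, e']

theorem W3.act (h : W3 f w false) : A3Act f w (a3lin e24 e23 mz e13) :=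
  a3_lin (a3_sw h.ww h.h24) h.h24 h.h13 (a3_sw h.ww h.h13) (by decide +kernel)

theorem Fr.a3_b23 (h : Fr f x) (h3 : W3 f w false) : (x * f e23 * w) ^ 3 = 1 := by
  have ii : f e23 * f e23 = 1 := by rw [← map_mul]; exact (congrArg f (by decide)).trans (map_one f)
  have i34 : f e34 * f e34 = 1 := by rw [← map_mul]; exact (congrArg f (by decide)).trans (map_one f)
  have a2 : ∀ p ∈ mQ, x * f e23 * f p * (x * f e23)⁻¹ = f (cx (e23 * p * e23⁻¹)) := fun p hp => by
    rw [← h.hx _ ((by decide +kernel : ∀ p ∈ mQ, e23 * p * e23⁻¹ ∈ mQ) p hp), map_mul, map_mul, map_inv]; group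
  obtain ⟨y, hy⟩ : ∃ y, y = x * f e23 := ⟨_, rfl⟩
  rw [← hy] at a2 ⊢
  have ei : (f e23)⁻¹ = f e23 := inv_eq_of_mul_eq_one_right ii
  have yy : y * y = 1 := by
    have := h.ix
    rw [ei] at this
    rw [hy, mul_assoc, ← mul_assoc (f e23), this, mul_inv_cancel]
  have yi : y⁻¹ = y := inv_eq_of_mul_eq_one_right yy
  have wi : w⁻¹ = w := inv_eq_of_mul_eq_one_right h3.ww
  have ti : (f e34)⁻¹ = f e34 := inv_eq_of_mul_eq_one_right i34
  have y12 : y * f e12 * y⁻¹ = f e13 := a2 e12 (by decide)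
  have y13 : y * f e13 * y⁻¹ = f e12 := a2 e13 (by decide)
  have yz : y * f mz * y⁻¹ = f mz := a2 mz (by decide)
  have y24 : y * f e24 * y⁻¹ = f e34 := a2 e24 (by decide)
  have wz := a3_sw h3.ww h3.h13
  have w23 : w * f e23 * w⁻¹ = f e24 := a3_sw h3.ww h3.h24
  have c : ∀ {a b d : G}, w * a * w⁻¹ = b → y * b * y⁻¹ = d → y * w * a * (y * w)⁻¹ = d := fun e e' => by
    rw [← e', ← e]; group
  have c3 : ∀ {a b d : G}, y * w * a * (y * w)⁻¹ = b → y * w * b * (y * w)⁻¹ = d → y * w * d * (y * w)⁻¹ = a →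
      (y * w) ^ 3 * a * ((y * w) ^ 3)⁻¹ = a := fun e1 e2 e3 => by
    conv_rhs => rw [← e3, ← e2, ← e1]
    simp only [pow_three', mul_inv_rev, mul_assoc]
  have g12 := c h3.h12 y12
  have g13 := c h3.h13 yz
  have gz := c wz y13
  obtain ⟨i, p, e⟩ := (h.cen _).1 (mem_cent1.2 (mul_inv_eq_iff_eq_mul.1 (c3 gz g12 g13)))
  have u13 := c3 g13 gz g12
  have u12 := c3 g12 g13 gz
  -- `u = f p`
  have e' : ∃ p, (y * w) ^ 3 = f p := by
    have m : ∀ q, cx q ∈ mQ := by decide +kernel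
    have hq := (by decide +kernel : ∀ p : Mu, p * e13 * p⁻¹ ∈ mQ ∧ cx (p * e13 * p⁻¹) ≠ e13 ∧
      cx (cx (p * e13 * p⁻¹)) ≠ e13) p
    have k : x ^ i * f (p * e13 * p⁻¹) * (x ^ i)⁻¹ = f e13 := by
      rw [← u13, e, map_mul, map_mul, map_inv]; group
    rw [← Nat.mod_add_div i 3, pow_add, pow_mul, h.x3, one_pow, mul_one] at e k
    have := Nat.mod_lt i (show 3 > 0 by norm_num)
    interval_cases i % 3
    · exact ⟨p, by rw [e, pow_zero, one_mul]⟩
    · rw [pow_one, h.hx _ hq.1] at k; exact absurd (h.inj k) hq.2.1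
    · refine absurd (h.inj ?_) hq.2.2
      rw [← h.hx _ (m _), ← h.hx _ hq.1, ← k]; simp only [pow_two, mul_inv_rev, mul_assoc]
  obtain ⟨p, e⟩ := e'
  have br : f e34 * w * f e34 = w * f e34 * w := by
    have := h3.br
    calc _ = (w * f e34 * w)⁻¹ * ((w * f e34) ^ 3) := by
          rw [mul_inv_rev, mul_inv_rev, wi, ti, pow_three]
          calc _ = w * (f e34 * (w * w) * f e34) * w * (f e34 * w * f e34) := by rw [h3.ww, mul_one, i34, mul_one, h3.ww, one_mul]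
            _ = _ := by group
      _ = _ := by rw [this, mul_one, mul_inv_rev, mul_inv_rev, wi, ti, mul_assoc]
  have s2 : y * f e23 * y⁻¹ = f e23 * y * f e23 := by
    have := h.ix
    rw [ei] at this
    calc _ = x * (f e23 * x⁻¹ * (f e23)⁻¹) * f e23 := by
          rw [hy]; simp only [mul_inv_rev, mul_assoc, inv_mul_cancel, mul_one, mul_inv_cancel_left]
      _ = x * x * f e23 := by rw [← conj_inv, h.ix, inv_inv]
      _ = x⁻¹ * f e23 := by rw [eq_inv_of_mul_eq_one_left ((pow_three' x).symm.trans h.x3)]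
      _ = _ := by rw [hy, ← this]; simp only [mul_assoc]
  have y34 := a3_sw yy y24
  have g1 : y * w * f e24 * (y * w)⁻¹ = f e23 * y * f e23 := c h3.h24 s2
  have g2 : y * w * (f e23 * y * f e23) * (y * w)⁻¹ = f e34 * (f p * w) * f e34 := by
    rw [← e, ← y24, ← w23, mul_inv_rev, yi, wi, pow_three]
    calc _ = y * (w * f e23 * w) * (w * y * w) * (w * f e23 * w) * y := by
          calc _ = y * w * f e23 * (w * w) * y * (w * w) * f e23 * w * y := by rw [h3.ww]; simp only [mul_assoc, mul_one]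
            _ = _ := by simp only [mul_assoc]
      _ = y * (w * f e23 * w) * (y * y) * (w * y * w) * (y * (w * w) * y) * (w * f e23 * w) * y := by
          rw [h3.ww, mul_one y, yy]; simp only [mul_assoc, mul_one]
      _ = _ := by simp only [mul_assoc]
  have g3 : y * w * (f e34 * (f p * w) * f e34) * (y * w)⁻¹ = y * w * f (e34 * p * e34) * (y * w)⁻¹ * f e24 := by
    rw [← y34, map_mul, map_mul]
    calc _ = y * w * (f e34 * f p * (f e34 * f e34) * w * f e34) * (y * w)⁻¹ := by rw [i34]; group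
      _ = y * w * (f e34 * f p * f e34 * (w * f e34 * w)) * (y * w)⁻¹ := by rw [← br]; group
      _ = y * w * (f e34 * f p * f e34) * w * f e34 * (w * w⁻¹) * y⁻¹ := by group
      _ = y * w * (f e34 * f p * f e34) * w⁻¹ * f e34 * y⁻¹ := by rw [mul_inv_cancel, mul_one, wi]
      _ = _ := by group
  have g4 : f p * f e24 * (f p)⁻¹ = y * w * f (e34 * p * e34) * (y * w)⁻¹ * f e24 := by
    rw [← g3, ← g2, ← g1, ← e]; simp only [pow_three', mul_inv_rev, mul_assoc]
  rw [e] at u12 u13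
  simp only [← map_inv, ← map_mul, h.eq] at u12 u13
  have hp := (by decide +kernel : ∀ p : Mu, p * e12 * p⁻¹ = e12 → p * e13 * p⁻¹ = e13 →
    (p * e24 * p⁻¹ = e24 ∧ (e34 * p * e34 = 1 → p = 1)) ∨ (p * e24 * p⁻¹ = mz * e24 ∧ e34 * p * e34 ≠ e13)) p u12 u13
  rw [← map_inv, ← map_mul, ← map_mul] at g4
  rcases hp with ⟨k1, k2⟩ | ⟨k1, k2⟩ <;> rw [k1] at g4
  · have : f (e34 * p * e34) = 1 := conj_eq_one_iff.1 (mul_right_cancel (g4.symm.trans (one_mul _).symm))
    rw [e, k2 (h.inj (this.trans (map_one f).symm)), map_one]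
  · rw [map_mul, mul_left_inj, ← g13] at g4
    exact absurd (h.inj (mul_left_cancel (mul_right_cancel g4))).symm k2

theorem Fr.a3_core (h : Fr f x) {w1 w3 : G} (h3 : W3 f w3 false) {ε : Bool} (h1 : W3 (f.comp tauH) w1 ε) :
    ∃ w3', FA f x w1 w3' := by
  have k34 : w1 * f e34 * w1⁻¹ = f e34 := by simpa using h1.h12
  have k24 : w1 * f e24 * w1⁻¹ = f mz := by simpa using h1.h13
  have kbr : (w1 * f e12) ^ 3 = 1 := by simpa using h1.br
  have kz := a3_sw h1.ww k24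
  have a3 := h3.act
  cases ε
  swap
  · have k13 : w1 * f e13 * w1⁻¹ = f (e23 * mz) := by simpa using h1.h24
    have a1 : A3Act f w1 (a3lin (e13 * e24) mz (e23 * mz) e24) :=
      a3_lin (a3_mul (a3_sw h1.ww k13) kz) k24 k13 kz (by decide +kernel)
    obtain ⟨q, -, hq⟩ := h.a3_fin (a3.mul (a1.mul (a3.mul ((a3_T e12).mul (a1.mul ((a3_T e34).mul (a3.mul a1)))))))
      (by decide +kernel)
    exfalso; beta_reduce at hq; revert q; decide +kernel
  have k13 : w1 * f e13 * w1⁻¹ = f e23 := by simpa using h1.h24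
  have a1 : A3Act f w1 (a3lin e13 mz e23 e24) := a3_lin (a3_sw h1.ww k13) k24 k13 kz (by decide +kernel)
  have nc : ¬ IsConj (f mz) (f mc) := fun hc => by
    obtain ⟨w, ε, hw⟩ := h.sigma.tau.w3 (by simpa using hc)
    have lc : w * f mc * w⁻¹ = f mz := by simpa using hw.h13
    have lz := a3_sw hw.ww lc
    cases ε
    · have l13 : w * f e13 * w⁻¹ = f e23 := by simpa using hw.h24
      have a : A3Act f w (a3lin e13 (mz * e23 * mc) e23 mc) :=
        a3_lin (a3_sw hw.ww l13) (a3_mul (a3_mul lc l13) lz) l13 lz (by decide +kernel)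
      obtain ⟨q, -, hq⟩ := h.a3_fin (a3.mul (a1.mul (a.mul a3))) (by decide +kernel)
      beta_reduce at hq; revert q; decide +kernel
    · have l13 : w * f e13 * w⁻¹ = f (e23 * mz) := by simpa using hw.h24
      have a : A3Act f w (a3lin (e13 * mc) (mz * (e23 * mz) * mc) (e23 * mz) mc) :=
        a3_lin (a3_mul (a3_sw hw.ww l13) lz) (a3_mul (a3_mul lc l13) lz) l13 lz (by decide +kernel)
      obtain ⟨q, -, hq⟩ := h.a3_fin (a3.mul (a1.mul (a.mul ((a3_T e12).mul a1)))) (by decide +kernel)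
      beta_reduce at hq; revert q; decide +kernel
  have b12 : (x * f e23 * w1) ^ 3 = 1 := by simpa using h.tau.a3_b23 h1
  have fin : ∀ w, W3 f w false → w1 * w * (w1 * w) = 1 → FA f x w1 w := fun w hw e =>
    ⟨h, hw, h1.ww, k34, k24, k13, kbr, b12, h.a3_b23 hw, by
      rw [eq_inv_of_mul_eq_one_left e, mul_inv_rev, inv_eq_of_mul_eq_one_right hw.ww,
        inv_eq_of_mul_eq_one_right h1.ww], nc⟩
  obtain ⟨q, e, hq⟩ := h.a3_fin ((a1.mul a3).mul (a1.mul a3)) (by decide +kernel)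
  have qA : q ∈ mA ∧ q⁻¹ = q := by beta_reduce at hq; revert hq; clear e; revert q; decide +kernel
  have i1 : w1⁻¹ = w1 := inv_eq_of_mul_eq_one_right h1.ww
  have i3 : w3⁻¹ = w3 := inv_eq_of_mul_eq_one_right h3.ww
  have q1 : a3lin e13 mz e23 e24 q = q := h.inj (by
    rw [← (a1 q qA.1).2]
    conv_rhs => rw [← qA.2, map_inv]
    rw [← e, i1, mul_inv_rev, mul_inv_rev, i1, i3]
    calc _ = (w1 * w1) * w3 * w1 * w3 * w1 := by group
      _ = _ := by rw [h1.ww]; group)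
  have q3 : a3lin e24 e23 mz e13 q = q := h.inj (by
    rw [← (a3 q qA.1).2]
    conv_rhs => rw [← qA.2, map_inv]
    rw [← e, i3, mul_inv_rev, mul_inv_rev, i1, i3]
    calc _ = w3 * w1 * w3 * w1 * (w3 * w3) := by group
      _ = _ := by rw [h3.ww]; group)
  rcases (by decide +kernel : ∀ q ∈ mA, a3lin e13 mz e23 e24 q = q → a3lin e24 e23 mz e13 q = q →
    q = 1 ∨ q = e13 * mz * e23 * e24) q qA.1 q1 q3 with rfl | rfl
  · exact ⟨w3, fin w3 h3 (e.trans (map_one f))⟩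
  have cz : ∀ p, f mz * f p * (f mz)⁻¹ = f p := fun p => by
    rw [← map_inv, ← map_mul, ← map_mul]; exact congrArg f (by revert p; decide +kernel)
  have cj : ∀ {p r : Mu}, w3 * f p * w3⁻¹ = f r → f mz * w3 * (f mz)⁻¹ * f p * (f mz * w3 * (f mz)⁻¹)⁻¹ = f r :=
    fun {p r} k => by
      rw [← cz r, ← k]
      conv_lhs => rw [← cz p]
      group
  refine ⟨f mz * w3 * (f mz)⁻¹, fin _ ⟨by rw [conj_mul, h3.ww]; group, cj h3.h12, cj h3.h13, cj h3.h24, by
    rw [← cz e34, conj_mul, conj_pow, h3.br]; group⟩ ?_⟩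
  have n : f mz * w3 * (f mz)⁻¹ = f (mz * e13) * w3 := by
    rw [map_mul, ← a3_sw h3.ww h3.h13, ← map_inv, show mz⁻¹ = mz by decide]; group
  have m1 := (a1 (mz * e13) (by decide)).2
  have m2 := (((a1.mul a3).mul a1) (mz * e13) (by decide)).2
  calc _ = (w1 * f (mz * e13) * w1⁻¹) * (w1 * w3 * w1 * f (mz * e13) * (w1 * w3 * w1)⁻¹) * (w1 * w3 * (w1 * w3)) := by
        rw [n]; group
    _ = 1 := by rw [m1, m2, e, ← map_mul, ← map_mul]; exact (congrArg f (by decide +kernel)).trans (map_one f)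

theorem Fr.fa (h : Fr f x) (ha : IsConj (f mz) (f e13)) (hb : IsConj (f mz) (f e24)) :
    ∃ (f' : Mu →* G) (w1 w3 : G), FA f' x w1 w3 := by
  have key : ∀ {f : Mu →* G} {w}, Fr f x → W3 f w false → IsConj (f mz) (f e24) →
      ∃ (f' : Mu →* G) (w1 w3 : G), FA f' x w1 w3 := fun {f w} h h3 hb => by
    obtain ⟨w1, ε, h1⟩ := h.tau.w3 (by simpa using hb)
    obtain ⟨w3, k⟩ := h.a3_core h3 h1
    exact ⟨f, w1, w3, k⟩
  obtain ⟨w, ε, h3⟩ := h.w3 ha
  cases ε
  · exact key h h3 hb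
  · exact key (w := w) h.zeta ⟨h3.ww, by simpa using h3.h12, by simpa using h3.h13, by simpa using h3.h24,
      by simpa using h3.br⟩ (by simpa using hb)

end Cfsg.Agent.W4
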