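import Cfsg.Agent.W4.A
import Cfsg.Agent.Spor.J.W4a
import Cfsg.Agent.Spor.J.W4b
import Cfsg.Agent.Spor.Act6

/-! The Curtis–Tits relations of `L₄(2)` define `A₈` (helper20): `FA.fh`. -/

set_option autoImplicit false
set_option maxRecDepth 100000
set_option linter.unusedSectionVars false

namespace Cfsg.Agent.W4

open Equiv Subgroup Cfsg.Agent.Spor

variable {G : Type*} [Group G]

/-- The letters. -/
def a4Lets (f : Mu →* G) (x w1 w3 : G) : ℕ → G
  | 0 => f e12 | 1 => f e23 | 2 => f e34 | 3 => f e13 | 4 => f e24 | 5 => f mz | 6 => x | 7 => x⁻¹ | 8 => w3 | 9 => w1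
  | _ => 1

theorem a4_rels [Finite G] {f : Mu →* G} {x w1 w3 : G} (h : FA f x w1 w3) :
    ∀ r ∈ JW4b.rels, ev (a4Lets f x w1 w3) r = 1 := by
  have o : ∀ {p : Mu}, p = 1 → f p = 1 := fun e => by rw [e, map_one]
  have s : ∀ {p : Mu}, p * p = 1 → f p * f p = 1 := fun e => by rw [← map_mul, e, map_one]
  have c : ∀ {w a b : G}, w * w = 1 → w * a * w⁻¹ = b → b * b = 1 → w * a * w * b = 1 := fun {w a b} h1 h2 h3 => by
    rw [inv_eq_of_mul_eq_one_right h1] at h2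
    rw [h2, h3]
  have p : ∀ {g k : G}, g = 1 → k = g → k = 1 := fun h e => e.trans h
  simp only [JW4b.rels, List.forall_mem_cons]
  refine ⟨rfl, ?_, ?_, ?_, ?_, ?_, ?_, ?_, ?_, ?_, ?_, ?_, ?_, ?_, ?_, ?_, ?_, ?_, ?_, ?_, ?_, ?_, ?_, ?_, ?_, ?_, ?_, ?_,
    ?_, ?_, ?_, ?_, ?_, ?_, ?_, ?_, ?_, ?_, ?_, ?_, ?_, ?_, ?_, ?_, by simp⟩ <;> simp only [ev, a4Lets, one_mul]
  iterate 6 exact s (by decide)
  · exact inv_mul_cancel x
  · exact mul_inv_cancel x
  · exact h.h3.ww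
  · exact h.ww
  iterate 15 (simp only [← map_mul]; exact o (by decide))
  · exact p h.x3 (pow_three' x).symm
  iterate 5 (rw [h.hx _ (by decide)]; simp only [← map_mul]; exact o (by decide))
  · have := h.ix
    rw [inv_eq_of_mul_eq_one_right (s (p := e23) (by decide))] at this
    rw [this, inv_mul_cancel]
  exacts [c h.h3.ww h.h3.h12 (s (by decide)), c h.h3.ww h.h3.h13 (s (by decide)), c h.h3.ww h.h3.h24 (s (by decide)),
    p h.h3.br (by simp only [pow_succ, pow_zero, one_mul, mul_assoc]), c h.ww h.h34 (s (by decide)),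
    c h.ww h.h24 (s (by decide)), c h.ww h.h13 (s (by decide)),
    p h.br (by simp only [pow_succ, pow_zero, one_mul, mul_assoc]),
    p h.b12 (by simp only [pow_succ, pow_zero, one_mul, mul_assoc]),
    p h.b23 (by simp only [pow_succ, pow_zero, one_mul, mul_assoc]),
    c h.ww (by rw [h.b13, mul_inv_cancel_right]) h.h3.ww]

theorem a4_up {g : ℕ → G} (he : g 255 = 1) (hg : ∀ r ∈ JW4b.rels, ev g r = 1) :
    CardLe (genL g (List.range 10)) 20160 :=
  (cardLe_bot.of_relIndex (JW4a.relIndex_le he (rels_of_sub hg (by decide +kernel)) fun _ h => nomatch h)).of_relIndex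
    (JW4b.relIndex_le he hg fun _ hw => genW_le_genL (by decide) (mem_genW g hw))

theorem a4_relsP : ∀ r ∈ JW4b.rels, ev (a4Lets π Px Pw1 Pw3) r = 1 := by decide +kernel

theorem a4_top : genL (a4Lets π Px Pw1 Pw3) (List.range 10) = ⊤ := by
  have key : ∀ x y : Fin 8, x ≠ y → ∃ w ∈ [[], [0, 9, 2, 8, 5, 1], [9, 8, 2, 0], [7, 0, 9, 8, 6, 4, 0],
      [7, 9, 2, 8, 6, 3, 2], [2, 0, 6, 9, 8, 6, 5, 1], [6, 9, 8, 7, 2, 0], [9, 8, 5, 1, 2, 0], [0, 9, 2, 8],
      [7, 9, 1, 2, 8, 6, 3], [7, 4, 0, 9, 8, 6, 4], [6, 9, 8, 2, 6, 5, 1, 0], [2, 0, 6, 9, 8, 7], [5, 4, 3],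
      [6, 9, 2, 8, 2, 6, 0, 1], [0, 6, 9, 8, 6, 5, 1, 0], [7, 9, 8, 4, 7, 5, 1, 0], [7, 0, 9, 2, 8, 0, 6, 4, 0],
      [0, 6, 9, 8, 7, 0], [2, 6, 9, 8, 7, 2], [3, 7, 9, 2, 8, 2, 6, 3], [7, 9, 8, 6, 2, 0], [2, 0], [9, 2, 8, 5, 1, 2],
      [0, 9, 8, 0], [0, 9, 8, 5, 1, 0], [9, 2, 8, 2], [4, 3, 2, 0]],
      (ev (a4Lets π Px Pw1 Pw3) w).1 = swap 0 1 * swap x y := by decide +kernel
  set H := (genL (a4Lets π Px Pw1 Pw3) (List.range 10)).map A8.subtype with hH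
  have k2 : ∀ x y : Fin 8, x ≠ y → swap 0 1 * swap x y ∈ H := fun x y h => by
    obtain ⟨w, hw, e⟩ := key x y h
    exact ⟨_, genW_le_genL (by decide) (mem_genW _ hw), e⟩
  have k3 : ∀ σ : Perm (Fin 8), (Perm.sign σ = 1 → σ ∈ H) ∧ (Perm.sign σ = -1 → swap 0 1 * σ ∈ H) := fun σ => by
    induction σ using Perm.swap_induction_on with
    | one => exact ⟨fun _ => one_mem _, fun h => absurd h (by decide)⟩
    | swap_mul f x y h ih =>
      rw [map_mul, Perm.sign_swap h]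
      refine ⟨fun e => ?_, fun e => ?_⟩
      · have := mul_mem (inv_mem (k2 x y h)) (ih.2 (by rwa [neg_one_mul, neg_eq_iff_eq_neg] at e))
        rwa [mul_inv_rev, mul_assoc, inv_mul_cancel_left, swap_inv] at this
      · rw [← mul_assoc]
        exact mul_mem (k2 x y h) (ih.1 (by rwa [neg_one_mul, neg_inj] at e))
  refine top_le_iff.1 fun σ _ => ?_
  obtain ⟨τ, h1, h2⟩ := (k3 σ.1).1 (Perm.mem_alternatingGroup.1 σ.2)
  exact (show τ = σ from Subtype.ext h2) ▸ h1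

theorem FA.fh' [Finite G] {f : Mu →* G} {x w1 w3 : G} (h : FA f x w1 w3) :
    ∃ ψ : A8 →* G, FH ψ ∧ ψ.comp π = f ∧ ψ Px = x ∧ ψ Pw1 = w1 ∧ ψ Pw3 = w3 := by
  have hc : Nat.card A8 = 20160 := by
    rw [nat_card_alternatingGroup, Nat.card_eq_fintype_card, Fintype.card_fin]; rfl
  obtain ⟨ρ, k1, -⟩ := exists_hom_of_up a4_top hc (h := a4Lets f x w1 w3)
    (a4_up (prG_255 rfl rfl) (prG_rels a4_relsP (a4_rels h)))
  have := alternatingGroup.isSimpleGroup (α := Fin 8) (by simp)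
  have e : ρ.comp π = f := by
    have hp : ∀ p : Mu, p = (bif p.c then e34 else 1) * (bif p.b then e23 else 1) * (bif p.e then e24 else 1) *
      (bif p.a then e12 else 1) * (bif p.d then e13 else 1) * (bif p.k then mz else 1) := by decide +kernel
    have m : ∀ (b : Bool) (q : Mu), q ∈ (ρ.comp π).eqLocus f → (bif b then q else 1) ∈ (ρ.comp π).eqLocus f :=
      fun b q hq => by cases b; exacts [one_mem _, hq]
    refine MonoidHom.ext fun p => show p ∈ (ρ.comp π).eqLocus f from hp p ▸ ?_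
    exact mul_mem (mul_mem (mul_mem (mul_mem (mul_mem (m _ _ (k1 2 (by decide))) (m _ _ (k1 1 (by decide))))
      (m _ _ (k1 4 (by decide)))) (m _ _ (k1 0 (by decide)))) (m _ _ (k1 3 (by decide)))) (m _ _ (k1 5 (by decide)))
  have ex : ρ Px = x := k1 6 (by decide)
  have hi : Function.Injective ρ := (MonoidHom.ker_eq_bot_iff ρ).1 ((ρ.normal_ker.eq_bot_or_eq_top).resolve_right
    fun k => absurd (h.inj (show f mz = f 1 by
      rw [map_one, show f mz = ρ (π mz) from (k1 5 (by decide)).symm, ← MonoidHom.mem_ker, k]; trivial)) (by decide))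
  refine ⟨ρ, ⟨by rw [e, ex]; exact h.toFr, hi, ?_⟩, e, ex, k1 9 (by decide), k1 8 (by decide)⟩
  have := h.nc
  rwa [← e] at this

theorem FA.fh [Finite G] {f : Mu →* G} {x w1 w3 : G} (h : FA f x w1 w3) : ∃ ψ : A8 →* G, FH ψ :=
  h.fh'.imp fun _ k => k.1

end Cfsg.Agent.W4
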