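import Cfsg.Agent.W4.A

/-! Type B: `s` is not conjugate to `c` (`Gen.b_nc`), so there are two classes of involutions. (helper6) -/

set_option autoImplicit false
set_option linter.unusedSectionVars false
set_option linter.unusedVariables false

namespace Cfsg.Agent.W4

open Cfsg.Agent.BG Subgroup

variable {G : Type*} [Group G] [Finite G] {s x w a c : G} {Q : Subgroup G}

theorem QG.bn_nc (h : QG s x a c) : ¬ Commute a (x * c * x⁻¹) := fun e => h.s1 (by
  have := h.ac'
  rw [e.eq, mul_left_inj, eq_comm, mul_eq_right] at this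
  exact this)

theorem Gen.bn_cent (h : Gen s Q x w a c) (hB : w * c * w⁻¹ = a * c * s) {g : G} (hg : g ∈ C1[s])
    (hc : Commute g c) : g ∈ Q := by
  have q := h.qg
  have n1 := q.bn_nc
  have as : Commute a s := q.as
  have cs : Commute c s := q.cs
  have ac : Commute a c := q.ac
  have xs : x * s * x⁻¹ = s := by rw [q.xs, mul_inv_cancel_right]
  have cj : ∀ {u v : G}, Commute u v → Commute (x * u * x⁻¹) (x * v * x⁻¹) := fun {u v} e => by
    have := e.map (MulAut.conj x)
    simpa only [MulAut.conj_apply] using this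
  have a1c1 := cj ac
  have c1s : Commute (x * c * x⁻¹) s := by have := cj cs; rwa [xs] at this
  have a1s : Commute (x * a * x⁻¹) s := by have := cj as; rwa [xs] at this
  have n2 : ¬ Commute (x * a * x⁻¹) c := fun e => n1 (by
    have e1 : Commute (x * a * x⁻¹) (x * (x * c * x⁻¹) * x⁻¹) := by rw [q.xc]; exact e.mul_right a1c1
    have := e1.map (MulAut.conj x⁻¹)
    simpa [mul_assoc] using this)
  have cc1 : Commute c (x * c * x⁻¹) := by
    have e0 : (x * c * x⁻¹) * (x * c * x⁻¹) = 1 := by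
      calc _ = x * (c * c) * x⁻¹ := by group
        _ = 1 := by rw [q.cc]; group
    have e1 : (c * (x * c * x⁻¹)) * (c * (x * c * x⁻¹)) = 1 := by
      rw [← q.xc]
      calc _ = x * ((x * c * x⁻¹) * (x * c * x⁻¹)) * x⁻¹ := by group
        _ = 1 := by rw [e0]; group
    generalize x * c * x⁻¹ = d at e0 e1
    calc c * d = (c * d)⁻¹ := eq_inv_of_mul_eq_one_left e1
      _ = d * c := by rw [mul_inv_rev, inv_eq_of_mul_eq_one_right e0, inv_eq_of_mul_eq_one_right q.cc]
  have cQ : c ∈ Q := h.gen ▸ subset_closure (by simp)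
  obtain ⟨u, hu, i, j, rfl⟩ := h.dec g hg
  rw [pow_eq_pow_mod i h.x3, pow_eq_pow_mod j (show w ^ 2 = 1 by rw [pow_two, h.w2])] at hc ⊢
  have key : ∀ y, Commute (u * y) c → ∀ v, Commute v c → Commute v s → Commute v (y * c * y⁻¹) := fun y hy v v1 v2 => by
    have e : y * c * y⁻¹ = u⁻¹ * c * u⁻¹⁻¹ := by
      calc y * c * y⁻¹ = u⁻¹ * ((u * y) * c) * y⁻¹ := by group
        _ = _ := by rw [hy.eq]; group
    rw [e]
    rcases h.le.comm u⁻¹ (inv_mem hu) c cQ with r | r <;> rw [r]
    exacts [v1, v1.mul_right v2]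
  have key' : ∀ y, Commute (u * y) c → ∀ v, Commute v (y * c * y⁻¹) → Commute v s → Commute v c := fun y hy v v1 v2 => by
    have e : y * c * y⁻¹ = u⁻¹ * c * u⁻¹⁻¹ := by
      calc y * c * y⁻¹ = u⁻¹ * ((u * y) * c) * y⁻¹ := by group
        _ = _ := by rw [hy.eq]; group
    rw [e] at v1
    rcases h.le.comm u⁻¹ (inv_mem hu) c cQ with r | r <;> rw [r] at v1
    · exact v1
    · simpa using v1.mul_right v2.inv_right
  rw [mul_assoc] at hc ⊢
  have hi := Nat.mod_lt i (show 0 < 3 by decide)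
  have hj := Nat.mod_lt j (show 0 < 2 by decide)
  generalize i % 3 = i at hi hc
  generalize j % 2 = j at hj hc
  have xw : x * w * c * (x * w)⁻¹ = (x * a * x⁻¹) * (x * c * x⁻¹) * s := by
    calc _ = x * (w * c * w⁻¹) * x⁻¹ := by group
      _ = (x * a * x⁻¹) * (x * c * x⁻¹) * (x * s * x⁻¹) := by rw [hB]; group
      _ = _ := by rw [xs]
  interval_cases i <;> interval_cases j
  · simpa using hu
  · have := key' _ hc (x * c * x⁻¹)
    have k := key _ hc (x * c * x⁻¹) cc1.symm c1s
    rw [pow_zero, pow_one, one_mul, hB] at k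
    exact absurd (by simpa using ((k.mul_right c1s.inv_right).mul_right cc1.symm.inv_right).symm) n1
  · have k := key _ hc a ac as
    rw [pow_zero, pow_one, mul_one] at k
    exact absurd k n1
  · have k := key' _ hc (x * a * x⁻¹)
    rw [pow_one, pow_one, xw] at k
    exact absurd (k (((Commute.refl _).mul_right a1c1).mul_right a1s) a1s) n2
  · have k := key _ hc a ac as
    rw [pow_zero, mul_one, show x ^ 2 * c * (x ^ 2)⁻¹ = x * (x * c * x⁻¹) * x⁻¹ by rw [pow_two]; group, q.xc] at k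
    exact absurd (by simpa using ac.inv_right.mul_right k) n1
  · have k := key _ hc c (Commute.refl c) cs
    have e : x ^ 2 * w ^ 1 * c * (x ^ 2 * w ^ 1)⁻¹ = (x * a * x⁻¹) * (a * (c * (x * c * x⁻¹)) * s) := by
      calc _ = x * (x * w * c * (x * w)⁻¹) * x⁻¹ := by rw [pow_two]; group
        _ = (x * (x * a * x⁻¹) * x⁻¹) * (x * (x * c * x⁻¹) * x⁻¹) * (x * s * x⁻¹) := by rw [xw]; group
        _ = _ := by rw [q.xa, q.xc, xs]; group
    rw [e] at k
    have k2 : Commute c (a * (c * (x * c * x⁻¹)) * s) :=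
      (ac.symm.mul_right ((Commute.refl c).mul_right cc1)).mul_right cs
    exact absurd (by simpa only [mul_inv_cancel_right] using (k.mul_right k2.inv_right).symm) n2

theorem Gen.bn_ne (h : Gen s Q x w a c) : c ≠ 1 ∧ c ≠ s := by
  refine ⟨?_, ?_⟩ <;> rintro rfl <;> refine h.qg.bn_nc ?_
  · simp
  · rw [h.qg.xs, mul_inv_cancel_right]; exact h.qg.as

theorem Gen.b_nc (h : Gen s Q x w a c) (hB : w * c * w⁻¹ = a * c * s) : ¬ IsConj s c := fun e => by
  obtain ⟨g, e⟩ := isConj_iff.1 e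
  have cQ : c ∈ Q := h.gen ▸ subset_closure (by simp)
  have sQ := h.le.sym (g := g) (by rw [h.card]; decide) (e ▸ cQ)
  have L := h.le.conj g
  rw [e] at L
  obtain ⟨u, hu, v, hv, us, vs, n⟩ := L.nab_cent (by rw [card_cj, h.card]; decide) sQ
  have uQ := h.bn_cent hB (mem_cent1.2 us.eq) (L.zc u hu)
  have vQ := h.bn_cent hB (mem_cent1.2 vs.eq) (L.zc v hv)
  exact h.bn_ne.2 (mul_left_cancel ((L.conj_of_not hu hv n).symm.trans (h.le.conj_of_not uQ vQ n)))

theorem Gen.b_two (h : Gen s Q x w a c) (hB : w * c * w⁻¹ = a * c * s) :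
    ∃ x y : G, orderOf x = 2 ∧ orderOf y = 2 ∧ ¬ IsConj x y :=
  ⟨s, c, h.le.z2, orderOf_eq_prime (by rw [pow_two, h.qg.cc]) h.bn_ne.1, h.b_nc hB⟩

end Cfsg.Agent.W4
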