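import Cfsg.Agent.W4.B2
import Cfsg.Agent.W4.Bn

/-! Type B gives `M₁₂`. -/

set_option autoImplicit false

namespace Cfsg.Agent.W4

theorem Gen.typeB {G : Type*} [Group G] [Finite G] [IsSimpleGroup G] {s x w a c : G} {Q : Subgroup G}
    (h : Gen s Q x w a c) (hB : w * c * w⁻¹ = a * c * s) : Cfsg.Spor.IsoM12 G :=
  h.typeB2 hB (h.b_two hB)

end Cfsg.Agent.W4
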