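import Cfsg.Agent.W4.A
import Cfsg.Agent.A8R.PE5

/-! Piece F of S3344 (lead). -/

set_option autoImplicit false

namespace Cfsg.Agent.W4

open Cfsg.Agent.BG Subgroup Equiv

variable {G : Type*} [Group G] [Finite G]

theorem f_cls (i : A8) (hi : orderOf i = 2) : (∃ c : A8, c * π mz * c⁻¹ = i) ∨ ∃ c : A8, c * π mc * c⁻¹ = i := by
  have o1 : orderOf (π mz) = 2 := orderOf_eq_prime (by decide +kernel) (by decide +kernel)
  have o2 : orderOf (π mc) = 2 := orderOf_eq_prime (by decide +kernel) (by decide +kernel)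
  have n1 : ¬ A8R.fp (π mz) := by decide +kernel
  have n2 : A8R.fp (π mc) := by decide +kernel
  have c1 := ((A8R.cls _ o1).resolve_left fun h => n1 h.1).2
  have c2 := ((A8R.cls _ o2).resolve_right fun h => h.1 n2).2
  rcases A8R.cls i hi with ⟨_, h⟩ | ⟨_, h⟩
  · exact Or.inr (isConj_iff.1 (c2.trans h.symm))
  · exact Or.inl (isConj_iff.1 (c1.trans h.symm))

theorem f_ord (g c : G) : orderOf (g * c * g⁻¹) = orderOf c :=
  orderOf_injective (MulAut.conj g).toMonoidHom (MulAut.conj g).injective c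

theorem FH.fin [IsSimpleGroup G] {ψ : A8 →* G} (h : FH ψ) {H : Subgroup G} (h1 : ψ.range ≤ H) (h2 : C1[ψ (π mc)] ≤ H) :
    H = ⊤ := by
  haveI : Fact (Nat.Prime 2) := ⟨Nat.prime_two⟩
  have mψ : ∀ i, ψ i ∈ H := fun i => h1 ⟨i, rfl⟩
  have cs : ∀ g, g * ψ (π mz) = ψ (π mz) * g → g ∈ H := fun g hg => by
    obtain ⟨i, p, e⟩ := (h.cen g).1 (mem_centralizer_singleton_iff.2 hg)
    rw [e]; exact H.mul_mem (H.pow_mem (mψ _) _) (mψ _)
  have ct : ∀ g, g * ψ (π mc) = ψ (π mc) * g → g ∈ H := fun g hg => h2 (mem_centralizer_singleton_iff.2 hg)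
  have sy : SylowIn 2 (ψ.comp π).range H := by
    have hle : (ψ.comp π).range ≤ H := by rintro _ ⟨p, rfl⟩; exact mψ _
    refine sylow_mk hle h.syl.pg fun hd => h.syl.not_dvd ?_
    exact hd.trans (Dvd.intro _ (relIndex_mul_relIndex _ _ _ hle le_top))
  have cl : ∀ d ∈ H, orderOf d = 2 → ∃ k ∈ H, k * ψ (π mz) * k⁻¹ = d ∨ k * ψ (π mc) * k⁻¹ = d := by
    intro d hd od
    obtain ⟨g, hg, hle⟩ := Sylow_Jsub sy (zpowers_le.2 hd)
      (IsPGroup.of_card (n := 1) (by rw [Nat.card_zpowers, od, pow_one]))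
    obtain ⟨p, hp⟩ := hle (mem_map_of_mem (MulAut.conj g).toMonoidHom (mem_zpowers d))
    have hp' : ψ (π p) = g * d * g⁻¹ := hp
    have op : orderOf (π p) = 2 := by rw [← orderOf_injective ψ h.inj', hp', f_ord, od]
    have key : ∀ {q : Mu} {c : A8}, c * π q * c⁻¹ = π p → g⁻¹ * ψ c * ψ (π q) * (g⁻¹ * ψ c)⁻¹ = d := fun {q c} e => by
      have : ψ c * ψ (π q) * (ψ c)⁻¹ = g * d * g⁻¹ := by rw [← hp', ← e, map_mul, map_mul, map_inv]
      calc g⁻¹ * ψ c * ψ (π q) * (g⁻¹ * ψ c)⁻¹ = g⁻¹ * (ψ c * ψ (π q) * (ψ c)⁻¹) * g := by group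
        _ = d := by rw [this]; group
    rcases f_cls _ op with ⟨c, e⟩ | ⟨c, e⟩
    · exact ⟨_, H.mul_mem (H.inv_mem hg) (mψ c), Or.inl (key e)⟩
    · exact ⟨_, H.mul_mem (H.inv_mem hg) (mψ c), Or.inr (key e)⟩
  rw [eq_top_iff]
  intro g _
  have hu : ψ (π mz) * ψ (π mz) = 1 := by rw [← map_mul, ← map_mul, show mz * mz = 1 by decide +kernel, map_one, map_one]
  have hv : ψ (π mc) * ψ (π mc) = 1 := by rw [← map_mul, ← map_mul, show mc * mc = 1 by decide +kernel, map_one, map_one]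
  have hs : (g * ψ (π mc) * g⁻¹) * (g * ψ (π mc) * g⁻¹) = 1 := by
    calc (g * ψ (π mc) * g⁻¹) * (g * ψ (π mc) * g⁻¹) = g * (ψ (π mc) * ψ (π mc)) * g⁻¹ := by group
      _ = 1 := by rw [hv]; group
  have hn : ¬ IsConj (ψ (π mz)) (g * ψ (π mc) * g⁻¹) := fun c =>
    h.nc (c.trans (isConj_iff.2 ⟨g, rfl⟩ : IsConj (ψ (π mc)) (g * ψ (π mc) * g⁻¹)).symm)
  obtain ⟨c, hc, hcu, hcs⟩ := A8R.pe5_dih hu hs hn
  have hd : (g⁻¹ * c * g⁻¹⁻¹) * ψ (π mc) = ψ (π mc) * (g⁻¹ * c * g⁻¹⁻¹) := by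
    calc (g⁻¹ * c * g⁻¹⁻¹) * ψ (π mc) = g⁻¹ * (c * (g * ψ (π mc) * g⁻¹)) * g := by group
      _ = g⁻¹ * ((g * ψ (π mc) * g⁻¹) * c) * g := by rw [hcs]
      _ = ψ (π mc) * (g⁻¹ * c * g⁻¹⁻¹) := by group
  obtain ⟨k, hk, ek⟩ := cl c (cs c hcu) hc
  obtain ⟨l, hl, el⟩ := cl _ (ct _ hd) ((f_ord _ _).trans hc)
  have tr : ∀ {p q : G}, k * p * k⁻¹ = c → l * q * l⁻¹ = g⁻¹ * c * g⁻¹⁻¹ → k⁻¹ * g * l * q * (k⁻¹ * g * l)⁻¹ = p :=
    fun {p q} e1 e2 => by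
      calc k⁻¹ * g * l * q * (k⁻¹ * g * l)⁻¹ = k⁻¹ * g * (l * q * l⁻¹) * g⁻¹ * k := by group
        _ = k⁻¹ * (k * p * k⁻¹) * k := by rw [e2, e1]; group
        _ = p := by group
  have done : k⁻¹ * g * l ∈ H → g ∈ H := fun m => by
    have := H.mul_mem (H.mul_mem hk m) (H.inv_mem hl)
    rwa [show k * (k⁻¹ * g * l) * l⁻¹ = g by group] at this
  rcases ek with ek | ek <;> rcases el with el | el
  · exact done (cs _ (mul_inv_eq_iff_eq_mul.1 (tr ek el)))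
  · exact (h.nc (isConj_iff.2 ⟨_, tr ek el⟩).symm).elim
  · exact (h.nc (isConj_iff.2 ⟨_, tr ek el⟩)).elim
  · exact done (ct _ (mul_inv_eq_iff_eq_mul.1 (tr ek el)))

end Cfsg.Agent.W4
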