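import Cfsg.Agent.W4.A1
import Cfsg.Agent.W4.F
import Cfsg.Agent.A8R.PE4

/-! The centralizer of `t` normalizes `V` (`FH.fc`). -/

set_option autoImplicit false
set_option linter.unusedSectionVars false

namespace Cfsg.Agent.W4

open Cfsg.Agent.BG Subgroup

variable {G : Type*} [Group G] [Finite G] {ψ : A8 →* G} {g : G} {p q : Mu}

/-- `π p` has a fixed point -/
abbrev fpt (p : Mu) : Prop := ∃ i : Fin 8, (π p).1 i = i

theorem c1_fp {i j c : A8} (e : c * i * c⁻¹ = j) (h : ∃ a, i.1 a = a) : ∃ a, j.1 a = a := by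
  obtain ⟨a, h⟩ := h
  exact ⟨c.1 a, by rw [← e]; simp [h]⟩

theorem FH.cls (h : FH ψ) (p2 : p * p = 1) (p1 : p ≠ 1) :
    (fpt p → IsConj (ψ (π mc)) (ψ (π p))) ∧ (¬ fpt p → IsConj (ψ (π mz)) (ψ (π p))) := by
  have := Nat.fact_prime_two
  have ho : orderOf (π p) = 2 := orderOf_eq_prime (by rw [pow_two, ← map_mul, p2, map_one]) fun e =>
    p1 (h.inj (by show ψ (π p) = ψ (π 1); rw [e, map_one π]))
  have k {i j : A8} (e : ∃ c : A8, c * i * c⁻¹ = j) : IsConj (ψ i) (ψ j) := ψ.map_isConj (isConj_iff.2 e)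
  rcases f_cls _ ho with ⟨c, e⟩ | ⟨c, e⟩
  · refine ⟨fun a => absurd (c1_fp (c := c⁻¹) (j := π mz) (by rw [← e]; group) a) (by decide +kernel), fun _ => k ⟨c, e⟩⟩
  · exact ⟨fun _ => k ⟨c, e⟩, fun a => absurd (c1_fp e (by decide +kernel)) a⟩

theorem FH.tr (h : FH ψ) (p2 : p * p = 1) (p1 : p ≠ 1) (e : g * ψ (π p) * g⁻¹ = ψ (π q)) :
    q * q = 1 ∧ q ≠ 1 ∧ (fpt p ↔ fpt q) := by
  have q2 : q * q = 1 := h.inj (by
    show ψ (π (q * q)) = ψ (π 1)
    rw [map_mul, map_mul, ← e, conj_mul, ← map_mul, ← map_mul, p2]; simp)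
  have q1 : q ≠ 1 := fun a => p1 (h.inj (by
    show ψ (π p) = ψ (π 1)
    rw [a, map_one, map_one, conj_eq_one_iff] at e; rw [e]; simp))
  have c : IsConj (ψ (π p)) (ψ (π q)) := isConj_iff.2 ⟨g, e⟩
  refine ⟨q2, q1, fun a => by_contra fun b => h.nc ?_, fun a => by_contra fun b => h.nc ?_⟩
  · exact ((h.cls q2 q1).2 b).trans (c.symm.trans ((h.cls p2 p1).1 a).symm)
  · exact ((h.cls p2 p1).2 b).trans (c.trans ((h.cls q2 q1).1 a).symm)

theorem Fr.cst {f : Mu →* G} {x : G} (h : Fr f x) (hs : g ∈ C1[f mz]) (ht : g ∈ C1[f mc]) : g ∈ mR.map f := by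
  obtain ⟨i, p, rfl⟩ := (h.cen g).1 hs
  have e : x ^ i * f (p * mc * p⁻¹) * (x ^ i)⁻¹ = f mc := by
    simp only [map_mul, map_inv]
    calc _ = x ^ i * f p * f mc * (x ^ i * f p)⁻¹ := by group
      _ = _ := by rw [mem_cent1.1 ht]; group
  have hq : ∀ p : Mu, p * mc * p⁻¹ ∈ mQ ∧ cx (p * mc * p⁻¹) ∈ mQ ∧ cx (p * mc * p⁻¹) ≠ mc ∧ cx (cx (p * mc * p⁻¹)) ≠ mc ∧
    (p * mc * p⁻¹ = mc → p ∈ mR) := by decide +kernel
  obtain ⟨h1, h2, h3, h4, h5⟩ := hq p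
  rw [pow_eq_pow_mod i h.x3] at e ⊢
  have : i % 3 < 3 := Nat.mod_lt _ (by norm_num)
  interval_cases i % 3
  · simp only [pow_zero, one_mul, inv_one, mul_one] at e ⊢
    exact ⟨p, h5 (h.inj e), rfl⟩
  · rw [pow_one, h.hx _ h1] at e
    exact absurd (h.inj e) h3
  · refine absurd (h.inj ?_) h4
    rw [← h.hx _ h2, ← h.hx _ h1, ← e, pow_two]; group

theorem c1_RC (f : Mu →* G) : mR.map f ≤ C1[f mc] := by
  rintro _ ⟨p, hp, rfl⟩
  rw [mem_cent1, ← map_mul, ← map_mul, (by decide +kernel : ∀ p ∈ mR, p * mc = mc * p) p hp]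

theorem FH.pg (h : FH ψ) (K : Subgroup Mu) : IsPGroup 2 (K.map (ψ.comp π)) := by
  have := Nat.fact_prime_two
  exact h.syl.pg.to_le (map_le_range _ _)

theorem FH.sylR (h : FH ψ) : SylowIn 2 (mR.map (ψ.comp π)) C1[ψ (π mc)] := by
  have := Nat.fact_prime_two
  refine Sylow_subnorm ?_
  have : C1[ψ (π mc)] ⊓ N[mR.map (ψ.comp π)] = mR.map (ψ.comp π) := by
    refine le_antisymm (fun n hn => h.cst (mem_cent1.2 ?_) hn.1) (le_inf (c1_RC _) le_normalizer)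
    obtain ⟨q, hq, e⟩ := (mem_normalizer_iff.1 hn.2 _).1 ⟨mz, (by decide : mz ∈ mR), rfl⟩
    have e' : n * ψ (π mz) * n⁻¹ = ψ (π q) := e.symm
    have : q = mz := by
      obtain ⟨-, a, b⟩ := h.tr (by decide) (by decide) e'
      refine (by decide +kernel : ∀ q ∈ mR, q ≠ 1 → (fpt mz ↔ fpt q) → (∀ r ∈ mR, r * q = q * r) → q = mz) q hq a b
        fun r hr => h.inj ?_
      obtain ⟨r', -, er⟩ := (mem_normalizer_iff.1 (inv_mem hn.2) _).1 ⟨r, hr, rfl⟩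
      have := mem_cent1.1 (h.zS ⟨r', rfl⟩)
      rw [map_mul, map_mul, e]
      calc _ = n * ((n⁻¹ * (ψ.comp π) r * n⁻¹⁻¹) * (ψ.comp π) mz) * n⁻¹ := by group
        _ = _ := by rw [← er, this, er]; group
    rw [this] at e'
    exact mul_inv_eq_iff_eq_mul.1 e'
  rw [this]
  exact sylow_mk le_rfl (h.pg _) (by simp)

theorem c1_mul {c a b a' b' : G} (h1 : c * a * c⁻¹ = a') (h2 : c * b * c⁻¹ = b') : c * (a * b) * c⁻¹ = a' * b' := by
  rw [← h1, ← h2]; group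

theorem c1_fix {c t : G} (h : c ∈ C1[t]) : c * t * c⁻¹ = t := by rw [mem_cent1.1 h]; group

theorem FH.sylA (h : FH ψ) : SylowIn 2 (mA.map (ψ.comp π)) (cV ψ) := by
  have := Nat.fact_prime_two
  have hA : mA.map (ψ.comp π) ≤ cV ψ := by
    rintro _ ⟨p, hp, rfl⟩
    have := (by decide +kernel : ∀ p ∈ mA, p * mc = mc * p ∧ p * mv = mv * p) p hp
    exact ⟨mem_cent1.2 (by simp only [MonoidHom.comp_apply, ← map_mul, this.1]),
      mem_cent1.2 (by simp only [MonoidHom.comp_apply, ← map_mul, this.2])⟩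
  obtain ⟨P, hP, hAP⟩ := Sylow_superset hA (h.pg _)
  obtain ⟨c, hc, e⟩ := Sylow_Jsub h.sylR (hP.le.trans inf_le_left) hP.pg
  have cR : #(mR.map (ψ.comp π)) = 32 := by rw [h.card_map, Nat.card_eq_fintype_card]; decide +kernel
  have cA : #(mA.map (ψ.comp π)) = 16 := by rw [h.card_map, Nat.card_eq_fintype_card]; decide +kernel
  have d1 := card_dvd_of_le e
  have d2 := card_dvd_of_le hAP
  rw [card_cj, cR] at d1
  rw [cA] at d2
  by_cases h32 : #P = 32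
  · exfalso
    have e2 := eq_of_le_of_card_ge e (by rw [card_cj, cR, h32])
    obtain ⟨q, hq, eq⟩ := e (conj_mem_cj c (hAP ⟨mv, (by decide : mv ∈ mA), rfl⟩))
    have eq' : c * ψ (π mv) * c⁻¹ = ψ (π q) := eq.symm
    have eq2 : c * ψ (π (mv * mc)) * c⁻¹ = ψ (π (q * mc)) := by
      simp only [map_mul]; exact c1_mul eq' (c1_fix hc)
    obtain ⟨-, a1, a2⟩ := h.tr (by decide) (by decide) eq'
    obtain ⟨-, a3, a4⟩ := h.tr (by decide) (by decide) eq2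
    refine (by decide +kernel : ∀ q ∈ mR, q ≠ 1 → (fpt mv ↔ fpt q) → q * mc ≠ 1 → (fpt (mv * mc) ↔ fpt (q * mc)) →
      ¬ ∀ r ∈ mR, r * q = q * r) q hq a1 a2 a3 a4 fun r hr => h.inj ?_
    obtain ⟨y, hy, ey⟩ := mem_cj'.1 (e2.ge ⟨r, hr, rfl⟩)
    have := mem_cent1.1 (hP.le hy).2
    rw [map_mul, map_mul, ← ey, eq, conj_mul, conj_mul]
    exact congrArg (fun z => c * z * c⁻¹) this
  · have : #P = 16 := by
      obtain ⟨k, hk⟩ := d2
      have : 0 < k := Nat.pos_of_ne_zero fun a => by rw [hk, a] at d1; simp at d1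
      have := Nat.le_of_dvd (by norm_num) d1
      omega
    rwa [eq_of_le_of_card_ge hAP (by rw [cA, this])]

theorem FH.c1_v (h : FH ψ) (hg : g ∈ C1[ψ (π mc)]) (hq : q ∈ mR) (e : g * ψ (π q) * g⁻¹ = ψ (π mv)) :
    q = mv ∨ q = mv * mc := by
  obtain ⟨k, hk, ek, hA⟩ := SW2.extc h.sylA (h.pg mR) (c1_RC _) hg e
  obtain ⟨p, hp, ep⟩ := hA _ ⟨mz, (by decide : mz ∈ mR), rfl⟩ (mem_cent1.1 (h.zS ⟨q, rfl⟩)).symm
  have ep' : k * ψ (π mz) * k⁻¹ = ψ (π p) := ep.symm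
  have e1 : k⁻¹ * ψ (π mv) * k⁻¹⁻¹ = ψ (π q) := by rw [← ek]; group
  have e2 : k⁻¹ * ψ (π (mv * mc)) * k⁻¹⁻¹ = ψ (π (q * mc)) := by
    simp only [map_mul]; exact c1_mul e1 (c1_fix (inv_mem hk))
  have e3 : k * ψ (π (mz * mc)) * k⁻¹ = ψ (π (p * mc)) := by
    simp only [map_mul]; exact c1_mul ep' (c1_fix hk)
  have e4 : k * ψ (π (q * mz)) * k⁻¹ = ψ (π (mv * p)) := by
    simp only [map_mul]; exact c1_mul ek ep'
  obtain ⟨a0, a1, a2⟩ := h.tr (by decide) (by decide) e1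
  obtain ⟨-, a3, a4⟩ := h.tr (by decide) (by decide) e2
  obtain ⟨-, a5, a6⟩ := h.tr (by decide) (by decide) ep'
  obtain ⟨-, a7, a8⟩ := h.tr (by decide) (by decide) e3
  by_contra hn
  have k1 := (by decide +kernel : ∀ q ∈ mR, q * q = 1 → q ≠ 1 → (fpt mv ↔ fpt q) → q * mc ≠ 1 → (fpt (mv * mc) ↔ fpt (q * mc)) →
    ¬ (q = mv ∨ q = mv * mc) → q * mz * (q * mz) = 1 ∧ q * mz ≠ 1 ∧ fpt (q * mz)) q hq a0 a1 a2 a3 a4 hn
  exact (by decide +kernel : ∀ p ∈ mA, p ≠ 1 → (fpt mz ↔ fpt p) → (fpt (mz * mc) ↔ fpt (p * mc)) → ¬ fpt (mv * p))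
    p hp a5 a6 a8 ((h.tr k1.1 k1.2.1 e4).2.2.1 k1.2.2)

theorem FH.c1_n (h : FH ψ) (hg : g ∈ C1[ψ (π mc)]) :
    g * ψ (π mv) * g⁻¹ = ψ (π mv) ∨ g * ψ (π mv) * g⁻¹ = ψ (π mv) * ψ (π mc) := by
  have := Nat.fact_prime_two
  have sq (p : Mu) (e : p * p = 1) : ψ (π p) * ψ (π p) = 1 := by rw [← map_mul, ← map_mul, e]; simp
  have cm (p q : Mu) (e : p * q = q * p) : Commute (ψ (π p)) (ψ (π q)) := by
    show _ * _ = _ * _; rw [← map_mul, ← map_mul, e]; simp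
  have ne (p q : Mu) (e : p ≠ q) : ψ (π p) ≠ ψ (π q) := fun a => e (h.inj a)
  refine A8R.pe4_zm (x := ψ (π (mz * mc))) (y := ψ (π (mz * e23 * e24))) (sq _ (by decide)) (sq _ (by decide))
    (by simpa using ne mv 1 (by decide)) (ne _ _ (by decide)) (sq _ (by decide)) (sq _ (by decide)) (cm _ _ (by decide))
    (cm _ _ (by decide)) (cm _ _ (by decide)) (fun g hg e => ?_) (fun u hu k hk e => ?_) (mem_cent1.1 hg)
  · have hg' : g ∈ C1[ψ (π mc)] := mem_cent1.2 hg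
    have hv : ψ (π mv) ∈ C1[ψ (π mc)] := mem_cent1.2 (cm _ _ (by decide))
    have hv' : g * ψ (π mv) * g⁻¹ ∈ C1[ψ (π mc)] := mul_mem (mul_mem hg' hv) (inv_mem hg')
    have v2 := sq mv (by decide)
    have v2' : g * ψ (π mv) * g⁻¹ * (g * ψ (π mv) * g⁻¹) = 1 := by rw [conj_mul, v2]; group
    have t2 := sq mc (by decide)
    generalize hw : g * ψ (π mv) * g⁻¹ = w at *
    have pz (a : G) (ha : a ^ 4 = 1) : IsPGroup 2 (zpowers a) := fun ⟨y, n, hn⟩ => ⟨2, Subtype.ext (by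
      show y ^ 2 ^ 2 = 1
      rw [← hn]; show (a ^ n) ^ 4 = 1
      rw [← zpow_natCast, ← zpow_mul, mul_comm, zpow_mul, zpow_natCast, ha, one_zpow])⟩
    have h4 : (ψ (π mv) * w) ^ 4 = 1 := by
      have : (ψ (π mv) * w) ^ 2 = 1 ∨ (ψ (π mv) * w) ^ 2 = ψ (π mc) := by
        refine e.imp (fun e => ?_) fun e => ?_ <;> rw [pow_two] <;> nth_rw 2 [e]
        · calc _ = ψ (π mv) * (w * w) * ψ (π mv) := by group
            _ = 1 := by rw [v2', mul_one, v2]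
        · calc _ = ψ (π mv) * (w * w) * ψ (π mv) * ψ (π mc) := by group
            _ = _ := by rw [v2', mul_one, v2, one_mul]
      rw [show 4 = 2 * 2 from rfl, pow_mul]
      rcases this with a | a <;> rw [a]
      exacts [one_pow _, by rw [pow_two, t2]]
    have hP : IsPGroup 2 (zpowers (ψ (π mv) * w) ⊔ zpowers (ψ (π mv)) : Subgroup G) :=
      (pz _ h4).to_sup_of_normal_left' (pz _ (by rw [show 4 = 2 * 2 from rfl, pow_mul, pow_two (ψ _), v2, one_pow]))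
        (zpowers_le.2 (mem_norm_of_cj_le fun y hy => by
          obtain ⟨_, ⟨n, rfl⟩, rfl⟩ := mem_cj'.1 hy
          have : ψ (π mv) * (ψ (π mv) * w) * (ψ (π mv))⁻¹ = (ψ (π mv) * w)⁻¹ := by
            rw [← mul_assoc, v2, one_mul, mul_inv_rev, inv_eq_of_mul_eq_one_right v2']
          show _ * (ψ (π mv) * w) ^ n * _ ∈ _
          rw [← conj_zpow, this]
          exact zpow_mem (inv_mem (mem_zpowers _)) n))
    obtain ⟨c, hc, ec⟩ := Sylow_Jsub h.sylR (sup_le (zpowers_le.2 (mul_mem hv hv')) (zpowers_le.2 hv)) hP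
    have m1 : ψ (π mv) ∈ (zpowers (ψ (π mv) * w) ⊔ zpowers (ψ (π mv)) : Subgroup G) := mem_sup_right (mem_zpowers _)
    have m2 : w ∈ (zpowers (ψ (π mv) * w) ⊔ zpowers (ψ (π mv)) : Subgroup G) := by
      simpa using mul_mem (inv_mem m1) (mem_sup_left (mem_zpowers _))
    obtain ⟨q1, hq1, e1⟩ := ec (conj_mem_cj c m1)
    obtain ⟨q2, hq2, e2⟩ := ec (conj_mem_cj c m2)
    have e1' : ψ (π q1) = c * ψ (π mv) * c⁻¹ := e1
    have e2' : ψ (π q2) = c * w * c⁻¹ := e2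
    have a1 := h.c1_v (inv_mem hc) hq1 (by rw [e1']; group)
    have a2 := h.c1_v (inv_mem (mul_mem hc hg')) hq2 (by rw [e2', ← hw]; group)
    have : q2 = q1 ∨ q2 = q1 * mc := by
      rcases a1 with a | a <;> rcases a2 with b | b <;> rw [a, b] <;> decide
    refine this.imp (fun a => ?_) fun a => ?_
    · rw [a, e1'] at e2'
      exact (mul_left_cancel (mul_right_cancel e2')).symm
    · rw [a, map_mul, map_mul, e1', ← c1_mul rfl (c1_fix hc)] at e2'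
      exact (mul_left_cancel (mul_right_cancel e2')).symm
  · have key (a : A8) (r : Mu) (h1 : a * π mc = π mc * a) (h2 : a * π r * a⁻¹ = π (mz * mc)) (hu : u = ψ (π r)) :
        k ^ 2 ^ 3 = 1 := by
      have ha : ψ a ∈ C1[ψ (π mc)] := mem_cent1.2 (by rw [← map_mul, h1, map_mul])
      have hk' : ψ a * k * (ψ a)⁻¹ ∈ C1[ψ (π mc)] := mul_mem (mul_mem ha (mem_cent1.2 hk)) (inv_mem ha)
      have e0 : ψ a * u * (ψ a)⁻¹ = ψ (π (mz * mc)) := by rw [hu, ← h2]; simp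
      have e1 : ψ a * k * (ψ a)⁻¹ * ψ (π (mz * mc)) * (ψ a * k * (ψ a)⁻¹)⁻¹ = ψ a * (k * u * k⁻¹) * (ψ a)⁻¹ := by
        rw [← e0]; group
      rcases e with e | e <;> rw [e] at e1
      · have e2 := c1_mul (e1.trans e0) (c1_fix hk')
        rw [← map_mul, ← map_mul, show mz * mc * mc = mz by decide] at e2
        obtain ⟨t, -, ht⟩ := h.cst (mem_cent1.2 (mul_inv_eq_iff_eq_mul.1 e2)) hk'
        have : (ψ a * k * (ψ a)⁻¹) ^ 4 = 1 := by
          rw [← ht, ← map_pow, (by decide +kernel : ∀ t : Mu, t ^ 4 = 1) t, map_one]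
        rw [conj_pow, conj_eq_one_iff] at this
        rw [show 2 ^ 3 = 4 * 2 from rfl, pow_mul, this, one_pow]
      · rw [c1_mul e0 (c1_fix ha), ← map_mul, ← map_mul] at e1
        exact absurd (h.tr (by decide) (by decide) e1).2.2 (by decide +kernel)
    rcases hu with a | a | a
    · exact key 1 _ (by simp) (by simp) a
    · exact (by decide +kernel : ∃ a ∈ [c7, c7⁻¹], a * π mc = π mc * a ∧ a * π (mz * e23 * e24) * a⁻¹ = π (mz * mc)).elim
        fun b hb => key b _ hb.2.1 hb.2.2 a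
    · exact (by decide +kernel : ∃ a ∈ [c7, c7⁻¹], a * π mc = π mc * a ∧
        a * π (mz * mc * (mz * e23 * e24)) * a⁻¹ = π (mz * mc)).elim fun b hb => key b _ hb.2.1 hb.2.2 (by rw [a]; simp)

theorem FH.fc (h : FH ψ) : FC ψ := by
  refine ⟨h, h.sylA, fun g hg => ?_⟩
  have t1 : ψ tau ∈ C1[ψ (π mc)] := mem_cent1.2 (by rw [← map_mul, ← map_mul]; exact congrArg ψ (by decide +kernel))
  rcases h.c1_n hg with e | e
  · exact .inl ⟨hg, mem_cent1.2 (mul_inv_eq_iff_eq_mul.1 e)⟩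
  · refine .inr ⟨mul_mem hg t1, mem_cent1.2 (mul_inv_eq_iff_eq_mul.1 ?_)⟩
    have t2 : ψ tau * ψ (π mv) * (ψ tau)⁻¹ = ψ (π mv) * ψ (π mc) := by
      rw [← map_inv, ← map_mul, ← map_mul, ← map_mul]; exact congrArg ψ (by decide +kernel)
    calc _ = g * (ψ tau * ψ (π mv) * (ψ tau)⁻¹) * g⁻¹ := by group
      _ = _ := by
        rw [t2, c1_mul e (c1_fix hg), mul_assoc, ← map_mul ψ (π mc), ← map_mul π, show mc * mc = 1 by decide]; simp

end Cfsg.Agent.W4
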