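import Cfsg.Agent.W4.A
import Cfsg.Agent.A8R.PN
import Cfsg.Agent.S3277

/-! Piece C2 of S3344 (lead). -/

set_option autoImplicit false

namespace Cfsg.Agent.W4

open Cfsg.Agent.BG Subgroup Equiv

variable {G : Type*} [Group G] [Finite G]

theorem c2_conj {i j : A8} (hi : i ^ 2 = 1 ∧ i ≠ 1) (hj : j ^ 2 = 1 ∧ j ≠ 1) (e : A8R.fp i ↔ A8R.fp j) : IsConj i j := by
  rcases A8R.cls i (orderOf_eq_prime hi.1 hi.2) with ⟨a, b⟩ | ⟨a, b⟩ <;>
    rcases A8R.cls j (orderOf_eq_prime hj.1 hj.2) with ⟨c, d⟩ | ⟨c, d⟩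
  · exact b.trans d.symm
  · exact absurd (e.1 a) c
  · exact absurd (e.2 c) a
  · exact b.trans d.symm

def c2w (p : Bool × Bool) : Mu := (bif p.1 then e13 * e24 else 1) * (bif p.2 then mz * e23 * e24 else 1)

theorem c2_mem (ψ : A8 →* G) {i : A8} (h : i * π mc = π mc * i ∧ i * π mv = π mv * i) : ψ i ∈ cV ψ :=
  ⟨mem_cent1.2 (by rw [← map_mul, h.1, map_mul]), mem_cent1.2 (by rw [← map_mul, h.2, map_mul])⟩

def c2a (ψ : A8 →* G) (p : Bool × Bool) : cV ψ := ⟨ψ (π (c2w p)), c2_mem ψ (by revert p; decide +kernel)⟩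

theorem FH.c2_key {ψ : A8 →* G} (h : FH ψ) {g : G} (hg : g ∈ cV ψ) {m : Mu} (hm : m ∈ mV)
    (e : g * ψ (π (e13 * e24)) * g⁻¹ = ψ (π (e13 * e24 * m))) : ∃ p, ∃ n ∈ mV, g = ψ (π (c2w p * n)) := by
  have m1 : m = 1 := by
    by_contra m1
    have a1 : IsConj (π mc) (π (e13 * e24)) := c2_conj (by decide +kernel) (by decide +kernel) (by decide +kernel)
    have a2 : IsConj (π (e13 * e24 * m)) (π mz) :=
      have k := (by decide +kernel : ∀ m ∈ mV, ¬ m = 1 → (π (e13 * e24 * m) ^ 2 = 1 ∧ π (e13 * e24 * m) ≠ 1) ∧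
        (A8R.fp (π (e13 * e24 * m)) ↔ A8R.fp (π mz))) m hm m1
      c2_conj k.1 (by decide +kernel) k.2
    exact h.nc (((ψ.map_isConj a1).trans (isConj_iff.2 ⟨g, e⟩)).trans (ψ.map_isConj a2)).symm
  rw [m1, mul_one, mul_inv_eq_iff_eq_mul] at e
  have hz : g ∈ C1[(ψ.comp π) mz] := by
    rw [mem_cent1, show mz = mc * (e13 * e24) by decide +kernel, MonoidHom.comp_apply, map_mul, map_mul, ← mul_assoc,
      mem_cent1.1 hg.1, mul_assoc, e, mul_assoc]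
  obtain ⟨i, p, rfl⟩ := (h.cen g).1 hz
  have e3 : ψ Px ^ i * (ψ.comp π) p = ψ (Px ^ (i % 3) * π p) := by
    rw [map_mul, map_pow, MonoidHom.comp_apply, pow_eq_pow_mod i h.x3]
  rw [e3] at hg ⊢
  have h1 := mem_cent1.1 hg.1
  have h2 := mem_cent1.1 hg.2
  rw [← map_mul, ← map_mul] at h1 h2
  have := (by decide +kernel : ∀ i : Fin 3, ∀ p : Mu, Px ^ i.1 * π p * π mc = π mc * (Px ^ i.1 * π p) →
    Px ^ i.1 * π p * π mv = π mv * (Px ^ i.1 * π p) → i = 0 ∧ p ∈ mA) ⟨i % 3, Nat.mod_lt _ (by norm_num)⟩ p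
    (h.inj' h1) (h.inj' h2)
  obtain ⟨q, n, hn, e4⟩ := (by decide +kernel : ∀ p ∈ mA, ∃ q, ∃ n ∈ mV, p = c2w q * n) p this.2
  have i0 : i % 3 = 0 := congrArg Fin.val this.1
  exact ⟨q, n, hn, by rw [i0, pow_zero, one_mul, e4]⟩

theorem FC.cases {ψ : A8 →* G} (h : FC ψ) : cV ψ ≤ ψ.range ∨ ∃ θ : cV ψ →* alternatingGroup (Fin 5),
    Function.Surjective θ ∧ θ.ker = (mV.map (ψ.comp π)).subgroupOf (cV ψ) := by
  set Vn := (mV.map (ψ.comp π)).subgroupOf (cV ψ) with hV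
  have cenV : ∀ g ∈ cV ψ, ∀ m ∈ mV, g * ψ (π m) = ψ (π m) * g := fun g hg m hm => by
    rcases (by decide +kernel : ∀ m ∈ mV, m = 1 ∨ m = mc ∨ m = mv ∨ m = mc * mv) m hm with rfl | rfl | rfl | rfl
    · simp
    · exact mem_cent1.1 hg.1
    · exact mem_cent1.1 hg.2
    · rw [map_mul, map_mul, ← mul_assoc, mem_cent1.1 hg.1, mul_assoc, mem_cent1.1 hg.2, mul_assoc]
  haveI : Vn.Normal := ⟨by
    rintro n ⟨m, hm, e⟩ g
    have e' : ψ (π m) = n.1 := e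
    have : g * n * g⁻¹ = n := Subtype.ext (by
      change g.1 * n.1 * g.1⁻¹ = n.1
      rw [← e', cenV g.1 g.2 m hm, mul_inv_cancel_right])
    rw [this]; exact ⟨m, hm, e⟩⟩
  let M := QuotientGroup.mk' Vn
  have Meq : ∀ a b : cV ψ, M a = M b ↔ ∃ m ∈ mV, ψ (π m) = a.1⁻¹ * b.1 := fun a b => QuotientGroup.eq
  have Ma : ∀ p q, M (c2a ψ p) = M (c2a ψ q) → p = q := fun p q e => by
    obtain ⟨m, hm, e⟩ := (Meq _ _).1 e
    have e' : ψ (π m) = (ψ (π (c2w p)))⁻¹ * ψ (π (c2w q)) := e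
    rw [← map_inv, ← map_mul, ← map_inv, ← map_mul] at e'
    exact (by decide +kernel : ∀ p q, ∀ m ∈ mV, m = (c2w p)⁻¹ * c2w q → p = q) p q m hm (h.inj e')
  have a1 : c2a ψ (false, false) = 1 := Subtype.ext (by
    change ψ (π (c2w (false, false))) = 1
    rw [show c2w (false, false) = 1 by decide +kernel, map_one, map_one])
  have amul : ∀ p q, c2a ψ p * c2a ψ q = c2a ψ (p.1 ^^ q.1, p.2 ^^ q.2) := fun p q => Subtype.ext (by
    change ψ (π (c2w p)) * ψ (π (c2w q)) = ψ (π (c2w _))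
    rw [← map_mul, ← map_mul]; congr 2; revert p q; decide +kernel)
  set x := M (c2a ψ (true, false)) with hx
  have key : ∀ k, k * x = x * k → ∃ p, k = M (c2a ψ p) := fun k hk => by
    obtain ⟨g, rfl⟩ := QuotientGroup.mk'_surjective Vn k
    have : M (c2a ψ (true, false)) = M (g * c2a ψ (true, false) * g⁻¹) := by
      rw [map_mul, map_mul, map_inv]; exact (mul_inv_eq_iff_eq_mul.2 hk).symm
    obtain ⟨m, hm, e⟩ := (Meq _ _).1 this
    have e' : ψ (π m) = (ψ (π (e13 * e24)))⁻¹ * (g.1 * ψ (π (e13 * e24)) * g.1⁻¹) := e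
    obtain ⟨p, n, hn, e2⟩ := h.c2_key g.2 hm (by rw [map_mul π _ m, map_mul ψ _ (π m), e']; group)
    refine ⟨p, ((Meq _ _).2 ⟨n, hn, ?_⟩).symm⟩
    change ψ (π n) = (ψ (π (c2w p)))⁻¹ * g.1
    rw [e2, map_mul, map_mul]; group
  have acomm : ∀ p, M (c2a ψ p) * x = x * M (c2a ψ p) := fun p => by
    rw [hx, ← map_mul, ← map_mul, amul, amul, Bool.xor_comm, Bool.xor_comm p.2]
  have asq : ∀ p, M (c2a ψ p) * M (c2a ψ p) = 1 := fun p => by
    rw [← map_mul, amul, Bool.xor_self, Bool.xor_self, a1, map_one]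
  have ane : ∀ p, p ≠ (false, false) → M (c2a ψ p) ≠ 1 := fun p hp e => hp (Ma _ _ (by rw [e, a1, map_one]))
  let c : cV ψ := ⟨ψ c7, c2_mem ψ (by decide +kernel)⟩
  have cj1 : c * c2a ψ (true, false) * c⁻¹ = c2a ψ (false, true) := Subtype.ext (by
    change ψ c7 * ψ (π (c2w (true, false))) * (ψ c7)⁻¹ = ψ (π (c2w (false, true)))
    rw [← map_inv, ← map_mul, ← map_mul]; congr 1; decide +kernel)
  have cj2 : c⁻¹ * c2a ψ (true, false) * c⁻¹⁻¹ = c2a ψ (true, true) := Subtype.ext (by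
    change (ψ c7)⁻¹ * ψ (π (c2w (true, false))) * (ψ c7)⁻¹⁻¹ = ψ (π (c2w (true, true)))
    rw [← map_inv, ← map_inv, ← map_mul, ← map_mul]; congr 1; decide +kernel)
  have tr : ∀ p, p ≠ (false, false) → ∃ d : cV ψ, d.1 ∈ ψ.range ∧ M d * x * (M d)⁻¹ = M (c2a ψ p) := by
    rintro ⟨_ | _, _ | _⟩ hp
    · exact absurd rfl hp
    · exact ⟨c, ⟨c7, rfl⟩, by rw [hx, ← map_inv, ← map_mul, ← map_mul, cj1]⟩
    · exact ⟨1, one_mem _, by simp [hx]⟩
    · exact ⟨c⁻¹, inv_mem ⟨c7, rfl⟩, by rw [hx, ← map_inv, ← map_mul, ← map_mul, cj2]⟩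
  have x1 : x ≠ 1 := ane _ (by decide)
  by_cases hne : ∀ E : Subgroup (cV ψ ⧸ Vn), E.Normal → Cfsg.IsElementaryAbelian 2 E → Nat.card E ≠ 2 ∧ Nat.card E ≠ 4
  · right
    have hC4 : Nat.card (centralizer ({x} : Set (cV ψ ⧸ Vn))) = 4 := by
      rw [← Nat.card_eq_of_bijective (fun p : Bool × Bool => (⟨M (c2a ψ p), mem_cent1.2 (acomm p)⟩ :
        centralizer ({x} : Set (cV ψ ⧸ Vn)))) ⟨fun p q e => Ma p q (congrArg Subtype.val e), fun k => by
          obtain ⟨p, e⟩ := key k.1 (mem_cent1.1 k.2); exact ⟨p, Subtype.ext e.symm⟩⟩]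
      simp
    have hnc : ¬ Cfsg.HasNormalPComplement 2 (cV ψ ⧸ Vn) := by
      rintro ⟨P, N, hN, hc⟩
      haveI : Fact (Nat.Prime 2) := ⟨Nat.prime_two⟩
      have c3 : M c ^ 3 = 1 := by
        rw [← map_pow, show c ^ 3 = 1 from Subtype.ext (by
          change ψ c7 ^ 3 = 1
          rw [← map_pow, show c7 ^ 3 = 1 by decide +kernel, map_one]), map_one]
      obtain ⟨n, hn⟩ := IsPGroup.iff_card.1 P.isPGroup'
      have cN : M c ∈ N := by
        have h1 : M c ^ (2 ^ n) ∈ N := by rw [← hn, ← hc.symm.index_eq_card]; exact N.pow_index_mem _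
        have h2 : M c ^ 3 ∈ N := c3 ▸ one_mem _
        have hco : Nat.Coprime (2 ^ n) 3 := Nat.Coprime.pow_left _ (by norm_num)
        have := N.mul_mem (N.zpow_mem h1 (Nat.gcdA (2 ^ n) 3)) (N.zpow_mem h2 (Nat.gcdB (2 ^ n) 3))
        rwa [← zpow_natCast, ← zpow_natCast, ← zpow_mul, ← zpow_mul, ← zpow_add, ← Nat.gcd_eq_gcd_ab, hco,
          Nat.cast_one, zpow_one] at this
      have m3 : M (c2a ψ (true, true)) ∈ N := by
        have := N.mul_mem cN (hN.conj_mem _ (N.inv_mem cN) x)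
        rwa [show M c * (x * (M c)⁻¹ * x⁻¹) = M c * x * (M c)⁻¹ * x⁻¹ by group, inv_eq_of_mul_eq_one_right (asq _), hx,
          ← map_inv, ← map_mul, ← map_mul, cj1, ← map_mul, amul] at this
      have o2 : orderOf (M (c2a ψ (true, true))) = 2 := orderOf_eq_prime (by rw [pow_two, asq]) (ane _ (by decide))
      exact P.not_dvd_index (by rw [hc.index_eq_card, ← o2]; exact N.orderOf_dvd_natCard m3)
    obtain ⟨e⟩ := S3277.result x (orderOf_eq_prime (by rw [pow_two, asq]) x1) hC4 (fun k hk => by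
      obtain ⟨p, rfl⟩ := key k (mem_cent1.1 hk); rw [pow_two, asq]) hnc hne
    refine ⟨e.toMonoidHom.comp M, e.surjective.comp (QuotientGroup.mk'_surjective Vn), ?_⟩
    ext g
    rw [MonoidHom.mem_ker, MonoidHom.comp_apply, MulEquiv.coe_toMonoidHom, map_eq_one_iff _ e.injective]
    exact QuotientGroup.eq_one_iff g
  · left
    push Not at hne
    obtain ⟨E, hE, ⟨cm, ex⟩, hc⟩ := hne
    have Ec : ∀ a ∈ E, ∀ b ∈ E, a * b = b * a := fun a ha b hb => congrArg Subtype.val (cm.is_comm.comm ⟨a, ha⟩ ⟨b, hb⟩)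
    have Ene : E ≠ ⊥ := by
      rintro rfl
      rw [card_bot] at hc
      exact absurd (hc (by norm_num)) (by norm_num)
    haveI := E.nontrivial_iff_ne_bot.2 Ene
    obtain ⟨⟨e, he⟩, e1⟩ := exists_ne (1 : E)
    have e1' : e ≠ 1 := fun h' => e1 (Subtype.ext h')
    have xi : x⁻¹ = x := inv_eq_of_mul_eq_one_right (asq _)
    have : ∃ e ∈ E, e ≠ 1 ∧ e * x = x * e := by
      by_cases y1 : e * (x * e * x⁻¹) = 1
      · have := eq_inv_of_mul_eq_one_right y1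
        rw [inv_eq_of_mul_eq_one_right ((pow_two e).symm.trans (ex e he)), mul_inv_eq_iff_eq_mul] at this
        exact ⟨e, he, e1', this.symm⟩
      · refine ⟨_, E.mul_mem he (hE.conj_mem _ he x), y1, ?_⟩
        calc e * (x * e * x⁻¹) * x = e * x * e := by group
          _ = x * (x⁻¹ * e * x⁻¹⁻¹ * e) := by group
          _ = x * (e * (x * e * x⁻¹)) := by
            rw [Ec _ (hE.conj_mem _ he x⁻¹) e he, inv_inv, xi]
    obtain ⟨e, he, e1, ex⟩ := this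
    obtain ⟨p, rfl⟩ := key e ex
    obtain ⟨d, -, ed⟩ := tr p (by rintro rfl; exact e1 (by rw [a1, map_one]))
    have xE : x ∈ E := by
      have := hE.conj_mem _ he (M d)⁻¹
      rwa [← ed, show (M d)⁻¹ * (M d * x * (M d)⁻¹) * (M d)⁻¹⁻¹ = x by group] at this
    intro g hg
    obtain ⟨q, eq⟩ := key _ (Ec _ (hE.conj_mem _ xE (M ⟨g, hg⟩)) _ xE)
    obtain ⟨d, hd, ed⟩ := tr q (by
      rintro rfl
      rw [a1, map_one] at eq
      exact x1 (by simpa using eq))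
    obtain ⟨r, er⟩ := key (M (d⁻¹ * ⟨g, hg⟩)) (by
      rw [map_mul, map_inv, ← mul_inv_eq_iff_eq_mul]
      calc (M d)⁻¹ * M ⟨g, hg⟩ * x * ((M d)⁻¹ * M ⟨g, hg⟩)⁻¹ = (M d)⁻¹ * (M ⟨g, hg⟩ * x * (M ⟨g, hg⟩)⁻¹) * M d := by group
        _ = x := by rw [eq, ← ed]; group)
    obtain ⟨m, -, em⟩ := (Meq _ _).1 er.symm
    have em' : ψ (π m) = (ψ (π (c2w r)))⁻¹ * (d.1⁻¹ * g) := em
    have : g = d.1 * (ψ (π (c2w r)) * ψ (π m)) := by rw [em']; group
    rw [this]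
    exact mul_mem hd (mul_mem ⟨_, rfl⟩ ⟨_, rfl⟩)

end Cfsg.Agent.W4
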