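import Cfsg.Agent.W4.A

/-! The new 3-cycle `y` (helper20): `FC.yd`. -/

set_option autoImplicit false
set_option maxRecDepth 100000
set_option synthInstance.maxSize 4096
set_option linter.unusedSectionVars false

namespace Cfsg.Agent.W4

open Cfsg.Agent.BG Subgroup Equiv

/-- table of a map -/
def c3T (a b c d e : Fin 5) (i : Fin 5) : Fin 5 :=
  if i = 0 then a else if i = 1 then b else if i = 2 then c else if i = 3 then d else e

theorem c3_all {P : Perm (Fin 5) → Prop} (h : ∀ a b, a ≠ b → ∀ c, a ≠ c → b ≠ c → ∀ d, a ≠ d → b ≠ d → c ≠ d → ∀ e,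
    ∀ hb : Function.Bijective (c3T a b c d e), P (Equiv.ofBijective _ hb)) (q : Perm (Fin 5)) : P q := by
  have e : c3T (q 0) (q 1) (q 2) (q 3) (q 4) = q := by
    funext i; fin_cases i <;> rfl
  have n : ∀ i j, i ≠ j → q i ≠ q j := fun i j => q.injective.ne
  have := h _ _ (n 0 1 (by decide)) _ (n 0 2 (by decide)) (n 1 2 (by decide)) _ (n 0 3 (by decide)) (n 1 3 (by decide))
    (n 2 3 (by decide)) _ (e ▸ q.bijective)
  convert this using 1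
  exact Equiv.ext fun i => (congrFun e i).symm

/-- the standard 3-cycles -/
abbrev c3D (i : Fin 5) : Perm (Fin 5) := Pres.c3 i 3 4

theorem c3_e1 (a : Perm (Fin 5)) : a ^ 3 = 1 → a ≠ 1 →
    ∃ i j k : Fin 5, swap 4 k * swap 3 j * swap 0 i * a = c3D 0 * (swap 4 k * swap 3 j * swap 0 i) := by
  revert a; refine c3_all ?_; decide +kernel

theorem c3_e2 (b : Perm (Fin 5)) : b ^ 3 = 1 → (c3D 0 * b) ^ 2 = 1 → c3D 0 * b ≠ 1 →
    ∃ (i : Fin 3) (j : Fin 2), c3D 0 ^ i.1 * swap 1 2 ^ j.1 * b = c3D 1 * (c3D 0 ^ i.1 * swap 1 2 ^ j.1) := by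
  revert b; refine c3_all ?_; decide +kernel

theorem c3_e3 (a : Perm (Fin 5)) : a ^ 3 = 1 → (a ≠ 1 → (a * c3D 0) ^ 2 = 1 → (a * c3D 1) ^ 2 = 1 → a = c3D 2) ∧
    (a * swap 0 1 = swap 0 1 * a → a = 1 ∨ a = c3D 2 ∨ a * c3D 2 = 1) := by
  revert a; refine c3_all ?_; decide +kernel

theorem c3_norm {a b : Perm (Fin 5)} (a3 : a ^ 3 = 1) (a1 : a ≠ 1) (b3 : b ^ 3 = 1) (r : (a * b) ^ 2 = 1) (n : a * b ≠ 1) :
    ∃ σ : Perm (Fin 5), σ * a * σ⁻¹ = c3D 0 ∧ σ * b * σ⁻¹ = c3D 1 := by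
  obtain ⟨i, j, k, e⟩ := c3_e1 a a3 a1
  generalize swap 4 k * swap 3 j * swap 0 i = σ at e
  have e' : σ * a * σ⁻¹ = c3D 0 := mul_inv_eq_iff_eq_mul.2 e
  have m : c3D 0 * (σ * b * σ⁻¹) = σ * (a * b) * σ⁻¹ := by rw [← e']; group
  obtain ⟨i, j, f⟩ := c3_e2 (σ * b * σ⁻¹) (by rw [conj_pow, b3]; group) (by rw [m, conj_pow, r]; group)
    (by rw [m]; intro k; exact n (by simpa [mul_inv_eq_one] using k))
  have g := (by decide +kernel : ∀ (i : Fin 3) (j : Fin 2),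
    c3D 0 ^ i.1 * swap 1 2 ^ j.1 * c3D 0 = c3D 0 * (c3D 0 ^ i.1 * swap 1 2 ^ j.1)) i j
  generalize c3D 0 ^ i.1 * swap 1 2 ^ j.1 = τ at f g
  refine ⟨τ * σ, ?_, ?_⟩
  · calc _ = τ * (σ * a * σ⁻¹) * τ⁻¹ := by group
      _ = _ := by rw [e', g]; group
  · calc _ = τ * (σ * b * σ⁻¹) * τ⁻¹ := by group
      _ = _ := by rw [f]; group

theorem c3_lift {C : Type*} [Group C] (θ : C →* Perm (Fin 5)) (hk : ∀ a, θ a = 1 → a * a = 1 ∧ ∀ b, a * b = b * a)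
    {a b : C} (ha : a ^ 3 = 1) (hb : b ^ 3 = 1) (e : θ a = θ b) : a = b := by
  obtain ⟨k1, k2⟩ := hk (a * b⁻¹) (by rw [map_mul, map_inv, e, mul_inv_cancel])
  generalize hu : a * b⁻¹ = u at k1 k2
  have e1 : a = u * b := by rw [← hu]; group
  rw [e1, Commute.mul_pow (k2 b), hb, mul_one, pow_three', k1, one_mul] at ha
  rw [e1, ha, one_mul]

theorem c3_core {C : Type*} [Group C] (θ : C →* Perm (Fin 5)) (hs : ∀ q, Perm.sign q = 1 → ∃ a, θ a = q)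
    (he : ∀ a, Perm.sign (θ a) = 1) (hk : ∀ a, θ a = 1 → a * a = 1 ∧ ∀ b, a * b = b * a)
    (h4 : ∀ a : C, a ^ 4 = 1 → a ^ 2 = 1) {c d : C} (hc : θ c = c3D 0) (hd : θ d = c3D 1) (α : C →* C)
    (hi : ∀ a, α a = 1 → a = 1) (h1 : α c = d) (h2 : α d = c) (h3 : ∀ a, θ a = 1 → θ (α a) = 1) :
    ∃ y : C, y ^ 3 = 1 ∧ y ≠ 1 ∧ (y * c) ^ 2 = 1 ∧ (y * d) ^ 2 = 1 ∧
      (∀ y', y' ^ 3 = 1 → y' ≠ 1 → (y' * c) ^ 2 = 1 → (y' * d) ^ 2 = 1 → y' = y) ∧
      (∀ y', y' ^ 3 = 1 → α y' = y' → y' = 1 ∨ y' = y ∨ y' = y⁻¹) ∧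
      ∀ K : Subgroup C, c ∈ K → d ∈ K → y ∈ K → (∀ a, θ a = 1 → a ∈ K) → ∀ a, a ∈ K := by
  obtain ⟨y0, h0⟩ := hs (c3D 2) (by decide +kernel)
  have hy : θ (y0 ^ 4) = c3D 2 := by rw [map_pow, h0]; decide +kernel
  have y3 : (y0 ^ 4) ^ 3 = 1 := by
    have := (hk (y0 ^ 3) (by rw [map_pow, h0]; decide +kernel)).1
    calc _ = (y0 ^ 3 * y0 ^ 3) ^ 2 := by group
      _ = 1 := by rw [this, one_pow]
  generalize y0 ^ 4 = y at hy y3
  have y1 : y ≠ 1 := fun e => absurd (hy.symm.trans (by rw [e, map_one])) (by decide +kernel : c3D 2 ≠ 1)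
  have r : ∀ u : C, (c3D 2 * θ u) ^ 2 = 1 → (y * u) ^ 2 = 1 := fun u e => h4 _ (by
    have := (hk ((y * u) ^ 2) (by rw [map_pow, map_mul, hy, e])).1
    rw [← this, ← pow_add])
  have rc := r c (by rw [hc]; decide +kernel)
  have rd := r d (by rw [hd]; decide +kernel)
  have t3 : ∀ u : C, u ^ 3 = 1 → θ u ^ 3 = 1 := fun u e => by rw [← map_pow, e, map_one]
  have uq : ∀ y', y' ^ 3 = 1 → y' ≠ 1 → (y' * c) ^ 2 = 1 → (y' * d) ^ 2 = 1 → y' = y := fun u u3 u1 uc ud =>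
    c3_lift θ hk u3 y3 (((c3_e3 _ (t3 u u3)).1 (fun e => u1 (c3_lift θ hk u3 (one_pow 3) (e.trans θ.map_one.symm)))
      (by rw [← hc, ← map_mul, ← map_pow, uc, map_one]) (by rw [← hd, ← map_mul, ← map_pow, ud, map_one])).trans hy.symm)
  have gen : ∀ K : Subgroup C, c ∈ K → d ∈ K → y ∈ K → (∀ a, θ a = 1 → a ∈ K) → ∀ a, a ∈ K := fun K kc kd ky kk a => by
    obtain ⟨b, hb, e⟩ := Pres.altOn_le (S := Finset.univ) (u := (3 : Fin 5)) (v := 4) (by decide) (P := K.map θ)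
      (fun i _ i3 i4 => by
        rcases (by decide : ∀ i : Fin 5, i ≠ 3 → i ≠ 4 → i = 0 ∨ i = 1 ∨ i = 2) i i3 i4 with rfl | rfl | rfl
        exacts [⟨c, kc, hc⟩, ⟨d, kd, hd⟩, ⟨y, ky, hy⟩]) (Pres.altOn_univ.ge (Perm.mem_alternatingGroup.2 (he a)))
    have := mul_mem (kk (a * b⁻¹) (by rw [map_mul, map_inv, e, mul_inv_cancel])) hb
    simpa using this
  have ay : α y = y := uq _ (by rw [← map_pow, y3, map_one]) (fun e => y1 (hi _ e))
    (by rw [← h2, ← map_mul, ← map_pow, rd, map_one]) (by rw [← h1, ← map_mul, ← map_pow, rc, map_one])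
  refine ⟨y, y3, y1, rc, rd, uq, fun u u3 au => ?_, gen⟩
  have key : θ (α u) = swap 0 1 * θ u * (swap 0 1)⁻¹ :=
    gen ((θ.comp α).eqLocus ((MulAut.conj (swap 0 1)).toMonoidHom.comp θ))
      (show θ (α c) = swap 0 1 * θ c * (swap 0 1)⁻¹ by rw [h1, hc, hd]; decide +kernel)
      (show θ (α d) = swap 0 1 * θ d * (swap 0 1)⁻¹ by rw [h2, hc, hd]; decide +kernel)
      (show θ (α y) = swap 0 1 * θ y * (swap 0 1)⁻¹ by rw [ay, hy]; decide +kernel)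
      (fun a e => show θ (α a) = swap 0 1 * θ a * (swap 0 1)⁻¹ by rw [h3 a e, e]; group) u
  rw [au] at key
  rcases (c3_e3 _ (t3 u u3)).2 (eq_mul_inv_iff_mul_eq.1 key) with e | e | e
  · exact .inl (c3_lift θ hk u3 (one_pow 3) (e.trans θ.map_one.symm))
  · exact .inr (.inl (c3_lift θ hk u3 y3 (e.trans hy.symm)))
  · exact .inr (.inr (c3_lift θ hk u3 (by rw [inv_pow, y3, inv_one]) (by
      rw [map_inv, hy]; exact eq_inv_of_mul_eq_one_left e)))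

variable {G : Type*} [Group G] [Finite G] {ψ : A8 →* G}

theorem FC.yd (h : FC ψ) (θ : cV ψ →* alternatingGroup (Fin 5)) (hs : Function.Surjective θ)
    (hk : θ.ker = (mV.map (ψ.comp π)).subgroupOf (cV ψ)) : ∃ y, Yd ψ y := by
  haveI : Fact (Nat.Prime 2) := ⟨Nat.prime_two⟩
  have mm : ∀ {a b c d : A8}, a * b = c * d → ψ a * ψ b = ψ c * ψ d := fun e => by rw [← map_mul, ← map_mul, e]
  have kv : ∀ a : cV ψ, θ a = 1 ↔ ∃ p ∈ mV, ψ (π p) = a := fun a => by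
    rw [← MonoidHom.mem_ker, hk, mem_subgroupOf]; rfl
  have hk0 : ∀ a : cV ψ, θ a = 1 → a * a = 1 ∧ ∀ b, a * b = b * a := fun a e => by
    obtain ⟨p, hp, e⟩ := (kv a).1 e
    refine ⟨Subtype.ext ?_, fun b => Subtype.ext ?_⟩
    · change a.1 * a.1 = 1
      rw [← e, ← map_mul, ← map_mul, (by decide +kernel : ∀ p ∈ mV, p * p = 1) p hp, map_one, map_one]
    · change a.1 * b.1 = b.1 * a.1
      have b1 := mem_cent1.1 b.2.1
      have b2 := mem_cent1.1 b.2.2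
      rw [← e]
      rcases (by decide +kernel : ∀ p ∈ mV, p = 1 ∨ p = mc ∨ p = mv ∨ p = mc * mv) p hp with rfl | rfl | rfl | rfl
      · simp
      · exact b1.symm
      · exact b2.symm
      · rw [map_mul, map_mul, mul_assoc, ← b2, ← mul_assoc, ← b1, mul_assoc]
  have h4 : ∀ a : cV ψ, a ^ 4 = 1 → a ^ 2 = 1 := fun a e => by
    have e' : a.1 ^ 2 ^ 2 = 1 := congrArg Subtype.val e
    obtain ⟨n, -, hn⟩ := (Nat.dvd_prime_pow Nat.prime_two).1 (orderOf_dvd_of_pow_eq_one e')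
    obtain ⟨g, -, hle⟩ := Sylow_Jsub h.sylA (zpowers_le.2 a.2) (IsPGroup.of_card (n := n) (by rw [Nat.card_zpowers, hn]))
    obtain ⟨p, hp, k⟩ := hle (conj_mem_cj g (mem_zpowers a.1))
    have k' : ψ (π p) = g * a.1 * g⁻¹ := k
    have : (g * a.1 * g⁻¹) ^ 2 = 1 := by
      rw [← k', ← map_pow, ← map_pow, (by decide +kernel : ∀ p ∈ mA, p ^ 2 = 1) p hp, map_one, map_one]
    rw [conj_pow] at this
    exact Subtype.ext (by simpa [mul_inv_eq_one] using this)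
  let c : cV ψ := ⟨ψ c6, mem_cent1.2 (mm (by decide +kernel)), mem_cent1.2 (mm (by decide +kernel))⟩
  let d : cV ψ := ⟨ψ c7, mem_cent1.2 (mm (by decide +kernel)), mem_cent1.2 (mm (by decide +kernel))⟩
  have pw : ∀ (a : A8) (n : ℕ), a ^ n = 1 → ψ a ^ n = 1 := fun a n e => by rw [← map_pow, e, map_one]
  have c3 : c ^ 3 = 1 := Subtype.ext (pw c6 3 (by decide +kernel))
  have d3 : d ^ 3 = 1 := Subtype.ext (pw c7 3 (by decide +kernel))
  have cd : (c * d) ^ 2 = 1 := Subtype.ext (by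
    change (ψ c6 * ψ c7) ^ 2 = 1
    rw [← map_mul]; exact pw _ 2 (by decide +kernel))
  have nv : ∀ a : A8, (∀ p ∈ mV, π p ≠ a) → ∀ u : cV ψ, u.1 = ψ a → (θ u).1 ≠ 1 := fun a k u e e' => by
    obtain ⟨p, hp, e1⟩ := (kv u).1 (Subtype.ext e')
    exact k p hp (h.inj' (e1.trans e))
  let θ0 : cV ψ →* Perm (Fin 5) := (alternatingGroup (Fin 5)).subtype.comp θ
  obtain ⟨σ, s1, s2⟩ := c3_norm (a := θ0 c) (b := θ0 d) (by rw [← map_pow, c3, map_one])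
    (nv c6 (by decide +kernel) c rfl) (by rw [← map_pow, d3, map_one]) (by rw [← map_mul, ← map_pow, cd, map_one])
    (by rw [← map_mul]; exact nv (c6 * c7) (by decide +kernel) (c * d) (map_mul ψ _ _).symm)
  let θ1 : cV ψ →* Perm (Fin 5) := (MulAut.conj σ).toMonoidHom.comp θ0
  have k1 : ∀ a, θ1 a = 1 ↔ θ a = 1 := fun a => by
    change σ * (θ a).1 * σ⁻¹ = 1 ↔ _
    rw [mul_inv_eq_one, mul_eq_left, OneMemClass.coe_eq_one]
  have cj' : ∀ (y : G) (a b : A8), tau * a * tau⁻¹ = b → y * ψ a = ψ a * y → ψ tau * y * (ψ tau)⁻¹ ∈ C1[ψ b] :=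
    fun y a b e k => by
      rw [mem_cent1, ← e, map_mul, map_mul, map_inv]
      calc _ = ψ tau * (y * ψ a) * (ψ tau)⁻¹ := by group
        _ = _ := by rw [k]; group
  let α : cV ψ →* cV ψ := ((MulAut.conj (ψ tau)).toMonoidHom.comp (cV ψ).subtype).codRestrict _ fun y =>
    ⟨cj' y (π mc) _ (by decide +kernel) (mem_cent1.1 y.2.1), cj' y (π mc * π mv) _ (by decide +kernel) (by
      rw [map_mul, ← mul_assoc, mem_cent1.1 y.2.1, mul_assoc, mem_cent1.1 y.2.2, mul_assoc])⟩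
  have hα : ∀ a, (α a).1 = ψ tau * a.1 * (ψ tau)⁻¹ := fun a => rfl
  have cj : ∀ {a b : A8}, tau * a * tau⁻¹ = b → ψ tau * ψ a * (ψ tau)⁻¹ = ψ b := fun e => by
    rw [← e, map_mul, map_mul, map_inv]
  obtain ⟨y, y3, y1, rc, rd, uq, fx, gen⟩ := c3_core θ1 (fun q hq => by
      obtain ⟨a, ha⟩ := hs ⟨σ⁻¹ * q * σ, Perm.mem_alternatingGroup.2 (by simp [hq])⟩
      refine ⟨a, ?_⟩
      change σ * (θ a).1 * σ⁻¹ = q
      rw [ha]; group)
    (fun a => by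
      change Perm.sign (σ * (θ a).1 * σ⁻¹) = 1
      simp [Perm.mem_alternatingGroup.1 (θ a).2])
    (fun a e => hk0 a ((k1 a).1 e)) h4 (c := c) (d := d) s1 s2 α
    (fun a e => Subtype.ext (by simpa [hα, mul_inv_eq_one] using congrArg Subtype.val e))
    (Subtype.ext (cj (by decide +kernel))) (Subtype.ext (cj (by decide +kernel)))
    (fun a e => by
      obtain ⟨p, hp, e⟩ := (kv a).1 ((k1 a).1 e)
      obtain ⟨q, hq, e'⟩ := (by decide +kernel : ∀ p ∈ mV, ∃ q ∈ mV, tau * π p * tau⁻¹ = π q) p hp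
      exact (k1 _).2 ((kv _).2 ⟨q, hq, by rw [hα, ← e, cj e']⟩))
  refine ⟨y.1, y.2, congrArg Subtype.val y3, fun e => y1 (Subtype.ext e), congrArg Subtype.val rc, congrArg Subtype.val rd,
    fun u hu u3 u1 uc ud => congrArg Subtype.val (uq ⟨u, hu⟩ (Subtype.ext u3) (fun e => u1 (congrArg Subtype.val e))
      (Subtype.ext uc) (Subtype.ext ud)), fun u hu u3 ut => ?_, fun K hK ky g hg => ?_⟩
  · exact (fx ⟨u, hu⟩ (Subtype.ext u3) (Subtype.ext (by rw [hα, ← ut]; group))).imp (congrArg Subtype.val)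
      (.imp (congrArg Subtype.val) (congrArg Subtype.val))
  · exact gen (K.subgroupOf (cV ψ)) (hK ⟨c6, rfl⟩) (hK ⟨c7, rfl⟩) ky (fun a e => by
      obtain ⟨p, -, e⟩ := (kv a).1 ((k1 a).1 e)
      exact hK ⟨_, e⟩) ⟨g, hg⟩

end Cfsg.Agent.W4
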