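import Cfsg.Agent.W4.A

/-! The subgroup `A₉` (helper20): `FC.a9`. -/

set_option autoImplicit false
set_option maxRecDepth 100000
set_option linter.unusedSectionVars false

namespace Cfsg.Agent.W4

open Cfsg.Agent.BG Subgroup Equiv

variable {G : Type*} [Group G] [Finite G] {ψ : A8 →* G} {y : G}

/-- `(6 0 2)(7 1 3)` -/
def c4h : A8 := ⟨⟨![2, 3, 6, 7, 4, 5, 0, 1], ![6, 7, 0, 1, 4, 5, 2, 3], by decide, by decide⟩,
  Perm.mem_alternatingGroup.2 (by decide +kernel)⟩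

theorem c4_tau (hy : Yd ψ y) : ψ tau * y = y * ψ tau := by
  have ht := mem_cent1.1 hy.mem.1
  have hv := mem_cent1.1 hy.mem.2
  have cj : ∀ a b : A8, tau * a * tau⁻¹ = b → ψ tau * y * (ψ tau)⁻¹ * ψ b = ψ tau * (y * ψ a) * (ψ tau)⁻¹ := fun a b e => by
    rw [← e, map_mul, map_mul, map_inv]; group
  have cj' : ∀ a b : A8, tau * a * tau⁻¹ = b → y * ψ a = ψ a * y → ψ tau * y * (ψ tau)⁻¹ ∈ C1[ψ b] := fun a b e k => by
    rw [mem_cent1, cj a b e, k, ← e, map_mul, map_mul, map_inv]; group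
  refine mul_inv_eq_iff_eq_mul.1 (hy.uniq _ ⟨cj' (π mc) _ (by decide +kernel) ht, cj' (π mc * π mv) _ (by decide +kernel) (by
    rw [map_mul, ← mul_assoc, ht, mul_assoc, hv, mul_assoc])⟩ (by rw [conj_pow, hy.y3]; group)
    (fun e => hy.y1 (by simpa [mul_inv_eq_one] using e)) ?_ ?_)
  · rw [cj c7 c6 (by decide +kernel), conj_pow, hy.r7]; group
  · rw [cj c6 c7 (by decide +kernel), conj_pow, hy.r6]; group

theorem c4_hh (h : FC ψ) (hy : Yd ψ y) : ψ c4h * y * (ψ c4h)⁻¹ = y := by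
  have ht := mem_cent1.1 hy.mem.1
  have hτ := c4_tau hy
  set g := ψ c4h with hg
  have cj : ∀ a b : A8, c4h * a * c4h⁻¹ = b → y * ψ a = ψ a * y → g * y * g⁻¹ * ψ b = ψ b * (g * y * g⁻¹) :=
    fun a b e k => by
      rw [← e, map_mul, map_mul, map_inv, ← hg]
      calc _ = g * (y * ψ a) * g⁻¹ := by group
        _ = _ := by rw [k]; group
  have h1 := cj tau (π mc) (by decide +kernel) hτ.symm
  have h2 := cj (π mc * tau) tau (by decide +kernel) (by rw [map_mul, ← mul_assoc, ht, mul_assoc, ← hτ, mul_assoc])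
  have h3 : (g * y * g⁻¹) ^ 3 = 1 := by rw [conj_pow, hy.y3]; group
  have h4 : g * y * g⁻¹ ∈ cV ψ := (h.idx _ (mem_cent1.2 h1)).resolve_right fun k => by
    have k3 := mem_cent1.1 (pow_mem k 3).2
    rw [Commute.mul_pow h2, h3, one_mul, ← map_pow, ← map_mul, ← map_mul] at k3
    exact absurd (h.inj' k3) (by decide +kernel)
  have g3 : g * g * g = 1 := by rw [hg, ← map_mul, ← map_mul, show c4h * c4h * c4h = 1 by decide +kernel, map_one]
  rcases hy.fix _ h4 h3 h2 with e | e | e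
  · exact absurd (by simpa [mul_inv_eq_one] using e) hy.y1
  · exact e
  · have e' : g * y⁻¹ * g⁻¹ = y := by rw [← conj_inv, e, inv_inv]
    have : y = y⁻¹ := by
      calc y = (g * g * g) * y * (g * g * g)⁻¹ := by rw [g3]; group
        _ = g * (g * (g * y * g⁻¹) * g⁻¹) * g⁻¹ := by group
        _ = _ := by rw [e, e', e]
    rw [e, ← this]

theorem FC.a9 (h : FC ψ) (hy : Yd ψ y) : ∃ φ : alternatingGroup (Fin 9) →* G, Function.Injective φ ∧
    ψ.range ≤ φ.range ∧ y ∈ φ.range := by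
  have hh := c4_hh h hy
  have cj : ∀ a : A8, (y * ψ a) ^ 2 = 1 → (y * ψ (c4h * a * c4h⁻¹)) ^ 2 = 1 := fun a k => by
    rw [show y * ψ (c4h * a * c4h⁻¹) = ψ c4h * (y * ψ a) * (ψ c4h)⁻¹ by
      rw [map_mul, map_mul, map_inv]; nth_rewrite 1 [← hh]; group, conj_pow, k]
    group
  let d : Fin 9 → A8 := ![c4h * c6 * c4h⁻¹, c4h * c7 * c4h⁻¹, c4h * (c4h * c6 * c4h⁻¹) * c4h⁻¹,
    c4h * (c4h * c7 * c4h⁻¹) * c4h⁻¹, 1, 1, c6, c7, 1]
  let s : Finset (Fin 9) := {0, 1, 2, 3, 6, 7, 8}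
  have r : ∀ i ∈ s, i ≠ 8 → (y * ψ (d i)) ^ 2 = 1 := fun i hi h8 => by
    simp only [s, Finset.mem_insert, Finset.mem_singleton] at hi
    rcases hi with rfl | rfl | rfl | rfl | rfl | rfl | rfl
    exacts [cj _ hy.r6, cj _ hy.r7, cj _ (cj _ hy.r6), cj _ (cj _ hy.r7), hy.r6, hy.r7, absurd rfl h8]
  let x : Fin 9 → G × Perm (Fin 9) := fun i => (if i = 8 then y else ψ (d i), Pres.c3 i 4 5)
  have L := Pres.carm (MonoidHom.snd G (Perm (Fin 9))) (u := 4) (v := 5) (by decide) x s (by decide) (by decide)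
    (fun i hi => Prod.ext (by
      by_cases e : i = 8
      · simpa [x, e] using hy.y3
      · simp only [x, e, if_false, Prod.pow_fst, Prod.fst_one]
        rw [← map_pow, (by decide +kernel : ∀ i : Fin 9, d i ^ 3 = 1), map_one])
      ((by decide +kernel : ∀ i ∈ s, Pres.c3 i 4 5 ^ 3 = (1 : Perm (Fin 9))) i hi))
    (fun i hi j hj ij => Prod.ext (by
      simp only [x, Prod.pow_fst, Prod.fst_mul, Prod.fst_one]
      by_cases e : i = 8
      · rw [if_pos e, if_neg (e ▸ ij.symm)]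
        exact r j hj (e ▸ ij.symm)
      by_cases e' : j = 8
      · have := r i hi e
        rw [if_neg e, if_pos e']
        calc _ = y⁻¹ * (y * ψ (d i)) ^ 2 * y := by rw [pow_two, pow_two]; group
          _ = 1 := by rw [this]; group
      · rw [if_neg e, if_neg e', ← map_mul, ← map_pow,
          (by decide +kernel : ∀ i ∈ s, ∀ j ∈ s, i ≠ j → (d i * d j) ^ 2 = 1 ∨ i = 8 ∨ j = 8) i hi j hj ij |>.resolve_right
            (by tauto), map_one])
      ((by decide +kernel : ∀ i ∈ s, ∀ j ∈ s, i ≠ j → (Pres.c3 i 4 5 * Pres.c3 j 4 5) ^ 2 = (1 : Perm (Fin 9))) i hi j hj ij))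
    (fun _ _ => rfl)
  rw [show insert 4 (insert 5 s) = Finset.univ by decide] at L
  set H := closure (x '' ↑s)
  let p : H →* alternatingGroup (Fin 9) := ((MonoidHom.snd G (Perm (Fin 9))).comp H.subtype).codRestrict _
    fun a => Pres.altOn_univ.le (L.mem a.2)
  let e := MulEquiv.ofBijective p ⟨fun a b k => Subtype.ext (L.ext a.2 b.2 (congrArg Subtype.val k)), fun σ => by
    obtain ⟨a, ha, k⟩ := L.ex (σ := σ.1) (Pres.altOn_univ.ge σ.2)
    exact ⟨⟨a, ha⟩, Subtype.ext k⟩⟩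
  let φ : alternatingGroup (Fin 9) →* G := ((MonoidHom.fst G (Perm (Fin 9))).comp H.subtype).comp e.symm.toMonoidHom
  have hφ : ∀ a : H, φ (e a) = a.1.1 := fun a => by simp [φ]
  have hx : ∀ i ∈ s, x i ∈ H := fun i hi => subset_closure ⟨i, hi, rfl⟩
  have := alternatingGroup.isSimpleGroup (α := Fin 9) (by simp)
  have hy' : φ (e ⟨_, hx 8 (by decide)⟩) = y := hφ _
  refine ⟨φ, (MonoidHom.ker_eq_bot_iff φ).1 ((φ.normal_ker.eq_bot_or_eq_top).resolve_right fun k => hy.y1 (by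
    rw [← hy', ← MonoidHom.mem_ker, k]; trivial)), ?_, ⟨_, hy'⟩⟩
  rintro _ ⟨a, rfl⟩
  obtain ⟨b, hb, k⟩ := Pres.altOn_le (S := Finset.univ) (u := (4 : Fin 8)) (v := 5) (by decide)
    (P := (φ.range.comap ψ).map A8.subtype) (fun i _ h4 h5 => by
      obtain ⟨j, hj, h8, k⟩ := (by decide +kernel : ∀ i : Fin 8, i ≠ 4 → i ≠ 5 → ∃ j ∈ s, j ≠ 8 ∧
        (d j).1 = Pres.c3 i 4 5) i h4 h5
      exact ⟨d j, ⟨_, (hφ ⟨_, hx j hj⟩).trans (if_neg h8)⟩, k⟩) (Pres.altOn_univ.ge a.2)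
  exact (show b = a from Subtype.ext k) ▸ hb

end Cfsg.Agent.W4
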