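import Cfsg.Agent.W4.A

/-! `exists_hy`: the hypotheses of S3344 give the frame `Hy`. (helper6) -/

set_option autoImplicit false
set_option linter.unusedSectionVars false
set_option linter.unusedVariables false

namespace Cfsg.Agent.W4

open Cfsg.Agent.BG Subgroup Equiv

theorem q0_abs {L : Type*} [Group L] [Finite L] (φ : L →* Perm (Fin 3)) (hφ : Function.Surjective φ)
    (hP : #φ.ker = 32) (X : Sylow 3 L) {z : L} (z2 : orderOf z = 2)
    (hC : ∀ q ∈ φ.ker, (∀ y ∈ (X : Subgroup L), y * q = q * y) → q ∈ zpowers z) :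
    Nat.card L = 192 ∧ C[φ.ker] ≤ φ.ker ∧ ∃ x w : L, x ^ 3 = 1 ∧ (∀ q ∈ φ.ker, q * x = x * q → q ∈ zpowers z) ∧
      w * x * w⁻¹ = x⁻¹ ∧ w * w ∈ zpowers z ∧ ∀ g, ∃ q ∈ φ.ker, ∃ i j : ℕ, g = q * x ^ i * w ^ j := by
  have cL : Nat.card L = 192 := by
    rw [← φ.ker.card_mul_index, hP, index_ker, MonoidHom.range_eq_top.2 hφ, card_top, Nat.card_perm]; simp [Nat.factorial]
  have cX : #(X : Subgroup L) = 3 := by
    obtain ⟨k, hk⟩ := X.isPGroup'.exists_card_eq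
    have e := (X : Subgroup L).card_mul_index
    have n := X.not_dvd_index
    rw [cL, hk] at e
    rcases k with _ | _ | k
    · omega
    · exact hk
    · exfalso
      have : 9 ∣ 192 := ⟨3 ^ k * (X : Subgroup L).index, by rw [← e]; ring⟩
      omega
  obtain ⟨x, xX, ox⟩ := Cauchy Nat.prime_three cX.symm.dvd
  have eX : zpowers x = (X : Subgroup L) := eq_of_le_of_card_ge (zpowers_le.2 xX) (by rw [cX, Nat.card_zpowers, ox])
  have x3 : x ^ 3 = 1 := ox ▸ pow_orderOf_eq_one x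
  have k32 : ∀ q ∈ φ.ker, q ^ 32 = 1 := fun q hq => orderOf_dvd_iff_pow_eq_one.1 (hP ▸ orderOf_dvd_cardG hq)
  have inj : ∀ y ∈ (X : Subgroup L), φ y = 1 → y = 1 := fun y hy e => orderOf_eq_one_iff.1
    (Nat.eq_one_of_dvd_coprimes (show Nat.Coprime 3 32 by decide) (cX ▸ orderOf_dvd_cardG hy)
      (orderOf_dvd_of_pow_eq_one (k32 y e)))
  have a1 : φ x ≠ 1 := fun e => by rw [inj x xX e, orderOf_one] at ox; omega
  have a3 : φ x ^ 3 = 1 := by rw [← map_pow, x3, map_one]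
  have fpf : ∀ q ∈ φ.ker, q * x = x * q → q ∈ zpowers z := fun q hq e => hC q hq fun y hy => by
    obtain ⟨i, rfl⟩ := eX.ge hy
    exact ((show Commute x q from e.symm).zpow_left i).eq
  refine ⟨cL, fun g hg => by_contra fun g1 => ?_, ?_⟩
  · have nC : C[φ.ker].Normal := inferInstance
    have : ∃ y ∈ C[φ.ker], φ y = φ x := by
      have c : x * g * x⁻¹ * g⁻¹ ∈ C[φ.ker] := mul_mem (nC.conj_mem g hg x) (inv_mem hg)
      rcases (by decide : ∀ a g : Perm (Fin 3), a ^ 3 = 1 → a ≠ 1 → g ≠ 1 →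
        g = a ∨ g⁻¹ = a ∨ a * g * a⁻¹ * g⁻¹ = a ∨ (a * g * a⁻¹ * g⁻¹)⁻¹ = a) _ (φ g) a3 a1 g1 with e | e | e | e
      · exact ⟨g, hg, e⟩
      · exact ⟨g⁻¹, inv_mem hg, by rw [map_inv, e]⟩
      · exact ⟨_, c, by simpa using e⟩
      · exact ⟨_, inv_mem c, by rw [map_inv]; simpa only [map_mul, map_inv] using e⟩
    obtain ⟨y, hy, e⟩ := this
    have q1 : x * y⁻¹ ∈ φ.ker := by rw [MonoidHom.mem_ker, map_mul, map_inv, e, mul_inv_cancel]
    have xC : x ∈ C[φ.ker] := (QuotientGroup.eq_one_iff x).1 (orderOf_eq_one_iff.1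
      (Nat.eq_one_of_dvd_coprimes (show Nat.Coprime 3 32 by decide)
        (orderOf_dvd_of_pow_eq_one (by rw [← QuotientGroup.mk_pow, x3, QuotientGroup.mk_one]))
        (orderOf_dvd_of_pow_eq_one (by
          have : ((x * y⁻¹ : L) : L ⧸ C[φ.ker]) = x := by
            rw [QuotientGroup.mk_mul, (QuotientGroup.eq_one_iff _).2 (inv_mem hy), mul_one]
          rw [← this, ← QuotientGroup.mk_pow, k32 _ q1, QuotientGroup.mk_one]))))
    have := card_le_of_le (show φ.ker ≤ zpowers z from fun q hq => fpf q hq (xC q hq))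
    rw [hP, Nat.card_zpowers, z2] at this
    omega
  let N : Subgroup L := (alternatingGroup (Fin 3)).comap φ
  have XN : (X : Subgroup L) ≤ N := eX ▸ zpowers_le.2 (mem_comap.2 (Perm.mem_alternatingGroup.2
    ((by decide : ∀ a : Perm (Fin 3), a ^ 3 = 1 → Perm.sign a = 1) _ a3)))
  obtain ⟨w, hw, wN⟩ : ∃ w ∈ N[(X : Subgroup L)], w ∉ N := by
    by_contra! r
    have t := Sylow.normalizer_sup_eq_top' X XN
    rw [sup_eq_right.2 r] at t
    obtain ⟨u, hu⟩ := hφ (swap 0 1)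
    have : u ∈ N := t ▸ mem_top u
    rw [mem_comap, hu, Perm.mem_alternatingGroup] at this
    exact absurd this (by decide)
  rw [mem_comap, Perm.mem_alternatingGroup] at wN
  obtain ⟨f1, f2, f3⟩ := (by decide : ∀ a b : Perm (Fin 3), a ^ 3 = 1 → a ≠ 1 → Perm.sign b ≠ 1 →
    b * a * b⁻¹ * a = 1 ∧ b * b = 1 ∧ ∀ c, ∃ i : Fin 3, ∃ j : Fin 2, c = a ^ i.1 * b ^ j.1) _ _ a3 a1 wN
  have wx : w * x * w⁻¹ = x⁻¹ := eq_inv_of_mul_eq_one_left
    (inj _ (mul_mem ((mem_normalizer_iff.1 hw x).1 xX) xX) (by simpa using f1))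
  refine ⟨x, w, x3, fpf, wx, fpf _ (by rw [MonoidHom.mem_ker, map_mul, f2]) ?_, fun g => ?_⟩
  · calc w * w * x = w * (w * x * w⁻¹) * w := by group
      _ = w * x⁻¹ * w := by rw [wx]
      _ = (w * x * w⁻¹)⁻¹ * w * w := by group
      _ = x * (w * w) := by rw [wx]; group
  · obtain ⟨i, j, e⟩ := f3 (φ g)
    exact ⟨g * (x ^ i.1 * w ^ j.1)⁻¹, by rw [MonoidHom.mem_ker, map_mul, map_inv, map_mul, map_pow, map_pow, ← e,
      mul_inv_cancel], i, j, by group⟩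

theorem exists_hy {G : Type*} [Group G] [Finite G]
    (s : G) (hs : orderOf s = 2) (L : Subgroup G) (hL : L = Subgroup.centralizer ({s} : Set G))
    (Q : Subgroup G) (hQ : Q = (Cfsg.pCore 2 L).map L.subtype)
    (hQex : Cfsg.IsExtraspecial 2 Q) (hQcard : Nat.card Q = 32)
    (e : L ⧸ Cfsg.pCore 2 L ≃* Equiv.Perm (Fin 3))
    (X : Sylow 3 L) (hCQX : Q ⊓ Subgroup.centralizer (((X : Subgroup L).map L.subtype : Subgroup G) : Set G) = Subgroup.zpowers s)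
    (hnwc : ∃ g : G, g * s * g⁻¹ ∈ Q ∧ g * s * g⁻¹ ≠ s) : ∃ x w, Hy s Q x w := by
  subst hL
  let φ : C1[s] →* Perm (Fin 3) := e.toMonoidHom.comp (QuotientGroup.mk' _)
  have kφ : φ.ker = Cfsg.pCore 2 C1[s] := by
    ext g
    simp [φ, MonoidHom.mem_ker]
  have mQ : ∀ g : C1[s], g ∈ φ.ker ↔ (g : G) ∈ Q := fun g => by
    rw [kφ, hQ]
    exact ⟨fun h => ⟨g, h, rfl⟩, fun ⟨g', h, e⟩ => (Subtype.ext e : g' = g) ▸ h⟩
  have QL : Q ≤ C1[s] := hQ ▸ map_subtype_le _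
  have sQ : s ∈ Q := (hCQX.ge (mem_zpowers s)).1
  have z2 : orderOf (⟨s, cent1_self s⟩ : C1[s]) = 2 := by rw [Subgroup.orderOf_mk, hs]
  have zp : ∀ q : C1[s], q ∈ zpowers (⟨s, cent1_self s⟩ : C1[s]) ↔ (q : G) = 1 ∨ (q : G) = s := fun q => by
    rw [LES.mem_zp z2, Subtype.ext_iff, Subtype.ext_iff]; rfl
  obtain ⟨cL, hC, x, w, x3, fpf, wx, ww, dec⟩ := q0_abs φ (e.surjective.comp (QuotientGroup.mk'_surjective _))
    (by rw [kφ, ← hQcard, hQ, card_map_of_injective (subtype_injective _)]) X z2 fun q hq c =>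
      (zp q).2 ((LES.mem_zp hs).1 (hCQX.le ⟨(mQ q).1 hq, by
        rintro _ ⟨y, hy, rfl⟩
        exact congrArg Subtype.val (c y hy)⟩))
  have es := LES.ES.of_mem hQex sQ (Invol.ne_one_of hs) QL
  refine ⟨x, w, ⟨es, fun g hg => es.cen g ?_ hg, fun g hg => ?_⟩, hQcard, hQ, cL, congrArg Subtype.val x3,
    mem_cent1.1 x.2, fun q hq c => (zp ⟨q, QL hq⟩).1 (fpf _ ((mQ _).2 hq) (Subtype.ext c)), mem_cent1.1 w.2,
    congrArg Subtype.val wx, (zp _).1 ww, fun g hg => ?_, hnwc⟩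
  · exact (mQ ⟨g, mem_cent1.2 (hg s sQ).eq⟩).1 (hC fun y hy => Subtype.ext (hg y ((mQ y).1 hy)).eq.symm)
  · rw [hQ]
    exact Sig.le_normalizer_pcIn le_normalizer (mem_cent1.2 hg.eq)
  · obtain ⟨q, hq, i, j, e⟩ := dec ⟨g, hg⟩
    exact ⟨q, (mQ q).1 hq, i, j, congrArg Subtype.val e⟩

end Cfsg.Agent.W4
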