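import Cfsg.Agent.W4.Q1

/-! S3344, piece Q2: an involution of `C(s)` outside `Q`. (helper21) -/

set_option autoImplicit false
set_option linter.unusedSectionVars false

namespace Cfsg.Agent.W4

open Cfsg.Agent.BG Subgroup

variable {G : Type*} [Group G] [Finite G] {s x w : G} {Q : Subgroup G}

theorem Hy.ww1 (h : Hy s Q x w) : (∃ j ∈ C1[s], j ∉ Q ∧ j * j = 1) := by
  by_contra hn
  have all : ∀ j, j * s = s * j → j * j = 1 → j ∈ Q := fun j c jj => by
    by_contra hj
    exact hn ⟨j, mem_centralizer_singleton_iff.2 c, hj, jj⟩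
  obtain ⟨g, hg, ne⟩ := h.nwc
  have h' := h.le.conj g
  have all' : ∀ j, Commute j (g * s * g⁻¹) → j * j = 1 → j ∈ cj g Q := fun j c jj => by
    refine mem_cj.2 (all _ ?_ ?_)
    · calc _ = g⁻¹ * (j * (g * s * g⁻¹)) * g := by group
        _ = _ := by rw [c.eq]; group
    · calc _ = g⁻¹ * (j * j) * g := by group
        _ = 1 := by rw [jj]; group
  obtain ⟨a, ga, a1, as, ca⟩ : ∃ a, Good Q x a ∧ a ≠ 1 ∧ a ≠ s ∧
      ∀ j ∈ Q, Commute a j → Commute j (g * s * g⁻¹) := by
    rcases h.q1_good hg h'.zz with k | k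
    · exact ⟨_, k, h'.z1, ne, fun j _ c => c.symm⟩
    · refine ⟨_, k, fun e => ne ?_, fun e => h'.z1 (by simpa using e), fun j hj c => ?_⟩
      · rw [eq_inv_of_mul_eq_one_left e, inv_eq_of_mul_eq_one_right h.le.zz]
      · simpa using c.symm.mul_right (h.le.zc j hj).inv_right
  obtain ⟨c, gc, ac, nc⟩ := h.q1_c ga a1 as
  have n2 : ¬ Commute c (x * a * x⁻¹) := fun e => nc (by
    have := q1_cj (x := x).2 (ga.nn ▸ e.mul_right ac.symm)
    rw [h.q1_x3] at this
    exact this.symm)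
  have g2 := h.q1_next ga
  have e1 := h.le.conj_of_not gc.mem g2.mem n2
  have e2 := h'.conj_of_not (all' _ (ca _ gc.mem ac) gc.sq) (all' _ (ca _ g2.mem ga.cm) g2.sq) n2
  exact ne (mul_left_cancel (e2.symm.trans e1))

end Cfsg.Agent.W4
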