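import Cfsg.Agent.W4.Q3a
import Cfsg.Agent.W4.Q2

/-! S3344, piece Q3. (helper9) -/

set_option autoImplicit false

namespace Cfsg.Agent.W4

theorem Hy.gen {G : Type*} [Group G] [Finite G] {s x w : G} {Q : Subgroup G} (h : Hy s Q x w) :
    ∃ w' a c, Gen s Q x w' a c ∧ (w' * c = c * w' ∨ w' * c * w'⁻¹ = a * c * s) := h.gen' h.ww1

end Cfsg.Agent.W4
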