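import Cfsg.Agent.W4.A
import Cfsg.Agent.LES.Holo
import Cfsg.Agent.GW.D8A6
import Cfsg.Agent.Classical.SLCard

/-! S3344, piece R1: the case of an abelian normal closure (`2³ · L₃(2)`). (helper19) -/

set_option autoImplicit false
set_option linter.unusedSectionVars false

namespace Cfsg.Agent.W4

open Cfsg.Agent.BG Subgroup

variable {G : Type*} [Group G] [Finite G] {s x w : G} {Q : Subgroup G}

theorem r1_gl_psl : Nonempty (GL (Fin 3) (ZMod 2) ≃* Matrix.ProjectiveSpecialLinearGroup (Fin 3) (ZMod 2)) ∧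
    Nat.card (GL (Fin 3) (ZMod 2)) = 168 := by
  have h2 := Classical.card_units_mul_card_SL (ι := Fin 3) (R := ZMod 2)
  rw [Nat.card_units, Nat.card_zmod, show 2 - 1 = 1 from rfl, one_mul] at h2
  have h1 : center (Matrix.SpecialLinearGroup (Fin 3) (ZMod 2)) = ⊥ := by
    rw [← card_eq_one, Classical.card_center_SL]
    simp
  exact ⟨⟨(MulEquiv.ofBijective Matrix.SpecialLinearGroup.toGL ((Nat.bijective_iff_injective_and_card _).2
      ⟨Matrix.SpecialLinearGroup.toGL_injective, h2⟩)).symm.trans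
      ((QuotientGroup.quotientMulEquivOfEq h1).trans QuotientGroup.quotientBot).symm⟩,
    h2.symm.trans GW.card_SL3_two⟩

theorem r1_quot {V : Subgroup G} [V.Normal] {z r : G} (hV2 : ∀ v ∈ V, v * v = 1) (h8 : Nat.card V = 8)
    (hc : Nat.card (centralizer ({z} : Set G)) = 192) (hcV : centralizer (V : Set G) ≤ V)
    (hr' : r ∉ centralizer {z}) : Nonempty (G ⧸ V ≃* Matrix.ProjectiveSpecialLinearGroup (Fin 3) (ZMod 2)) := by
  haveI := Fact.mk Nat.prime_two
  have ab := LES.abelian_of_sq hV2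
  obtain ⟨e⟩ := @LES.aut_GL'' 3 2 _ V { (inferInstance : Group V) with mul_comm := ab.is_comm.comm } _
    (fun x => Subtype.ext (by simpa [pow_two] using hV2 x x.2)) h8
  obtain ⟨⟨e'⟩, cG⟩ := r1_gl_psl
  let f : G →* GL (Fin 3) (ZMod 2) := e.toMonoidHom.comp (MulAut.conjNormal (H := V))
  have k : V = f.ker := Subgroup.ext fun g => by
    rw [show g ∈ f.ker ↔ MulAut.conjNormal (H := V) g = 1 from e.map_eq_one_iff]
    refine ⟨fun h => MulEquiv.ext fun v => Subtype.ext ?_, fun h => hcV fun v hv => ?_⟩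
    · exact mul_inv_eq_iff_eq_mul.2 (congrArg Subtype.val (ab.is_comm.comm ⟨g, h⟩ v))
    · exact (mul_inv_eq_iff_eq_mul.1 (congrArg Subtype.val (MulEquiv.congr_fun h ⟨v, hv⟩))).symm
  have c1 := f.ker.card_mul_index
  rw [index_ker, ← k, h8] at c1
  have c2 := f.range.card_mul_index
  rw [cG] at c2
  have c3 := (centralizer {z}).card_mul_index
  rw [hc] at c3
  have c4 : (centralizer {z}).index ≠ 1 := fun h => hr' ((index_eq_one.1 h).ge (mem_top r))
  generalize (centralizer {z}).index = i at c3 c4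
  have c5 : i * f.range.index = 7 := by
    have : 192 * i * f.range.index = 8 * 168 := by rw [c3, ← c1, ← c2, mul_assoc]
    linarith [mul_assoc 192 i f.range.index]
  have c6 : f.range.index = 1 := by
    rcases (Nat.dvd_prime (by decide : Nat.Prime 7)).1 (Dvd.intro _ c5) with h | h
    · exact absurd h c4
    · rw [h] at c5; omega
  exact ⟨(QuotientGroup.quotientMulEquivOfEq k).trans ((QuotientGroup.quotientKerEquivOfSurjective f
    (MonoidHom.range_eq_top.1 (index_eq_one.1 c6))).trans e')⟩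

theorem Hy.ab (h : Hy s Q x w) (hc : IsMulCommutative (normalClosure ({s} : Set G))) :
    ∃ (N : Subgroup G) (hN : N.Normal), IsMulCommutative N ∧ (∀ n ∈ N, n ^ 2 = 1) ∧ Nat.card N = 8 ∧
      Nonempty (G ⧸ N ≃* Matrix.ProjectiveSpecialLinearGroup (Fin 3) (ZMod 2)) := by
  haveI := Fact.mk Nat.prime_two
  have nN : (normalClosure ({s} : Set G)).Normal := inferInstance
  have sN : s ∈ normalClosure ({s} : Set G) := subset_normalClosure rfl
  have cm : ∀ a ∈ normalClosure ({s} : Set G), ∀ b ∈ normalClosure ({s} : Set G), a * b = b * a :=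
    fun a ha b hb => congrArg Subtype.val (hc.is_comm.comm ⟨a, ha⟩ ⟨b, hb⟩)
  have sq : ∀ n ∈ normalClosure ({s} : Set G), n * n = 1 := by
    let K : Subgroup G :=
      { carrier := {n | n ∈ normalClosure ({s} : Set G) ∧ n * n = 1}
        one_mem' := ⟨one_mem _, mul_one _⟩
        mul_mem' := fun {a b} ha hb => ⟨mul_mem ha.1 hb.1, by
          rw [mul_assoc, ← mul_assoc b, ← cm a ha.1 b hb.1, mul_assoc, hb.2, mul_one, ha.2]⟩
        inv_mem' := fun {a} ha => ⟨inv_mem ha.1, by rw [← mul_inv_rev, ha.2, inv_one]⟩ }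
    haveI : K.Normal := ⟨fun n hn g => ⟨nN.conj_mem n hn.1 g, by rw [conj_mul, hn.2]; group⟩⟩
    exact fun n hn => ((normalClosure_le_normal (N := K) (by rintro _ rfl; exact ⟨sN, h.le.zz⟩)) hn).2
  generalize normalClosure ({s} : Set G) = N at hc nN sN cm sq
  have O2 : ∀ K : Subgroup G, K.Normal → K ≤ C1[s] → IsPGroup 2 K → K ≤ Q := fun K hK h1 h2 =>
    h.O2 ▸ Sig.le_pcIn h1 (by rw [normalizer_eq_top]; exact le_top) h2
  have NQ : N ≤ Q := O2 N nN (fun n hn => mem_centralizer_singleton_iff.2 (cm n hn s sN))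
    fun n => ⟨1, Subtype.ext (by simpa [pow_two] using sq n n.2)⟩
  obtain ⟨g, -, g2⟩ := h.nwc
  have gN := nN.conj_mem s sN g
  have g1 : g * s * g⁻¹ ≠ 1 := fun e => h.le.z1 (by simpa using e)
  have gc : g ∉ centralizer ({s} : Set G) := fun e => g2 (mul_inv_eq_iff_eq_mul.2 (mem_centralizer_singleton_iff.1 e))
  generalize g * s * g⁻¹ = t at g1 g2 gN
  have xs : x * s * x⁻¹ = s := by rw [h.xs, mul_inv_cancel_right]
  have xt : x * t * x⁻¹ ≠ t := fun e => by
    rcases h.fpf t (NQ gN) (mul_inv_eq_iff_eq_mul.1 e).symm with e | e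
    exacts [g1 e, g2 e]
  have c1 := h.le.card_cent NQ sN
  have le : N ≤ Q ⊓ C[N] := le_inf NQ fun a ha b hb => cm b hb a ha
  have c2 := card_le_of_le le
  rw [h.card] at c1
  have c5 : 5 ≤ #N := by
    have n1 : x * t * x⁻¹ ≠ 1 := fun e => g1 (by simpa using e)
    have n2 : x * t * x⁻¹ ≠ s := fun e => g2 (by simpa using e.trans xs.symm)
    have n3 : x * t * x⁻¹ ≠ t * s := fun e => by
      have e2 : x * (t * s) * x⁻¹ = t := by rw [← conj_mul, e, xs, mul_assoc t, h.le.zz, mul_one]
      have e3 : x * (x * (x * t * x⁻¹) * x⁻¹) * x⁻¹ = t := by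
        calc _ = x ^ 3 * t * (x ^ 3)⁻¹ := by simp only [pow_succ, pow_zero, one_mul]; group
          _ = t := by rw [h.x3]; group
      rw [e, e2, e] at e3
      exact h.le.z1 (by simpa using e3)
    have n4 : t * s ≠ 1 := fun e => g2 (mul_right_cancel (e.trans h.le.zz.symm))
    have n5 : t * s ≠ s := fun e => g1 (by simpa using e)
    have n6 : t * s ≠ t := fun e => h.le.z1 (by simpa using e)
    have s1 := h.le.z1
    classical
    have := Set.ncard_le_ncard (s := ((({x * t * x⁻¹, t * s, t, s, 1} : Finset G)) : Set G)) (t := (N : Set G)) (by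
      intro y hy
      simp only [Finset.coe_insert, Finset.coe_singleton, Set.mem_insert_iff, Set.mem_singleton_iff] at hy
      rcases hy with rfl | rfl | rfl | rfl | rfl
      exacts [nN.conj_mem _ gN _, mul_mem gN sN, gN, sN, one_mem _])
    rw [Set.ncard_coe_finset, Finset.card_insert_of_notMem (by simp [n1, n2, n3, xt]),
      Finset.card_insert_of_notMem (by simp [n4, n5, n6]), Finset.card_insert_of_notMem (by simp [g1, g2]),
      Finset.card_pair s1] at this
    exact this
  have c8 : #N = 8 := by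
    have d : #N ∣ 64 := Dvd.intro _ c1
    have : #N ≤ 8 := by nlinarith
    generalize #N = n at c5 d this
    interval_cases n <;> simp_all
  have eN : N = Q ⊓ C[N] := eq_of_le_of_card_ge le (by rw [c8] at c1 ⊢; omega)
  have CL : C[N] ≤ C1[s] := fun a ha => mem_centralizer_singleton_iff.2 (ha s sN).symm
  have CQ : C[N] ≤ Q := O2 _ inferInstance CL (by
    have i1 := ((C[N] : Subgroup G).subgroupOf C1[s]).card_mul_index
    have i2 := pow_index_mem (H := (C[N] : Subgroup G).subgroupOf C1[s]) ⟨x, mem_centralizer_singleton_iff.2 h.xs⟩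
    rw [Nat.card_congr (subgroupOfEquivOfLe CL).toEquiv, h.cardL] at i1
    rw [mem_subgroupOf, SubmonoidClass.coe_pow] at i2
    generalize ((C[N] : Subgroup G).subgroupOf C1[s]).index = i at i1 i2
    have x3 : x ∉ (C[N] : Subgroup G) := fun e => xt (mul_inv_eq_iff_eq_mul.2 (e t gN).symm)
    obtain ⟨j, rfl⟩ : 3 ∣ i := by
      by_contra hn
      apply x3
      rw [pow_eq_pow_mod i h.x3] at i2
      rcases (by omega : i % 3 = 1 ∨ i % 3 = 2) with e | e <;> rw [e] at i2
      · simpa using i2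
      · have := mul_mem i2 i2
        rwa [show x ^ 2 * x ^ 2 = x ^ 3 * x by group, h.x3, one_mul] at this
    obtain ⟨k, -, hk⟩ := (Nat.dvd_prime_pow Nat.prime_two).1
      (show #(C[N] : Subgroup G) ∣ 2 ^ 6 from ⟨j, by linarith [mul_left_comm (#(C[N] : Subgroup G)) 3 j]⟩)
    exact IsPGroup.of_card hk)
  exact ⟨N, nN, hc, fun n hn => (pow_two n).trans (sq n hn), c8,
    r1_quot sq c8 h.cardL (fun a ha => eN.ge ⟨CQ ha, ha⟩) gc⟩

end Cfsg.Agent.W4
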