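import Cfsg.Agent.W4.A
import Cfsg.Agent.Rec.ZS

set_option autoImplicit false
set_option linter.unusedSectionVars false

namespace Cfsg.Agent.W4

open Cfsg.Agent.BG Subgroup

variable {G : Type*} [Group G] [Finite G] {s x w : G} {Q : Subgroup G}

theorem Hy.r2_xc (h : Hy s Q x w) {q : G} (hq : q ∈ Q) (i : ℕ) : x ^ i * q * (x ^ i)⁻¹ ∈ Q :=
  h.le.conj_mem ((show Commute x s from h.xs).pow_left i) hq

/-- the norm of `q` under `x` lies in `⟨s⟩` -/
theorem Hy.r2_n (h : Hy s Q x w) {q : G} (hq : q ∈ Q) :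
    x * x * q * (x * x)⁻¹ * (x * q * x⁻¹) * q = 1 ∨ x * x * q * (x * x)⁻¹ * (x * q * x⁻¹) * q = s := by
  have x3 : x * x * x = 1 := by rw [← h.x3, pow_succ, pow_two]
  have xi : x⁻¹ = x * x := inv_eq_of_mul_eq_one_left x3
  have m1 : x * q * x⁻¹ ∈ Q := by simpa using h.r2_xc hq 1
  have m2 : x * x * q * (x * x)⁻¹ ∈ Q := by simpa [pow_two] using h.r2_xc hq 2
  set n := x * x * q * (x * x)⁻¹ * (x * q * x⁻¹) * q with hn
  have mn : n ∈ Q := mul_mem (mul_mem m2 m1) hq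
  have e : x * n * x⁻¹ = q * n * q⁻¹ := by
    have : x * n * x⁻¹ = (x * x * x) * q * (x * x * x)⁻¹ * (x * x * q * (x * x)⁻¹ * (x * q * x⁻¹)) := by
      rw [hn]; group
    rw [this, x3, hn]; group
  rcases h.le.comm q hq n mn with c | c
  · refine h.fpf n mn ?_
    rw [c] at e
    rw [← mul_inv_eq_iff_eq_mul.1 e]
  · exfalso
    rw [c] at e
    have xs : x * s * x⁻¹ = s := by rw [h.xs]; group
    have e2 : x * (x * n * x⁻¹) * x⁻¹ = n := by
      rw [e]
      calc x * (n * s) * x⁻¹ = (x * n * x⁻¹) * (x * s * x⁻¹) := by group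
        _ = n := by rw [e, xs, mul_assoc, h.le.zz, mul_one]
    have e3 : x * (x * (x * n * x⁻¹) * x⁻¹) * x⁻¹ = n := by
      calc _ = (x * x * x) * n * (x * x * x)⁻¹ := by group
        _ = n := by rw [x3]; group
    rw [e2, e] at e3
    exact h.le.z1 (by simpa using e3)

theorem Hy.r2_A (h : Hy s Q x w) {N : Subgroup G} [N.Normal] (hs : s ∈ N) {q0 : G} (h0 : q0 ∈ Q)
    (hN : q0 * (x * x) ∈ N) : Q ≤ N ∧ x ∈ N := by
  have x3 : x * x * x = 1 := by rw [← h.x3, pow_succ, pow_two]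
  let f := QuotientGroup.mk' N
  have k : ∀ {g : G}, f g = 1 ↔ g ∈ N := fun {g} => QuotientGroup.eq_one_iff g
  have fs : f s = 1 := k.2 hs
  have e0 : f x = f q0 := by
    have e1 : f q0 * (f x * f x) = 1 := by simpa using k.2 hN
    have e2 : f x * f x * f x = 1 := by rw [← map_mul, ← map_mul, x3, map_one]
    calc f x = f q0 * (f x * f x) * f x := by rw [e1, one_mul]
      _ = f q0 * (f x * f x * f x) := by group
      _ = f q0 := by rw [e2, mul_one]
  have hQ : Q ≤ N := by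
    intro q hq
    have c : f x * f q * (f x)⁻¹ = f q := by
      rw [e0]
      rcases h.le.comm q0 h0 q hq with c | c
      · simpa using congrArg f c
      · simpa [fs] using congrArg f c
    have c2 : f q * f q = 1 := by
      rcases h.le.sq q hq with c | c
      · rw [← map_mul, c, map_one]
      · rw [← map_mul, c, fs]
    have c3 : f (x * x * q * (x * x)⁻¹ * (x * q * x⁻¹) * q) = 1 := by
      rcases h.r2_n hq with c | c
      · rw [c, map_one]
      · rw [c, fs]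
    have c4 : f (x * x * q * (x * x)⁻¹ * (x * q * x⁻¹) * q) =
        f x * (f x * f q * (f x)⁻¹) * (f x)⁻¹ * (f x * f q * (f x)⁻¹) * f q := by
      simp only [map_mul, map_inv]; group
    rw [c4, c, c, c2, one_mul] at c3
    exact k.1 c3
  exact ⟨hQ, k.1 (e0.trans (k.2 (hQ h0)))⟩

theorem Hy.r2_B (h : Hy s Q x w) {q : G} (hq : q ∈ Q) (i : ℕ) (e : (q * x ^ i) ^ 4 = 1) :
    q * x ^ i ∈ Q := by
  have y3 : x ^ i * x ^ i * x ^ i = 1 := by
    rw [← pow_add, ← pow_add, show i + i + i = 3 * i by ring, pow_mul, h.x3, one_pow]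
  have m1 := h.r2_xc hq i
  have m2 := h.r2_xc m1 i
  set y := x ^ i
  have : (q * y) ^ 4 = q * (y * q * y⁻¹) * (y * (y * q * y⁻¹) * y⁻¹) * (y * y * y) * q * y := by
    simp only [pow_succ, pow_zero]; group
  rw [this, y3, mul_one] at e
  have : y = (q * (y * q * y⁻¹) * (y * (y * q * y⁻¹) * y⁻¹) * q)⁻¹ := eq_inv_of_mul_eq_one_right e
  refine mul_mem hq ?_
  rw [this]
  exact inv_mem (mul_mem (mul_mem (mul_mem hq m1) m2) hq)

theorem Hy.r2_dec (h : Hy s Q x w) {g : G} (hg : g ∈ C1[s]) :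
    ∃ q ∈ Q, ∃ i : ℕ, g = q * x ^ i ∨ g = q * x ^ i * w := by
  obtain ⟨q, hq, i, j, rfl⟩ := h.dec g hg
  have hw : ∀ k : ℕ, (w * w) ^ k ∈ Q ∧ Commute ((w * w) ^ k) (x ^ i) := by
    intro k
    rcases h.ww with e | e
    · simp [e]
    · rw [e]
      exact ⟨pow_mem h.le.zQ k, ((show Commute x s from h.xs).symm.pow_pow k i)⟩
  refine ⟨q * (w * w) ^ (j / 2), mul_mem hq (hw _).1, i, ?_⟩
  have e := (hw (j / 2)).2.eq
  rcases Nat.even_or_odd' j with ⟨k, rfl | rfl⟩
  · left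
    rw [show 2 * k / 2 = k by omega] at e ⊢
    rw [pow_mul, pow_two, mul_assoc, mul_assoc, e]
  · right
    rw [show (2 * k + 1) / 2 = k by omega] at e ⊢
    rw [pow_succ, pow_mul, pow_two, mul_assoc q ((w * w) ^ k), e]
    simp only [mul_assoc]

theorem Hy.r2_large (h : Hy s Q x w) : IsLargeExtraspecial Q := by
  obtain ⟨g, h1, h2⟩ := h.nwc
  exact h.le.large_of_conj h1 h2 (h.le.sym (by rw [h.card]; norm_num) h1)

theorem Hy.simple (h : Hy s Q x w) (hc : ¬ IsMulCommutative (normalClosure ({s} : Set G))) :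
    IsSimpleGroup G := by
  have hl := h.r2_large
  refine LES.simple_of hl h.le h.O2 ?_
  set N := normalClosure ({s} : Set G) with hN
  haveI : N.Normal := normalClosure_normal
  have sN : s ∈ N := subset_normalClosure rfl
  by_cases ha : ∃ q ∈ Q, ∃ i : ℕ, q * x ^ i * w ∈ N
  · obtain ⟨q, hq, i, ht⟩ := ha
    have x3 : x * x * x = 1 := by rw [← h.x3, pow_succ, pow_two]
    have xi : x⁻¹ = x * x := inv_eq_of_mul_eq_one_left x3
    have m : (q * x ^ i * w) * (x⁻¹ * (q * x ^ i * w)⁻¹ * x⁻¹⁻¹) ∈ N :=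
      mul_mem ht (‹N.Normal›.conj_mem _ (inv_mem ht) x⁻¹)
    have e : (q * x ^ i * w) * (x⁻¹ * (q * x ^ i * w)⁻¹ * x⁻¹⁻¹) = q * (x * q⁻¹ * x⁻¹) * (x * x) := by
      calc _ = q * x ^ i * (w * x * w⁻¹)⁻¹ * (x ^ i)⁻¹ * q⁻¹ * x := by group
        _ = _ := by rw [h.wx]; group
    rw [e] at m
    have m1 : x * q⁻¹ * x⁻¹ ∈ Q := by simpa using h.r2_xc (inv_mem hq) 1
    obtain ⟨hQ, hx⟩ := h.r2_A sN (mul_mem hq m1) m
    have hw : w ∈ N := by
      have := mul_mem (inv_mem (mul_mem (hQ hq) (pow_mem hx i))) ht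
      rwa [inv_mul_cancel_left] at this
    intro g hg
    obtain ⟨q, hq, i, j, rfl⟩ := h.dec g hg
    exact mul_mem (mul_mem (hQ hq) (pow_mem hx i)) (pow_mem hw j)
  exfalso
  have hb : ∀ g ∈ N, g ∈ C1[s] → ∃ q ∈ Q, ∃ i : ℕ, g = q * x ^ i := by
    intro g gN hg
    obtain ⟨q, hq, i, e | e⟩ := h.r2_dec hg
    · exact ⟨q, hq, i, e⟩
    · exact absurd ⟨q, hq, i, e ▸ gN⟩ ha
  have q4 : ∀ a ∈ Q, a ^ 4 = 1 := by
    intro a ha
    have : a ^ 4 = a * a * (a * a) := by simp only [pow_succ, pow_zero]; group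
    rcases h.le.sq a ha with e | e
    · rw [this, e, mul_one]
    · rw [this, e, h.le.zz]
  have iso : ∀ n ∈ N, Commute s (n * s * n⁻¹) → n * s * n⁻¹ = s := by
    intro n hn c
    have uQ : n * s * n⁻¹ ∈ Q := by
      obtain ⟨q, hq, i, e⟩ := hb _ (‹N.Normal›.conj_mem _ sN n) (mem_centralizer_singleton_iff.2 c.symm.eq)
      rw [e]
      refine h.r2_B hq i ?_
      rw [← e, conj_pow, q4 s h.le.zQ]; group
    have key : ∀ a ∈ Q, Commute a (n * s * n⁻¹) → n⁻¹ * a * n ∈ Q := by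
      intro a ha ca
      have c1 : n⁻¹ * (a * n * a⁻¹) ∈ C1[s] := by
        refine mem_centralizer_singleton_iff.2 ?_
        have e1 : s * a⁻¹ = a⁻¹ * s := ((h.le.zc a ha).inv_left.eq).symm
        show n⁻¹ * (a * n * a⁻¹) * s = s * (n⁻¹ * (a * n * a⁻¹))
        calc _ = n⁻¹ * a * n * (a⁻¹ * s) := by group
          _ = n⁻¹ * (a * (n * s * n⁻¹)) * n * a⁻¹ := by rw [← e1]; group
          _ = _ := by rw [ca.eq]; group
      obtain ⟨q, hq, i, e⟩ := hb _ (mul_mem (inv_mem hn) (‹N.Normal›.conj_mem _ hn a)) c1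
      have e2 : n⁻¹ * a * n = q * (x ^ i * a * (x ^ i)⁻¹) * x ^ i := by
        calc _ = n⁻¹ * (a * n * a⁻¹) * a := by group
          _ = _ := by rw [e]; group
      rw [e2]
      refine h.r2_B (mul_mem hq (h.r2_xc ha i)) i ?_
      rw [← e2]
      have := conj_pow (i := 4) (a := n⁻¹) (b := a)
      rw [inv_inv] at this
      rw [this, q4 a ha]; group
    obtain ⟨a, ha, b, hb', ca, cb, ab⟩ := h.le.nab_cent (by rw [h.card]; norm_num) uQ
    have e1 := h.le.conj_of_not ha hb' ab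
    have e2 : (n⁻¹ * a * n) * (n⁻¹ * b * n) * (n⁻¹ * a * n)⁻¹ = (n⁻¹ * b * n) * (n⁻¹ * s * n) := by
      calc _ = n⁻¹ * (a * b * a⁻¹) * n := by group
        _ = _ := by rw [e1]; group
    rcases h.le.comm _ (key a ha ca) _ (key b hb' cb) with e | e
    · rw [e2] at e
      have e3 : n⁻¹ * s * n = 1 := by simpa using e
      refine absurd ?_ h.le.z1
      calc s = n * (n⁻¹ * s * n) * n⁻¹ := by group
        _ = 1 := by rw [e3]; group
    · rw [e2] at e
      have e3 : n⁻¹ * s * n = s := mul_left_cancel e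
      calc n * s * n⁻¹ = n * (n⁻¹ * s * n) * n⁻¹ := by rw [e3]
        _ = s := by group
  have hS : IsSimpleGroup N := by
    rcases LES.struct hl h.le hN with ⟨ab, -⟩ | ⟨-, hs, -⟩ | ⟨-, L, u, -, -, -, -, -, -, w, -, -, -, -, hn⟩
    · exact absurd ab hc
    · exact hs
    · exact absurd h.O2 hn
  obtain ⟨K, KN, ko, kn, kc⟩ := Rec.zstar_in sN h.le.z2 iso
  have nK : (K.subgroupOf N).Normal := ⟨fun k hk g => kn g.1 g.2 k.1 hk⟩
  rcases nK.eq_bot_or_eq_top with e | e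
  · have cs : (⟨s, sN⟩ : N) ∈ center N := by
      refine mem_center_iff.2 fun g => ?_
      have : (⟨s, sN⟩ * g * ⟨s, sN⟩⁻¹ * g⁻¹ : N) ∈ K.subgroupOf N := kc g.1 g.2
      rw [e, mem_bot, mul_inv_eq_one, mul_inv_eq_iff_eq_mul] at this
      exact this.symm
    rcases (inferInstance : (center N).Normal).eq_bot_or_eq_top with e' | e'
    · rw [e', mem_bot] at cs
      exact h.le.z1 (congrArg Subtype.val cs)
    · exact hc ⟨⟨fun a b => (mem_center_iff.1 (e' ▸ mem_top b : b ∈ center N) a)⟩⟩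
  · have : (⟨s, sN⟩ : N) ∈ K.subgroupOf N := e ▸ mem_top _
    have := ko s this
    rw [h.le.z2] at this
    exact absurd this (by decide)

end Cfsg.Agent.W4
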