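import Cfsg.Agent.LES.Struct
import Cfsg.Agent.SW2.A
import Cfsg.Agent.Pres.Carm

/-! Groups with an involution centralizer `2^{1+4}.S₃`: the frames `Hy`, `Gen`, `Fr`, `FA`, `FH`, the model `Mu = U₄(2)`. -/

set_option autoImplicit false
set_option linter.unusedSectionVars false

namespace Cfsg.Agent.W4

open Cfsg.Agent.BG Subgroup Equiv

/-- the unitriangular matrix with entries `a = (12)`, `b = (23)`, `c = (34)`, `d = (13)`, `e = (24)`, `k = (14)`;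
it equals `e34^c * e23^b * e24^e * e12^a * e13^d * e14^k`. -/
@[ext] structure Mu where
  a : Bool
  b : Bool
  c : Bool
  d : Bool
  e : Bool
  k : Bool
  deriving DecidableEq

/-- coordinates -/
def eqv : Mu ≃ (Bool × Bool × Bool) × (Bool × Bool × Bool) where
  toFun p := ((p.a, p.b, p.c), (p.d, p.e, p.k))
  invFun q := ⟨q.1.1, q.1.2.1, q.1.2.2, q.2.1, q.2.2.1, q.2.2.2⟩
  left_inv _ := rfl
  right_inv _ := rfl
instance instFintypeMuW4 : Fintype Mu := Fintype.ofEquiv _ eqv.symm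
instance decAllW4 (P : Mu → Prop) [DecidablePred P] : Decidable (∀ p, P p) :=
  decidable_of_iff (∀ a b c d e k, P ⟨a, b, c, d, e, k⟩) ⟨fun h _ => h _ _ _ _ _ _, fun h _ _ _ _ _ _ => h _⟩
instance decExW4 (P : Mu → Prop) [DecidablePred P] : Decidable (∃ p, P p) :=
  decidable_of_iff (∃ a b c d e k, P ⟨a, b, c, d, e, k⟩)
    ⟨fun ⟨_, _, _, _, _, _, h⟩ => ⟨_, h⟩, fun ⟨_, h⟩ => ⟨_, _, _, _, _, _, h⟩⟩

instance instGroupMuW4 : Group Mu where
  mul p q := ⟨p.a ^^ q.a, p.b ^^ q.b, p.c ^^ q.c, p.d ^^ q.d ^^ (p.a && q.b), p.e ^^ q.e ^^ (p.b && q.c),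
    p.k ^^ q.k ^^ (p.a && q.e) ^^ (p.d && q.c)⟩
  one := ⟨false, false, false, false, false, false⟩
  inv p := ⟨p.a, p.b, p.c, p.d ^^ (p.a && p.b), p.e ^^ (p.b && p.c), p.k ^^ (p.a && p.e) ^^ (p.d && p.c) ^^ (p.a && p.b && p.c)⟩
  mul_assoc := by
    rintro ⟨a, b, c, d, e, k⟩ ⟨a', b', c', d', e', k'⟩ ⟨a'', b'', c'', d'', e'', k''⟩
    have h1 : ∀ d d' d'' a a' b' b'' : Bool, (d ^^ d' ^^ (a && b') ^^ d'' ^^ ((a ^^ a') && b'')) =
      (d ^^ (d' ^^ d'' ^^ (a' && b'')) ^^ (a && (b' ^^ b''))) := by decide +kernel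
    have h2 : ∀ k k' k'' a e' d c' a' e'' d' b' c'' : Bool,
      (k ^^ k' ^^ (a && e') ^^ (d && c') ^^ k'' ^^ ((a ^^ a') && e'') ^^ ((d ^^ d' ^^ (a && b')) && c'')) =
      (k ^^ (k' ^^ k'' ^^ (a' && e'') ^^ (d' && c'')) ^^ (a && (e' ^^ e'' ^^ (b' && c''))) ^^ (d && (c' ^^ c''))) := by
      decide +kernel
    exact Mu.ext (Bool.xor_assoc ..) (Bool.xor_assoc ..) (Bool.xor_assoc ..) (h1 ..) (h1 ..) (h2 ..)
  one_mul := by decide +kernel
  mul_one := by decide +kernel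
  inv_mul_cancel := by decide +kernel

theorem card_Mu : Nat.card Mu = 64 := by rw [Nat.card_congr eqv]; simp

def e12 : Mu := ⟨true, false, false, false, false, false⟩
def e23 : Mu := ⟨false, true, false, false, false, false⟩
def e34 : Mu := ⟨false, false, true, false, false, false⟩
def e13 : Mu := ⟨false, false, false, true, false, false⟩
def e24 : Mu := ⟨false, false, false, false, true, false⟩
/-- the central involution `s = e14` -/
def mz : Mu := ⟨false, false, false, false, false, true⟩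
/-- `t = e13 e24 e14` -/
def mc : Mu := ⟨false, false, false, true, true, true⟩
/-- `v = e13 e23 e24`; `V = ⟨t, v⟩` -/
def mv : Mu := ⟨false, true, false, true, true, false⟩

/-- subgroup of the model from a Boolean predicate -/
def sub (P : Mu → Bool) (h1 : P 1 = true) (h2 : ∀ p, P p = true → ∀ q, P q = true → P (p * q⁻¹) = true) : Subgroup Mu :=
  Subgroup.ofDiv {p | P p = true} ⟨1, h1⟩ h2
instance decSubW4 (P : Mu → Bool) (h1 h2) : DecidablePred (· ∈ sub P h1 h2) := fun p => inferInstanceAs (Decidable (P p = true))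

/-- `Q = 2^{1+4}` -/
abbrev mQ : Subgroup Mu := sub (fun p => !p.b) rfl (by decide +kernel)
/-- the unique `E₁₆` -/
abbrev mA : Subgroup Mu := sub (fun p => !p.a && !p.c) rfl (by decide +kernel)
/-- `U₁ = ⟨e12, e13, e14⟩` -/
abbrev mU : Subgroup Mu := sub (fun p => !p.b && !p.c && !p.e) rfl (by decide +kernel)
/-- `R₃ = C(e13)` -/
abbrev mR3 : Subgroup Mu := sub (fun p => !p.c) rfl (by decide +kernel)
/-- `R = C(t)` -/
abbrev mR : Subgroup Mu := sub (fun p => p.a == p.c) rfl (by decide +kernel)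
/-- `V = {1, t, v, t v}` -/
abbrev mV : Subgroup Mu := sub (fun p => !p.a && !p.c && (p.d == p.e) && (p.k == (p.d ^^ p.b))) rfl (by decide +kernel)
/-- conjugation by `x` on `mQ` -/
def cx (p : Mu) : Mu := ⟨p.a ^^ p.d, false, p.e ^^ p.c, p.a, p.c, p.k⟩

variable {G : Type*} [Group G] [Finite G]

/-- the hypothesis of S3344 -/
structure Hy (s : G) (Q : Subgroup G) (x w : G) : Prop where
  le : LES.LE Q s
  card : #Q = 32
  O2 : Q = Sig.pcIn 2 C1[s]
  cardL : #C1[s] = 192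
  x3 : x ^ 3 = 1
  xs : x * s = s * x
  fpf : ∀ q ∈ Q, q * x = x * q → q = 1 ∨ q = s
  ws : w * s = s * w
  wx : w * x * w⁻¹ = x⁻¹
  ww : w * w = 1 ∨ w * w = s
  dec : ∀ g ∈ C1[s], ∃ q ∈ Q, ∃ i j : ℕ, g = q * x ^ i * w ^ j
  nwc : ∃ g : G, g * s * g⁻¹ ∈ Q ∧ g * s * g⁻¹ ≠ s

/-- generators of `Q`: `a = e13`, `x a x⁻¹ = e12`, `c = e24`, `x c x⁻¹ = e34` -/
structure QG (s x a c : G) : Prop where
  ss : s * s = 1
  s1 : s ≠ 1
  x3 : x ^ 3 = 1
  xs : x * s = s * x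
  as : a * s = s * a
  cs : c * s = s * c
  aa : a * a = 1
  cc : c * c = 1
  ac : a * c = c * a
  xa : x * (x * a * x⁻¹) * x⁻¹ = x * a * x⁻¹ * a
  xc : x * (x * c * x⁻¹) * x⁻¹ = c * (x * c * x⁻¹)
  ac' : a * (x * c * x⁻¹) = s * (x * c * x⁻¹) * a

/-- generators of `C(s)` -/
structure Gen (s : G) (Q : Subgroup G) (x w a c : G) : Prop extends Hy s Q x w where
  qg : QG s x a c
  gen : Q = closure {s, a, c, x * a * x⁻¹, x * c * x⁻¹}
  w2 : w * w = 1
  wa : w * a = a * w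

/-- type A frame: `T = f.range`, `C(s) = ⟨x⟩ T` -/
structure Fr (f : Mu →* G) (x : G) : Prop where
  inj : Function.Injective f
  syl : SylowIn 2 f.range ⊤
  x3 : x ^ 3 = 1
  hx : ∀ p ∈ mQ, x * f p * x⁻¹ = f (cx p)
  ix : f e23 * x * (f e23)⁻¹ = x⁻¹
  cen : ∀ g, g ∈ C1[f mz] ↔ ∃ (i : ℕ) (p : Mu), g = x ^ i * f p

/-- the Weyl element `(3 4)`, up to a sign -/
structure W3 (f : Mu →* G) (w : G) (ε : Bool) : Prop where
  ww : w * w = 1
  h12 : w * f e12 * w⁻¹ = f e12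
  h13 : w * f e13 * w⁻¹ = f mz
  h24 : w * f e24 * w⁻¹ = f (bif ε then e23 * mz else e23)
  br : (w * f e34) ^ 3 = 1

/-- the Curtis–Tits relations of `L₄(2)`; `w₂ = x * f e23` -/
structure FA (f : Mu →* G) (x w1 w3 : G) : Prop extends Fr f x where
  h3 : W3 f w3 false
  ww : w1 * w1 = 1
  h34 : w1 * f e34 * w1⁻¹ = f e34
  h24 : w1 * f e24 * w1⁻¹ = f mz
  h13 : w1 * f e13 * w1⁻¹ = f e23
  br : (w1 * f e12) ^ 3 = 1
  b12 : (x * f e23 * w1) ^ 3 = 1
  b23 : (x * f e23 * w3) ^ 3 = 1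
  b13 : w1 * w3 = w3 * w1
  nc : ¬ IsConj (f mz) (f mc)

/-- `A₈` -/
abbrev A8 := alternatingGroup (Fin 8)
/-- an involution from its table -/
def iv (l : Fin 8 → Fin 8) (h : ∀ i, l (l i) = i := by decide) : Perm (Fin 8) := ⟨l, l, h, h⟩
def P12 : A8 := ⟨iv ![4, 5, 6, 7, 0, 1, 2, 3], Perm.mem_alternatingGroup.2 (by decide +kernel)⟩
def P23 : A8 := ⟨iv ![2, 3, 0, 1, 5, 4, 7, 6], Perm.mem_alternatingGroup.2 (by decide +kernel)⟩
def P34 : A8 := ⟨iv ![5, 4, 6, 7, 1, 0, 2, 3], Perm.mem_alternatingGroup.2 (by decide +kernel)⟩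
def P13 : A8 := ⟨iv ![3, 2, 1, 0, 7, 6, 5, 4], Perm.mem_alternatingGroup.2 (by decide +kernel)⟩
def P24 : A8 := ⟨iv ![3, 2, 1, 0, 6, 7, 4, 5], Perm.mem_alternatingGroup.2 (by decide +kernel)⟩
def P14 : A8 := ⟨iv ![1, 0, 3, 2, 5, 4, 7, 6], Perm.mem_alternatingGroup.2 (by decide +kernel)⟩
def Pw1 : A8 := ⟨iv ![5, 7, 6, 4, 3, 0, 2, 1], Perm.mem_alternatingGroup.2 (by decide +kernel)⟩
def Pw3 : A8 := ⟨iv ![4, 7, 6, 5, 0, 3, 2, 1], Perm.mem_alternatingGroup.2 (by decide +kernel)⟩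
def Px : A8 := ⟨⟨![3, 2, 6, 7, 4, 5, 1, 0], ![7, 6, 1, 0, 4, 5, 2, 3], by decide, by decide⟩, Perm.mem_alternatingGroup.2 (by decide +kernel)⟩
/-- the 3-cycles `(6 4 5)`, `(7 4 5)`, the involution `τ = (0 1)(6 7)` -/
def c6 : A8 := ⟨Pres.c3 6 4 5, Perm.mem_alternatingGroup.2 (by decide +kernel)⟩
def c7 : A8 := ⟨Pres.c3 7 4 5, Perm.mem_alternatingGroup.2 (by decide +kernel)⟩
def tau : A8 := ⟨iv ![1, 0, 2, 3, 4, 5, 7, 6], Perm.mem_alternatingGroup.2 (by decide +kernel)⟩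

/-- a map from the model is multiplicative if it is so for the generators -/
theorem hom_of_gen {G : Type*} [Group G] (F : Mu → G) (h : ∀ g ∈ [e12, e23, e34, e13, e24, mz], ∀ q, F (g * q) = F g * F q)
    (h1 : F 1 = 1) (p q : Mu) : F (p * q) = F p * F q := by
  have hw : ∀ l : List Mu, (∀ g ∈ l, g ∈ [e12, e23, e34, e13, e24, mz]) → ∀ q, F (l.prod * q) = F l.prod * F q := by
    intro l
    induction l with
    | nil => intro _ q; simp [h1]
    | cons g l ih =>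
      intro hl q
      have hg := h g (hl g (by simp))
      rw [List.prod_cons, mul_assoc, hg, ih (fun g' h' => hl g' (by simp [h'])), hg, mul_assoc]
  have : ∀ p : Mu, p = ((bif p.c then [e34] else []) ++ (bif p.b then [e23] else []) ++ (bif p.e then [e24] else []) ++
    (bif p.a then [e12] else []) ++ (bif p.d then [e13] else []) ++ (bif p.k then [mz] else [])).prod ∧
    ∀ g ∈ ((bif p.c then [e34] else []) ++ (bif p.b then [e23] else []) ++ (bif p.e then [e24] else []) ++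
    (bif p.a then [e12] else []) ++ (bif p.d then [e13] else []) ++ (bif p.k then [mz] else [])),
    g ∈ [e12, e23, e34, e13, e24, mz] := by decide +kernel
  rw [(this p).1]; exact hw _ (this p).2 q

/-- the underlying map of `π` -/
def πf (p : Mu) : A8 := (bif p.c then P34 else 1) * (bif p.b then P23 else 1) * (bif p.e then P24 else 1) *
  (bif p.a then P12 else 1) * (bif p.d then P13 else 1) * (bif p.k then P14 else 1)

/-- `π mz = (01)(23)(45)(67)`, `π mc = (01)(23)`, `π mv = (02)(13)`, `π (e12 * e34) = (01)(45)` -/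
def π : Mu →* A8 := MonoidHom.mk' πf (hom_of_gen πf (by decide +kernel) (by decide +kernel))

example : π (e12 * e34) * tau = π (e13 * e24) * π (e12 * e34) * π (e12 * e34) * π mc * π mc ∧ Px * π e13 * Px⁻¹ = π e12 := by
  decide +kernel

/-- `H = ψ.range ≅ A₈` contains `C(s)` -/
structure FH (ψ : A8 →* G) : Prop extends Fr (ψ.comp π) (ψ Px) where
  inj' : Function.Injective ψ
  nc : ¬ IsConj (ψ (π mz)) (ψ (π mc))

/-- `C(V)` -/
abbrev cV (ψ : A8 →* G) : Subgroup G := C1[ψ (π mc)] ⊓ C1[ψ (π mv)]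

/-- the structure of `C(t)` -/
structure FC (ψ : A8 →* G) : Prop extends FH ψ where
  sylA : SylowIn 2 (mA.map (ψ.comp π)) (cV ψ)
  idx : ∀ g ∈ C1[ψ (π mc)], g ∈ cV ψ ∨ g * ψ tau ∈ cV ψ

/-- the new 3-cycle `y = (8 4 5)` -/
structure Yd (ψ : A8 →* G) (y : G) : Prop where
  mem : y ∈ cV ψ
  y3 : y ^ 3 = 1
  y1 : y ≠ 1
  r6 : (y * ψ c6) ^ 2 = 1
  r7 : (y * ψ c7) ^ 2 = 1
  uniq : ∀ y' ∈ cV ψ, y' ^ 3 = 1 → y' ≠ 1 → (y' * ψ c6) ^ 2 = 1 → (y' * ψ c7) ^ 2 = 1 → y' = y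
  fix : ∀ y' ∈ cV ψ, y' ^ 3 = 1 → y' * ψ tau = ψ tau * y' → y' = 1 ∨ y' = y ∨ y' = y⁻¹
  gen : ∀ K : Subgroup G, ψ.range ≤ K → y ∈ K → cV ψ ≤ K

end Cfsg.Agent.W4
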