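import Cfsg.Agent.W4.A

/-! Automorphisms of the type A frame (helper22): `tauH`, `sigmaH`, `zetaH`, `Fr.aut`, `Fr.norm`. -/

set_option autoImplicit false
set_option linter.unusedSectionVars false

namespace Cfsg.Agent.W4

open Cfsg.Agent.BG Subgroup

/-- `e12 ↔ e34`, `e13 ↔ e24`, fixes `e23`, `mz`, `mc` -/
def tauH : Mu →* Mu := MonoidHom.mk' (fun p => ⟨p.c, p.b, p.a, p.e ^^ (p.b && p.c), p.d ^^ (p.a && p.b),
  p.k ^^ (p.c && p.d) ^^ (p.a && p.e) ^^ (p.a && p.b && p.c)⟩) (by decide +kernel)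
/-- `e24 ↔ mc`, `e34 ↦ e12 e34 mz`, fixes `e12`, `e13`, `e23`, `mz` -/
def sigmaH : Mu →* Mu := MonoidHom.mk' (fun p => ⟨p.c ^^ p.a, p.b, p.c, p.e ^^ p.d ^^ (p.b && p.c), p.e,
  p.k ^^ p.e ^^ p.c ^^ (p.c && p.e)⟩) (by decide +kernel)
/-- `e23 ↦ e23 mz`, fixes `mQ` -/
def zetaH : Mu →* Mu := MonoidHom.mk' (fun p => ⟨p.a, p.b, p.c, p.d, p.e, p.k ^^ p.b⟩) (by decide +kernel)

@[simp] theorem tauH_12 : tauH e12 = e34 := by decide +kernel
@[simp] theorem tauH_23 : tauH e23 = e23 := by decide +kernel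
@[simp] theorem tauH_34 : tauH e34 = e12 := by decide +kernel
@[simp] theorem tauH_13 : tauH e13 = e24 := by decide +kernel
@[simp] theorem tauH_24 : tauH e24 = e13 := by decide +kernel
@[simp] theorem tauH_z : tauH mz = mz := by decide +kernel
@[simp] theorem tauH_c : tauH mc = mc := by decide +kernel
@[simp] theorem sigmaH_12 : sigmaH e12 = e12 := by decide +kernel
@[simp] theorem sigmaH_23 : sigmaH e23 = e23 := by decide +kernel
@[simp] theorem sigmaH_34 : sigmaH e34 = e12 * e34 * mz := by decide +kernel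
@[simp] theorem sigmaH_13 : sigmaH e13 = e13 := by decide +kernel
@[simp] theorem sigmaH_24 : sigmaH e24 = mc := by decide +kernel
@[simp] theorem sigmaH_z : sigmaH mz = mz := by decide +kernel
@[simp] theorem sigmaH_c : sigmaH mc = e24 := by decide +kernel
@[simp] theorem zetaH_12 : zetaH e12 = e12 := by decide +kernel
@[simp] theorem zetaH_23 : zetaH e23 = e23 * mz := by decide +kernel
@[simp] theorem zetaH_34 : zetaH e34 = e34 := by decide +kernel
@[simp] theorem zetaH_13 : zetaH e13 = e13 := by decide +kernel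
@[simp] theorem zetaH_24 : zetaH e24 = e24 := by decide +kernel
@[simp] theorem zetaH_z : zetaH mz = mz := by decide +kernel
@[simp] theorem zetaH_c : zetaH mc = mc := by decide +kernel

variable {G : Type*} [Group G] [Finite G] {f : Mu →* G} {x : G}

theorem Fr.xz (h : Fr f x) : x * f mz = f mz * x := mul_inv_eq_iff_eq_mul.1 (h.hx mz (by decide))

theorem Fr.aut (h : Fr f x) (α : Mu →* Mu) (inj : ∀ p, α p = 1 → p = 1)
    (hQ : ∀ p ∈ mQ, α p ∈ mQ ∧ α (cx p) = cx (α p)) (h23 : α e23 = e23 ∨ α e23 = e23 * mz) (hz : α mz = mz) :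
    Fr (f.comp α) x := by
  have i := (injective_iff_map_eq_one α).2 inj
  have s := Finite.injective_iff_surjective.1 i
  refine ⟨h.inj.comp i, ?_, h.x3, fun p hp => ?_, ?_, fun g => ?_⟩
  · rw [MonoidHom.range_comp, MonoidHom.range_eq_top.2 s, ← MonoidHom.range_eq_map]; exact h.syl
  · rw [MonoidHom.comp_apply, MonoidHom.comp_apply, (hQ p hp).2, h.hx _ (hQ p hp).1]
  · rw [MonoidHom.comp_apply]
    rcases h23 with e | e <;> rw [e]
    · exact h.ix
    · rw [map_mul, mul_assoc (f e23), ← h.xz, ← h.ix]; group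
  · rw [MonoidHom.comp_apply, hz, h.cen]
    refine ⟨fun ⟨i, p, e⟩ => ?_, fun ⟨i, p, e⟩ => ⟨i, α p, e⟩⟩
    obtain ⟨q, rfl⟩ := s p
    exact ⟨i, q, e⟩

theorem Fr.tau (h : Fr f x) : Fr (f.comp tauH) x :=
  h.aut tauH (by decide +kernel) (by decide +kernel) (.inl tauH_23) tauH_z
theorem Fr.sigma (h : Fr f x) : Fr (f.comp sigmaH) x :=
  h.aut sigmaH (by decide +kernel) (by decide +kernel) (.inl sigmaH_23) sigmaH_z
theorem Fr.zeta (h : Fr f x) : Fr (f.comp zetaH) x :=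
  h.aut zetaH (by decide +kernel) (by decide +kernel) (.inr zetaH_23) zetaH_z

/-- every noncentral involution of `Q` is conjugate to `e13`, `e24` or `mc` -/
theorem Fr.clsQ (h : Fr f x) {p : Mu} (hp : p ∈ mQ) (h2 : p * p = 1) (h1 : p ≠ 1) (hz : p ≠ mz) :
    IsConj (f p) (f e13) ∨ IsConj (f p) (f e24) ∨ IsConj (f p) (f mc) := by
  have c : ∀ q ∈ mQ, IsConj (f q) (f (cx q)) := fun q hq => isConj_iff.2 ⟨x, h.hx q hq⟩
  have m : ∀ q, cx q ∈ mQ := by decide +kernel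
  obtain ⟨q, -, r, hr, hq, e⟩ := (by decide +kernel : ∀ p ∈ mQ, p * p = 1 → p ≠ 1 → p ≠ mz → ∃ q, q.k = false ∧
    ∃ r, r = q * p * q⁻¹ ∧ r ∈ mQ ∧
    ((r = e13 ∨ r = e24 ∨ r = mc) ∨ (cx r = e13 ∨ cx r = e24 ∨ cx r = mc) ∨
      (cx (cx r) = e13 ∨ cx (cx r) = e24 ∨ cx (cx r) = mc))) p hp h2 h1 hz
  have k0 : IsConj (f p) (f r) := f.map_isConj (isConj_iff.2 ⟨q, hr.symm⟩)
  have k1 := k0.trans (c r hq)
  have k2 := k1.trans (c _ (m r))
  have fin : ∀ r, IsConj (f p) (f r) → r = e13 ∨ r = e24 ∨ r = mc →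
      IsConj (f p) (f e13) ∨ IsConj (f p) (f e24) ∨ IsConj (f p) (f mc) := by
    rintro _ k (rfl | rfl | rfl)
    exacts [.inl k, .inr (.inl k), .inr (.inr k)]
  rcases e with e | e | e
  exacts [fin _ k0 e, fin _ k1 e, fin _ k2 e]

theorem Fr.norm (h : Fr f x) (hn : ∃ g : G, g * f mz * g⁻¹ ∈ mQ.map f ∧ g * f mz * g⁻¹ ≠ f mz) :
    ∃ f' : Mu →* G, Fr f' x ∧ IsConj (f' mz) (f' e13) ∧
      (IsConj (f' mz) (f' e24) ∨ (¬ IsConj (f' mz) (f' e24) ∧ ¬ IsConj (f' mz) (f' mc))) := by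
  obtain ⟨g, ⟨p, hp, e⟩, ne⟩ := hn
  have c : IsConj (f mz) (f p) := isConj_iff.2 ⟨g, e.symm⟩
  have k := h.clsQ hp (h.inj (by
      rw [map_mul, e, conj_mul, ← map_mul, show mz * mz = 1 by decide, map_one, mul_one, mul_inv_cancel]))
    (fun e1 => by
      rw [e1, map_one, isConj_one_left, map_eq_one_iff f h.inj] at c
      exact absurd c (by decide))
    (fun e1 => ne (by rw [← e, e1]))
  by_cases hA : IsConj (f mz) (f e13) <;> by_cases hB : IsConj (f mz) (f e24) <;> by_cases hC : IsConj (f mz) (f mc)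
  · exact ⟨f, h, hA, .inl hB⟩
  · exact ⟨f, h, hA, .inl hB⟩
  · exact ⟨_, h.sigma, by simpa using hA, .inl (by simpa using hC)⟩
  · exact ⟨f, h, hA, .inr ⟨hB, hC⟩⟩
  · exact ⟨_, h.tau.sigma, by simpa using hB, .inl (by simpa using hC)⟩
  · exact ⟨_, h.tau, by simpa using hB, .inr ⟨by simpa using hA, by simpa using hC⟩⟩
  · exact ⟨_, h.sigma.tau, by simpa using hC, .inr ⟨by simpa using hA, by simpa using hB⟩⟩
  · exact absurd (k.imp c.trans (·.imp c.trans c.trans)) (by tauto)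

end Cfsg.Agent.W4
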