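import Cfsg.Agent.W4.A1
import Cfsg.Agent.W4.A0b

/-! The braid relation `(w₂ w₃)³ = 1` in the type A frame (`Fr.b23`). -/

set_option autoImplicit false
set_option linter.unusedSectionVars false

namespace Cfsg.Agent.W4

open Cfsg.Agent.BG Subgroup

variable {G : Type*} [Group G] [Finite G] {f : Mu →* G} {x w g : G}

/-- the action on `U₁` from the images of the generators -/
def a3bU (q1 q2 q3 p : Mu) : Mu := (bif p.a then q1 else 1) * (bif p.d then q2 else 1) * (bif p.k then q3 else 1)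

theorem a3b_act {q1 q2 q3 p : Mu} (h1 : g * f e12 * g⁻¹ = f q1) (h2 : g * f e13 * g⁻¹ = f q2)
    (h3 : g * f mz * g⁻¹ = f q3) (hp : p ∈ mU) : g * f p * g⁻¹ = f (a3bU q1 q2 q3 p) := by
  conv_lhs => rw [(by decide +kernel : ∀ p ∈ mU, p = a3bU e12 e13 mz p) p hp]
  simp only [a3bU, map_mul, ← conj_mul]
  cases p.a <;> cases p.d <;> cases p.k <;> simp [h1, h2, h3]

theorem a3b_cj {a b c : G} (h1 : w * a * w⁻¹ = b) (h2 : g * b * g⁻¹ = c) : g * w * a * (g * w)⁻¹ = c := by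
  rw [← h2, ← h1]; group

theorem a3b_inv {a b : G} (ww : w * w = 1) (h : w * a * w⁻¹ = b) : w * b * w⁻¹ = a := by
  have := a3b_cj h (rfl : w * b * w⁻¹ = _)
  rw [ww] at this
  simpa using this.symm

theorem Fr.a3b_f (h : Fr f x) (hz : g * f mz * g⁻¹ = f mz) (ha : g * f e13 * g⁻¹ = f e13) : g ∈ f.range := by
  obtain ⟨k, p, rfl⟩ := (h.cen g).1 (mem_cent1.2 (mul_inv_eq_iff_eq_mul.1 hz))
  have m : ∀ q, cx q ∈ mQ := by decide +kernel
  have m0 : p * e13 * p⁻¹ ∈ mQ := (by decide +kernel : ∀ p, p * e13 * p⁻¹ ∈ mQ) p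
  have e0 : f p * f e13 * (f p)⁻¹ = f (p * e13 * p⁻¹) := by simp only [map_mul, map_inv]
  rw [pow_eq_pow_mod k h.x3] at ha ⊢
  have : k % 3 = 0 ∨ k % 3 = 1 ∨ k % 3 = 2 := by omega
  rcases this with e | e | e <;> rw [e] at ha ⊢
  · exact ⟨p, by simp⟩
  · rw [pow_one, a3b_cj e0 (h.hx _ m0), h.eq] at ha
    exact absurd ha ((by decide +kernel : ∀ p, cx (p * e13 * p⁻¹) ≠ e13) p)
  · rw [sq, mul_assoc x x, a3b_cj (a3b_cj e0 (h.hx _ m0)) (h.hx _ (m _)), h.eq] at ha
    exact absurd ha ((by decide +kernel : ∀ p, cx (cx (p * e13 * p⁻¹)) ≠ e13) p)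

theorem Fr.b23 (h : Fr f x) (h3 : W3 f w false) : (x * f e23 * w) ^ 3 = 1 := by
  have ii : f e23 * f e23 = 1 := by rw [← map_mul, show e23 * e23 = 1 by decide, map_one]
  have k : ∀ p ∈ mQ, e23 * p * e23⁻¹ = p → x * f e23 * f p * (x * f e23)⁻¹ = f (cx p) := fun p hp e =>
    a3b_cj (by rw [← map_inv, ← map_mul, ← map_mul, e]) (h.hx p hp)
  have yy : x * f e23 * (x * f e23) = 1 := by
    calc x * f e23 * (x * f e23) = x * (f e23 * x * (f e23)⁻¹) * (f e23 * f e23) := by group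
      _ = 1 := by rw [h.ix, ii]; group
  have yi : x * f e23 * f e23 = x := by rw [mul_assoc, ii, mul_one]
  have y13 : x * f e23 * f e13 * (x * f e23)⁻¹ = f e12 := k e13 (by decide) (by decide)
  have yz : x * f e23 * f mz * (x * f e23)⁻¹ = f mz := k mz (by decide) (by decide)
  have y24 : x * f e23 * f e24 * (x * f e23)⁻¹ = f e34 := k e24 (by decide) (by decide)
  have x3 := h.x3
  rw [← yi] at x3
  generalize x * f e23 = y at *
  have y12 := a3b_inv yy y13
  have ww := h3.ww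
  have wz := a3b_inv ww h3.h13
  have w24 : w * f e24 * w⁻¹ = f e23 := h3.h24
  have g12 := a3b_cj h3.h12 y12
  have g13 := a3b_cj h3.h13 yz
  have gz := a3b_cj wz y13
  have e3 : (y * w) ^ 3 = y * w * (y * w * (y * w)) := by rw [pow_succ', sq]
  have u12 := a3b_cj (a3b_cj g12 g13) gz
  have u13 := a3b_cj (a3b_cj g13 gz) g12
  have uz := a3b_cj (a3b_cj gz g12) g13
  rw [← e3] at u12 u13 uz
  obtain ⟨p, hp⟩ := h.a3b_f uz u13
  rw [← hp, ← map_inv, ← map_mul, ← map_mul, h.eq] at u12 u13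
  have pU : p ∈ mU := (by decide +kernel : ∀ p, p * e12 * p⁻¹ = e12 → p * e13 * p⁻¹ = e13 → p ∈ mU) p u12 u13
  have c := a3b_act g12 g13 gz pU
  rw [hp, show y * w * (y * w) ^ 3 * (y * w)⁻¹ = (y * w) ^ 3 by rw [← pow_succ', pow_succ, mul_inv_cancel_right], ← hp, h.eq] at c
  rcases (by decide +kernel : ∀ p ∈ mU, p = a3bU e13 mz e12 p → p = 1 ∨ p = e12 * e13 * mz) p pU c with rfl | rfl
  · rw [← hp, map_one]
  exfalso
  have wi : w⁻¹ = w := inv_eq_of_mul_eq_one_right ww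
  have yi' : y⁻¹ = y := inv_eq_of_mul_eq_one_right yy
  have b : ∀ p q : Mu, e24 * p * e24⁻¹ = q → f e24 * f p * (f e24)⁻¹ = f q := fun p q e => by
    rw [← map_inv, ← map_mul, ← map_mul, e]
  have P12 := a3b_cj g12 h3.h13
  have P13 := a3b_cj g13 wz
  have Pz := a3b_cj gz h3.h12
  have P1 := a3b_act P12 P13 Pz (p := e12 * mz) (by decide)
  have t12 := a3b_cj (b e12 _ (by decide : _ = e12 * mz)) P1
  have t13 := a3b_cj (b e13 _ (by decide : _ = e13)) P13
  have tz := a3b_cj (b mz _ (by decide : _ = mz)) Pz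
  have t3 : (w * (y * w) * f e24) ^ 3 = 1 := by
    have : w * (y * w) * f e24 = w * (y * f e23) * w⁻¹ := by
      rw [← w24, wi]
      calc w * (y * w) * f e24 = w * (y * w) * f e24 * (w * w) := by rw [ww, mul_one]
        _ = _ := by group
    rw [this, conj_pow, x3]; group
  have t3' : (f (e12 * e13 * mz) * (w * (y * w) * f e24)) ^ 3 = 1 := by
    have : f (e12 * e13 * mz) * (w * (y * w) * f e24) = y * (w * f e34) * y⁻¹ := by
      rw [hp, e3, ← y24]
      calc y * w * (y * w * (y * w)) * (w * (y * w) * f e24)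
          = y * w * y * (w * (y * ((w * w) * y)) * w) * f e24 := by group
        _ = y * w * y * f e24 * (y * y)⁻¹ := by rw [ww, one_mul, yy, mul_one, ww]; group
        _ = y * (w * (y * f e24 * y⁻¹)) * y⁻¹ := by group
        _ = _ := rfl
    rw [this, conj_pow, h3.br]; group
  generalize w * (y * w) * f e24 = t at *
  have a1 := a3b_act t12 t13 tz (p := e12 * e13 * mz) (by decide)
  have a2 := a3b_act t12 t13 tz (p := a3bU (a3bU mz e13 e12 (e12 * mz)) e13 e12 (e12 * e13 * mz)) (by decide)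
  have : (f (e12 * e13 * mz) * t) ^ 3 = f (e12 * e13 * mz) * (t * f (e12 * e13 * mz) * t⁻¹) *
      (t * (t * f (e12 * e13 * mz) * t⁻¹) * t⁻¹) * t ^ 3 := by
    simp only [pow_succ, pow_zero]; group
  rw [t3', t3, a1, a2, mul_one, ← map_mul, ← map_mul, ← map_one f, h.eq] at this
  exact absurd this (by decide)

end Cfsg.Agent.W4
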