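import Cfsg.Agent.W4.A
import Cfsg.Agent.S1741

/-! Type B: the Sylow 2-subgroup is that of `M₁₂`. -/

set_option autoImplicit false
set_option linter.unusedSectionVars false

namespace Cfsg.Agent.W4

open Cfsg.Agent.BG Subgroup

variable {G : Type*} [Group G] [Finite G]

theorem b2_hom {A B C D W S : G} (aa : A * A = 1) (bb : B * B = 1) (cc : C * C = 1) (dd : D * D = 1) (ww : W * W = 1)
    (ss : S * S = 1) (sa : S * A = A * S) (sb : S * B = B * S) (sc : S * C = C * S) (sd : S * D = D * S) (sw : S * W = W * S)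
    (wd : W * D = B * (A * (C * (D * (S * W))))) (cd : C * D = D * C) (bd : B * D = D * B) (ad : A * D = D * (A * S))
    (cw : C * W = W * (C * (A * S)))
    (bw : B * W = W * (B * A)) (aw : A * W = W * A) (bc : B * C = C * (B * S)) (ac : A * C = C * A) (ab : A * B = B * A) :
    ∃ f : M12S.Md →* G, f M12S.mz = S := by
  have r : ∀ {X Y Z : G}, X * Y = Z → ∀ z, X * (Y * z) = Z * z := fun h z => by rw [← mul_assoc, h]
  refine (M12S.mkHom (p := C * W) (q := B * (S * W)) (w := D * C) (t := C) ?_ ?_ ?_ ?_ ?_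
    (eq_inv_mul_iff_mul_eq.2 ?_) (eq_inv_mul_iff_mul_eq.2 ?_) ?_ ?_ ?_).imp fun f hf => hf.trans ?_
  all_goals simp only [commute_iff_eq, pow_succ, pow_zero,
    mul_one, one_mul, mul_assoc, aa, bb, cc, dd, ww, ss, sa, sb, sc, sd, sw, wd, cd, bd, ad, cw, bw, aw, bc, ac, ab,
    r aa, r bb, r cc, r dd, r ww, r ss, r sa, r sb, r sc, r sd, r sw, r wd, r cd, r bd, r ad, r cw, r bw, r aw, r bc,
    r ac, r ab]

theorem Gen.b2_fm {s x w a c : G} {Q : Subgroup G} (h : Gen s Q x w a c) (hB : w * c * w⁻¹ = a * c * s) :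
    ∃ f : M12S.Md →* G, M12S.Fm f := by
  have g := h.qg
  have cj2 : ∀ {u v z : G}, u * v = z → (x * u * x⁻¹) * (x * v * x⁻¹) = x * z * x⁻¹ := fun e => by rw [← e]; group
  have xsx : x * s * x⁻¹ = s := by rw [g.xs]; group
  have bb : (x * a * x⁻¹) * (x * a * x⁻¹) = 1 := by rw [cj2 g.aa]; group
  have dd : (x * c * x⁻¹) * (x * c * x⁻¹) = 1 := by rw [cj2 g.cc]; group
  have sb : s * (x * a * x⁻¹) = x * a * x⁻¹ * s := by
    have := (cj2 (u := s) (v := a) rfl).trans ((congrArg (x * · * x⁻¹) g.as.symm).trans (cj2 (u := a) (v := s) rfl).symm)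
    rwa [xsx] at this
  have sd : s * (x * c * x⁻¹) = x * c * x⁻¹ * s := by
    have := (cj2 (u := s) (v := c) rfl).trans ((congrArg (x * · * x⁻¹) g.cs.symm).trans (cj2 (u := c) (v := s) rfl).symm)
    rwa [xsx] at this
  have bd : (x * a * x⁻¹) * (x * c * x⁻¹) = (x * c * x⁻¹) * (x * a * x⁻¹) := (cj2 g.ac).trans (cj2 rfl).symm
  have cm : ∀ {u v : G}, u * u = 1 → v * v = 1 → (u * v) * (u * v) = 1 → u * v = v * u := fun {u v} h1 h2 h3 => by
    rw [eq_inv_of_mul_eq_one_left h3, mul_inv_rev, ← eq_inv_of_mul_eq_one_left h1, ← eq_inv_of_mul_eq_one_left h2]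
  have cd : c * (x * c * x⁻¹) = x * c * x⁻¹ * c := cm g.cc dd (by rw [← g.xc, cj2 dd]; group)
  have ab : a * (x * a * x⁻¹) = x * a * x⁻¹ * a := (cm bb g.aa (by rw [← g.xa, cj2 bb]; group)).symm
  have x2 : x⁻¹ = x * x := by
    rw [inv_eq_iff_mul_eq_one, ← h.x3]; simp only [pow_succ, pow_zero, one_mul, mul_assoc]
  have wi : w⁻¹ = w := inv_eq_of_mul_eq_one_right h.w2
  have wcj : ∀ u v : G, w * u * w⁻¹ = v → w * (x * u * x⁻¹) * w⁻¹ = x * (x * v * x⁻¹) * x⁻¹ := fun u v e => by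
    calc _ = (w * x * w⁻¹) * (w * u * w⁻¹) * (w * x * w⁻¹)⁻¹ := by group
      _ = x * x * v * (x * x)⁻¹ := by rw [h.wx, e, ← x2]
      _ = _ := by group
  have ad : a * (x * c * x⁻¹) = x * c * x⁻¹ * (a * s) := by rw [g.ac', sd, g.as, mul_assoc]
  have bc : x * a * x⁻¹ * c = c * (x * a * x⁻¹ * s) := by
    have e := cj2 g.ac'
    rw [← cj2 (u := s * (x * c * x⁻¹)) (v := a) rfl, ← cj2 (u := s) rfl, xsx, g.xc] at e
    generalize x * a * x⁻¹ = B at *
    generalize x * c * x⁻¹ = D at *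
    refine mul_right_cancel (b := D) ?_
    calc _ = s * (c * D) * B := by rw [← e]; group
      _ = s * c * (D * B) := by group
      _ = c * (s * B) * D := by rw [← bd, ← g.cs]; group
      _ = _ := by rw [sb]
  have wd : w * (x * c * x⁻¹) = x * a * x⁻¹ * (a * (c * (x * c * x⁻¹ * (s * w)))) := by
    have e := wcj c _ hB
    calc _ = w * (x * c * x⁻¹) * w⁻¹ * w := by group
      _ = (x * (x * a * x⁻¹) * x⁻¹) * (x * (x * c * x⁻¹) * x⁻¹) * (x * (x * s * x⁻¹) * x⁻¹) * w := by rw [e]; group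
      _ = _ := by rw [g.xa, g.xc, xsx, xsx]; simp only [mul_assoc]
  have bw : x * a * x⁻¹ * w = w * (x * a * x⁻¹ * a) := by
    have e := (wcj a a (by rw [h.wa, mul_inv_cancel_right])).trans g.xa
    rw [← e, wi, ← mul_assoc, ← mul_assoc, h.w2, one_mul]
  have cw : c * w = w * (c * (a * s)) := by
    rw [← mul_assoc c, ← g.ac, ← hB, wi, ← mul_assoc, ← mul_assoc, h.w2, one_mul]
  obtain ⟨f, fz⟩ := b2_hom g.aa bb g.cc dd h.w2 g.ss g.as.symm sb g.cs.symm sd h.ws.symm wd cd bd ad cw bw h.wa.symm bc g.ac ab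
  have inj : Function.Injective f := (injective_iff_map_eq_one f).2 fun m hm => by_contra fun m1 => g.s1 (by
    have key : ∀ m : M12S.Md, m ≠ 1 → m = M12S.mz ∨ (∃ g : M12S.Md, g * m * g⁻¹ * m⁻¹ = M12S.mz) ∨
      ∃ g h : M12S.Md, h * (g * m * g⁻¹ * m⁻¹) * h⁻¹ * (g * m * g⁻¹ * m⁻¹)⁻¹ = M12S.mz := by decide +kernel
    rw [← fz]
    rcases key m m1 with e | ⟨g, e⟩ | ⟨g, h, e⟩ <;> rw [← e] <;> simp [hm])
  have zc : ∀ p, f p * s = s * f p := fun p => by
    rw [← fz, ← map_mul, ← map_mul, (by decide +kernel : ∀ p : M12S.Md, p * M12S.mz = M12S.mz * p) p]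
  have TL : f.range ≤ C1[s] := by rintro _ ⟨p, rfl⟩; exact mem_cent1.2 (zc p)
  have cT : #f.range = 64 := by rw [← M12S.card_Md]; exact (Nat.card_congr (MonoidHom.ofInjective inj).toEquiv).symm
  refine ⟨f, inj, ?_⟩
  have := Nat.fact_prime_two
  refine Sylow_subnorm (sylow_mk (le_inf le_top (normG _)) (IsPGroup.of_card (n := 6) cT) fun d => ?_)
  have le : ⊤ ⊓ N[f.range] ≤ C1[s] := fun n hn => by
    obtain ⟨p, e⟩ := conj_mem_of_norm hn.2 (⟨M12S.mz, fz⟩ : s ∈ f.range)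
    have hp : p = M12S.mz := (by decide +kernel : ∀ p : M12S.Md, p ≠ 1 → (∀ q, p * q = q * p) → p = M12S.mz) p
      (fun p1 => g.s1 (by
        rw [p1, map_one] at e
        calc s = n⁻¹ * (n * s * n⁻¹) * n := by group
          _ = 1 := by rw [← e]; group))
      fun q => inj (by
        obtain ⟨q', e'⟩ := conj_mem_of_norm' hn.2 (⟨q, rfl⟩ : f q ∈ f.range)
        rw [map_mul, map_mul, e]
        calc _ = n * (s * (n⁻¹ * f q * n)) * n⁻¹ := by group
          _ = _ := by rw [← e', ← zc, e']; group)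
    rw [hp, fz] at e
    exact mem_cent1.2 (mul_inv_eq_iff_eq_mul.1 e.symm)
  have e1 := card_mul_relIndex TL
  rw [cT, h.cardL] at e1
  have e2 := d.trans ⟨_, (relIndex_mul_relIndex _ _ _ (le_inf le_top (normG _)) le).symm⟩
  omega

theorem Gen.typeB2 [IsSimpleGroup G] {s x w a c : G} {Q : Subgroup G} (h : Gen s Q x w a c) (hB : w * c * w⁻¹ = a * c * s)
    (h2 : ∃ x y : G, orderOf x = 2 ∧ orderOf y = 2 ∧ ¬ IsConj x y) : Cfsg.Spor.IsoM12 G := by
  obtain ⟨f, h⟩ := h.b2_fm hB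
  obtain ⟨f, F⟩ := h.fz h2
  obtain ⟨K, KH, hi, hK⟩ := F.h0
  have hH := (F.str_of fun _ hK KH _ hn hN _ hp p1 pz e => F.aut hK KH hn hN hp p1 pz e).2
  have hO := F.core' hH KH hi hK
  rw [hO, bot_sup_eq] at hH
  exact F.iso hO hH

end Cfsg.Agent.W4
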