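import Cfsg.Agent.W4.A

/-! S3344, piece Q1: generators of `Q`. (helper9) -/

set_option autoImplicit false
set_option linter.unusedSectionVars false

namespace Cfsg.Agent.W4

open Cfsg.Agent.BG Subgroup

variable {G : Type*} [Group G] [Finite G] {s x w y : G} {Q : Subgroup G}

/-- involutions of `Q` with `y · y^x · y^{x²} = 1` -/
structure Good (Q : Subgroup G) (x y : G) : Prop where
  mem : y ∈ Q
  sq : y * y = 1
  cm : Commute y (x * y * x⁻¹)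
  nn : x * (x * y * x⁻¹) * x⁻¹ = x * y * x⁻¹ * y

theorem q1_two {A B : Subgroup G} (h : A < B) : 2 * #A ≤ #B := by
  obtain ⟨k, hk⟩ := cardSg h.le
  have := proper_card h
  have h0 := cardG_pos A
  rw [hk] at this ⊢
  have : 1 < k := by nlinarith
  nlinarith

theorem Hy.q1_x3 (h : Hy s Q x w) (y : G) : x * (x * (x * y * x⁻¹) * x⁻¹) * x⁻¹ = y := by
  calc _ = x ^ 3 * y * (x ^ 3)⁻¹ := by simp only [pow_succ, pow_zero, one_mul]; group
    _ = y := by rw [h.x3]; group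

theorem Hy.q1_mem (h : Hy s Q x w) (hy : y ∈ Q) : x * y * x⁻¹ ∈ Q := h.le.conj_mem h.xs hy

theorem Hy.q1_s (h : Hy s Q x w) : x * s * x⁻¹ = s := by rw [h.xs, mul_inv_cancel_right]

theorem Hy.q1_n (h : Hy s Q x w) (hy : y ∈ Q) : x * (x * y * x⁻¹) * x⁻¹ * (x * y * x⁻¹) * y = 1 ∨
    x * (x * y * x⁻¹) * x⁻¹ * (x * y * x⁻¹) * y = s := by
  have hn := mul_mem (mul_mem (h.q1_mem (h.q1_mem hy)) (h.q1_mem hy)) hy
  have e : x * (x * (x * y * x⁻¹) * x⁻¹ * (x * y * x⁻¹) * y) * x⁻¹ =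
      y * (x * (x * y * x⁻¹) * x⁻¹ * (x * y * x⁻¹) * y) * y⁻¹ := by
    rw [← conj_mul, ← conj_mul, h.q1_x3]; group
  generalize x * (x * y * x⁻¹) * x⁻¹ * (x * y * x⁻¹) * y = n at hn e ⊢
  rcases h.le.comm y hy n hn with e1 | e1 <;> rw [e1] at e
  · exact h.fpf n hn (mul_inv_eq_iff_eq_mul.1 e).symm
  · have := h.q1_x3 n
    have e2 : x * (n * s) * x⁻¹ = n := by rw [← conj_mul, e, h.q1_s, mul_assoc n, h.le.zz, mul_one]
    rw [e, e2, e] at this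
    exact absurd (by simpa using this) h.le.z1

theorem Hy.q1_good (h : Hy s Q x w) (hy : y ∈ Q) (y2 : y * y = 1) : Good Q x y ∨ Good Q x (y * s) := by
  have ys := h.le.zc y hy
  have zs := h.le.zc _ (h.q1_mem hy)
  have z2 : x * y * x⁻¹ * (x * y * x⁻¹) = 1 := by rw [conj_mul, y2]; group
  have z3 : x * (x * y * x⁻¹) * x⁻¹ * (x * (x * y * x⁻¹) * x⁻¹) = 1 := by rw [conj_mul, z2]; group
  have k := h.q1_n hy
  have ss := h.le.zz
  have e1 : x * (y * s) * x⁻¹ = x * y * x⁻¹ * s := by rw [← conj_mul, h.q1_s]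
  have e2 : x * (x * y * x⁻¹ * s) * x⁻¹ = x * (x * y * x⁻¹) * x⁻¹ * s := by rw [← conj_mul, h.q1_s]
  have iy := inv_eq_of_mul_eq_one_right y2
  have iz := inv_eq_of_mul_eq_one_right z2
  have iu := inv_eq_of_mul_eq_one_right z3
  rcases k with k | k
  · rw [mul_assoc] at k
    have e := (inv_eq_of_mul_eq_one_right k).symm.trans iu
    refine .inl ⟨hy, y2, ?_, e.symm⟩
    rw [← e, mul_inv_rev, iy, iz] at iu
    exact iu
  · generalize x * y * x⁻¹ = z at *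
    have e : x * z * x⁻¹ = s * (y * z) := by
      generalize x * z * x⁻¹ = u at *
      rw [← k, mul_assoc, mul_assoc, ← mul_assoc y, y2, one_mul, z2, mul_one]
    have c : Commute y z := by
      rw [e, mul_inv_rev, mul_inv_rev, iy, iz, inv_eq_of_mul_eq_one_right ss, (zs.mul_left ys).eq] at iu
      exact (mul_left_cancel iu).symm
    refine .inr ⟨mul_mem hy h.le.zQ, ?_, ?_, ?_⟩
    · rw [ys.eq, mul_assoc, ← mul_assoc y, ys.eq, mul_assoc, y2, mul_one, ss]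
    · rw [e1]; exact (c.mul_left zs.symm).mul_right (ys.mul_left (Commute.refl s))
    · rw [e1, e2, e, ← (ys.mul_left zs).eq, mul_assoc, ss, mul_one, mul_assoc z, ← mul_assoc s, ← ys.eq, mul_assoc y, ss,
        mul_one, c.eq]

theorem Hy.q1_next (h : Hy s Q x w) (g : Good Q x y) : Good Q x (x * y * x⁻¹) := by
  have z2 : x * y * x⁻¹ * (x * y * x⁻¹) = 1 := by rw [conj_mul, g.sq]; group
  refine ⟨h.q1_mem g.mem, z2, ?_, ?_⟩
  · rw [g.nn]; exact (Commute.refl _).mul_right g.cm.symm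
  · rw [h.q1_x3, g.nn, ← g.cm.eq, mul_assoc, z2, mul_one]

theorem q1_cj {a b : G} : Commute (x * a * x⁻¹) (x * b * x⁻¹) ↔ Commute a b := by
  refine ⟨fun h => ?_, fun h => h.map (MulAut.conj x)⟩
  simpa [mul_assoc] using h.map (MulAut.conj x⁻¹)

theorem Hy.q1_gen (h : Hy s Q x w) {a c : G} (ga : Good Q x a) (gc : Good Q x c) (ac : Commute a c)
    (nc : ¬ Commute a (x * c * x⁻¹)) : QG s x a c ∧ Q = closure {s, a, c, x * a * x⁻¹, x * c * x⁻¹} := by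
  refine ⟨⟨h.le.zz, h.le.z1, h.x3, h.xs, h.le.zc a ga.mem, h.le.zc c gc.mem, ga.sq, gc.sq, ac, ga.nn, gc.nn.trans gc.cm.symm, ?_⟩, ?_⟩
  · rw [← (h.le.zc _ (h.q1_mem gc.mem)).eq, ← h.le.conj_of_not ga.mem (h.q1_mem gc.mem) nc, inv_mul_cancel_right]
  have n2 : ¬ Commute c (x * a * x⁻¹) := fun e => nc (by
    have := q1_cj (x := x).2 (ga.nn ▸ e.mul_right ac.symm)
    rw [h.q1_x3] at this
    exact this.symm)
  set K : Subgroup G := closure {s, a, c, x * a * x⁻¹, x * c * x⁻¹} with hK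
  have le : K ≤ Q := by
    rw [hK, closure_le]
    rintro _ (rfl | rfl | rfl | rfl | rfl)
    exacts [h.le.zQ, ga.mem, gc.mem, h.q1_mem ga.mem, h.q1_mem gc.mem]
  have m0 : s ∈ K := subset_closure (by simp)
  have m1 : a ∈ K := subset_closure (by simp)
  have m2 : c ∈ K := subset_closure (by simp)
  have m3 : x * a * x⁻¹ ∈ K := subset_closure (by simp)
  have m4 : x * c * x⁻¹ ∈ K := subset_closure (by simp)
  have lt : ∀ (A : Subgroup G) (u v : G), u ∈ A → ¬ Commute u v → 2 * #(A ⊓ C1[v] : Subgroup G) ≤ #A := fun A u v hu hn =>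
    q1_two (lt_of_le_of_ne inf_le_left fun e => hn (mem_cent1.1 (e.symm ▸ hu : u ∈ A ⊓ C1[v]).2))
  have k1 := lt K _ a m4 fun e => nc e.symm
  have k2 := lt (K ⊓ C1[a]) c _ ⟨m2, mem_cent1.2 ac.symm⟩ n2
  have k3 := lt (K ⊓ C1[a] ⊓ C1[x * a * x⁻¹]) a _ ⟨⟨m1, mem_cent1.2 rfl⟩, mem_cent1.2 ga.cm⟩ nc
  have k4 := lt (K ⊓ C1[a] ⊓ C1[x * a * x⁻¹] ⊓ C1[x * c * x⁻¹]) _ c
    ⟨⟨⟨m3, mem_cent1.2 ga.cm.symm⟩, mem_cent1.2 rfl⟩, mem_cent1.2 (q1_cj.2 ac)⟩ fun e => n2 e.symm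
  have z : ∀ u ∈ K, s ∈ C1[u] := fun u hu => mem_cent1.2 (h.le.zc u (le hu)).symm
  have k5 := cardG_gt1 (A := K ⊓ C1[a] ⊓ C1[x * a * x⁻¹] ⊓ C1[x * c * x⁻¹] ⊓ C1[c]) fun e =>
    h.le.z1 (mem_bot.1 (e ▸ (⟨⟨⟨⟨m0, z _ m1⟩, z _ m3⟩, z _ m4⟩, z _ m2⟩ :
      s ∈ K ⊓ C1[a] ⊓ C1[x * a * x⁻¹] ⊓ C1[x * c * x⁻¹] ⊓ C1[c])))
  exact (eq_of_le_of_card_ge le (by rw [h.card]; omega)).symm

theorem Hy.q1_c (h : Hy s Q x w) {a : G} (ga : Good Q x a) (h1 : a ≠ 1) (hs : a ≠ s) :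
    ∃ c, Good Q x c ∧ Commute a c ∧ ¬ Commute a (x * c * x⁻¹) := by
  obtain ⟨c0, m0, s0, n0⟩ : ∃ c0 ∈ Q, c0 * c0 = 1 ∧ ¬ Commute a c0 := by
    obtain ⟨q, hq, e⟩ := h.le.exists_conj ga.mem h1 hs
    have n : ¬ Commute a q := fun c => h.le.not_comm_of e c.symm
    rcases h.le.sq q hq with e2 | e2
    · exact ⟨q, hq, e2, n⟩
    · refine ⟨q * a, mul_mem hq ga.mem, ?_, fun c => n ?_⟩
      · calc _ = q * (a * q * a⁻¹) * (a * a) := by group
          _ = 1 := by rw [h.le.conj_of_not ga.mem hq n, ga.sq, mul_one, ← mul_assoc, e2, h.le.zz]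
      · simpa using c.mul_right (Commute.refl a).inv_right
  obtain ⟨c1, g1, n1⟩ : ∃ c1, Good Q x c1 ∧ ¬ Commute a c1 := by
    rcases h.q1_good m0 s0 with g | g
    · exact ⟨_, g, n0⟩
    · exact ⟨_, g, fun c => n0 (by simpa using c.mul_right (h.le.zc a ga.mem).inv_right)⟩
  by_cases c2 : Commute a (x * c1 * x⁻¹)
  · refine ⟨_, h.q1_next g1, c2, fun c => n1 ?_⟩
    rw [g1.nn] at c
    have := c2.inv_right.mul_right c
    rwa [inv_mul_cancel_left] at this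
  · refine ⟨_, h.q1_next (h.q1_next g1), ?_, by rwa [h.q1_x3]⟩
    rw [g1.nn]
    exact (h.le.mul_comm_of (h.q1_mem g1.mem) g1.mem ga.mem (fun c => c2 c.symm) fun c => n1 c.symm).symm

theorem Hy.qg (h : Hy s Q x w) {a0 : G} (h0 : a0 ∈ Q) (h2 : a0 * a0 = 1) (h1 : a0 ≠ 1) (hs : a0 ≠ s) :
    ∃ a c, (a = a0 ∨ a = a0 * s) ∧ QG s x a c ∧ Q = closure {s, a, c, x * a * x⁻¹, x * c * x⁻¹} := by
  rcases h.q1_good h0 h2 with g | g
  · obtain ⟨c, gc, ac, nc⟩ := h.q1_c g h1 hs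
    exact ⟨_, c, .inl rfl, h.q1_gen g gc ac nc⟩
  · obtain ⟨c, gc, ac, nc⟩ := h.q1_c g (fun e => hs (by rw [eq_inv_of_mul_eq_one_left e, inv_eq_of_mul_eq_one_right h.le.zz]))
      (fun e => h1 (by simpa using e))
    exact ⟨_, c, .inr rfl, h.q1_gen g gc ac nc⟩

end Cfsg.Agent.W4
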