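import Cfsg.Agent.W4.Q1

/-! S3344, piece Q3: generators of `C(s)`. (helper9) -/

set_option autoImplicit false
set_option linter.unusedSectionVars false

namespace Cfsg.Agent.W4

open Cfsg.Agent.BG Subgroup

variable {G : Type*} [Group G] [Finite G] {s x w y a c : G} {Q : Subgroup G}

theorem q3_four {e f u : G} (e2 : e * e = 1) (f2 : f * f = 1) (ef : e * f = f * e) (h : u ∈ closure ({e, f} : Set G)) :
    u = 1 ∨ u = e ∨ u = f ∨ u = e * f := by
  have e2' : ∀ y, e * (e * y) = y := fun y => by rw [← mul_assoc, e2, one_mul]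
  have fe : ∀ y, f * (e * y) = e * (f * y) := fun y => by rw [← mul_assoc, ← ef, mul_assoc]
  have ie : e⁻¹ = e := inv_eq_of_mul_eq_one_right e2
  have i2 : f⁻¹ = f := inv_eq_of_mul_eq_one_right f2
  induction h using closure_induction with
  | mem a ha => rcases ha with rfl | rfl <;> simp
  | one => simp
  | mul a b _ _ ia ib =>
    rcases ia with rfl | rfl | rfl | rfl <;> rcases ib with rfl | rfl | rfl | rfl <;>
      simp [mul_assoc, e2, f2, e2', fe, ← ef]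
  | inv a _ ia => rcases ia with rfl | rfl | rfl | rfl <;> simp [ie, i2, ← ef]

/-- self-centralising abelian subgroups of order 8 -/
theorem Hy.q3_self (h : Hy s Q x w) {e g p1 p2 u : G} (he : e ∈ Q) (hg : g ∈ Q) (e2 : e * e = 1) (eg : Commute e g)
    (n1 : ¬ Commute e p1) (c1 : Commute g p1) (n2 : ¬ Commute g p2) (h1 : p1 ∈ Q) (h2 : p2 ∈ Q) (hu : u ∈ Q) (ue : Commute u e)
    (ug : Commute u g) : ∃ y, (y = 1 ∨ y = s ∨ y = e ∨ y = s * e) ∧ (u = y ∨ u = y * g) := by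
  have es := h.le.zc e he
  have gs := h.le.zc g hg
  set U : Subgroup G := closure {s, e, g} with hU
  have le : U ≤ Q := by
    rw [hU, closure_le]; rintro _ (rfl | rfl | rfl); exacts [h.le.zQ, he, hg]
  have m0 : s ∈ U := subset_closure (by simp)
  have m1 : e ∈ U := subset_closure (by simp)
  have m2 : g ∈ U := subset_closure (by simp)
  have cU : ∀ v, Commute v s → Commute v e → Commute v g → v ∈ C[U] := fun v a b c => by
    rw [hU, centralizer_closure, mem_centralizer_iff]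
    rintro _ (rfl | rfl | rfl); exacts [a.symm, b.symm, c.symm]
  have l2 : U ≤ Q ⊓ C[U] := le_inf le (by
    rw [hU, closure_le]; rintro _ (rfl | rfl | rfl)
    exacts [cU _ rfl es.symm gs.symm, cU _ es rfl eg, cU _ gs eg.symm rfl])
  have lt : ∀ (A : Subgroup G) (u v : G), u ∈ A → ¬ Commute u v → 2 * #(A ⊓ C1[v] : Subgroup G) ≤ #A := fun A u v hu hn =>
    q1_two (lt_of_le_of_ne inf_le_left fun e => hn (mem_cent1.1 (e.symm ▸ hu : u ∈ A ⊓ C1[v]).2))
  have k1 := lt U e p1 m1 n1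
  have k2 := lt (U ⊓ C1[p1]) g p2 ⟨m2, mem_cent1.2 c1⟩ n2
  have k3 := cardG_gt1 (A := U ⊓ C1[p1] ⊓ C1[p2]) fun e => h.le.z1 (mem_bot.1 (e ▸
    (⟨⟨m0, mem_cent1.2 (h.le.zc _ h1).symm⟩, mem_cent1.2 (h.le.zc _ h2).symm⟩ : s ∈ U ⊓ C1[p1] ⊓ C1[p2])))
  have k4 := h.le.card_cent le m0
  rw [h.card] at k4
  have eq : U = Q ⊓ C[U] := eq_of_le_of_card_ge l2 (by nlinarith)
  have hu' : u ∈ U := eq ▸ (⟨hu, cU u (h.le.zc u hu) ue ug⟩ : u ∈ Q ⊓ C[U])
  have s0 : s ∈ closure ({s, e} : Set G) := subset_closure (by simp)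
  have g2 : g * g ∈ closure ({s, e} : Set G) := by
    rcases h.le.sq g hg with e | e <;> rw [e]
    exacts [one_mem _, s0]
  have cg : ∀ y ∈ closure ({s, e} : Set G), Commute y g := fun y hy => by
    rcases q3_four h.le.zz e2 es.symm hy with rfl | rfl | rfl | rfl
    exacts [Commute.one_left _, gs.symm, eg, gs.symm.mul_left eg]
  have : ∃ y ∈ closure ({s, e} : Set G), u = y ∨ u = y * g := by
    clear hu ue ug
    induction hu' using closure_induction with
    | mem a ha =>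
      rcases ha with rfl | rfl | rfl
      exacts [⟨_, s0, .inl rfl⟩, ⟨_, subset_closure (by simp), .inl rfl⟩, ⟨1, one_mem _, .inr (one_mul _).symm⟩]
    | one => exact ⟨1, one_mem _, .inl rfl⟩
    | mul a b _ _ ia ib =>
      obtain ⟨y, hy, rfl | rfl⟩ := ia <;> obtain ⟨y', hy', rfl | rfl⟩ := ib
      · exact ⟨_, mul_mem hy hy', .inl rfl⟩
      · exact ⟨_, mul_mem hy hy', .inr (mul_assoc _ _ _).symm⟩
      · exact ⟨_, mul_mem hy hy', .inr (by rw [mul_assoc, ← (cg _ hy').eq, mul_assoc])⟩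
      · exact ⟨_, mul_mem (mul_mem hy hy') g2, .inl (by
          rw [mul_assoc, ← mul_assoc g, ← (cg _ hy').eq, mul_assoc, mul_assoc])⟩
    | inv a _ ia =>
      obtain ⟨y, hy, rfl | rfl⟩ := ia
      · exact ⟨_, inv_mem hy, .inl rfl⟩
      · exact ⟨_, mul_mem (inv_mem hy) (inv_mem g2), .inr (by rw [(cg _ hy).eq]; group)⟩
  obtain ⟨y, hy, e⟩ := this
  exact ⟨y, q3_four h.le.zz e2 es.symm hy, e⟩

theorem Hy.q3_wx (h : Hy s Q x w) (i : ℕ) : w * x ^ i = x ^ (2 * i) * w := by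
  have : w * x ^ i * w⁻¹ = x ^ (2 * i) := by
    rw [← conj_pow, h.wx, pow_mul, show x⁻¹ = x ^ 2 from inv_eq_of_mul_eq_one_right (by rw [← pow_succ']; exact h.x3)]
  rw [← this, inv_mul_cancel_right]

theorem Hy.q3_sq (h : Hy s Q x w) : x * w * (x * w) = w * w := by
  calc _ = x * (w * x * w⁻¹) * (w * w) := by group
    _ = _ := by rw [h.wx]; group

theorem Hy.mulx (h : Hy s Q x w) : Hy s Q x (x * w) :=
  { h with
    ws := (Commute.mul_left h.xs h.ws :)
    wx := by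
      calc _ = x * (w * x * w⁻¹) * x⁻¹ := by group
        _ = _ := by rw [h.wx]; group
    ww := h.q3_sq ▸ h.ww
    dec := fun g hg => by
      obtain ⟨q, hq, i, j, rfl⟩ := h.dec g hg
      have : ∀ j : ℕ, ∃ k : ℕ, w ^ j = x ^ k * (x * w) ^ j := fun j => by
        induction j with
        | zero => exact ⟨0, by simp⟩
        | succ j ih =>
          obtain ⟨k, hk⟩ := ih
          refine ⟨2 * k + 2, ?_⟩
          rw [pow_succ', hk, ← mul_assoc, h.q3_wx, pow_succ' (x * w), ← mul_assoc, ← mul_assoc, ← pow_succ,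
            show 2 * k + 2 + 1 = 2 * k + 3 from rfl, pow_add, h.x3, mul_one]
      obtain ⟨k, hk⟩ := this j
      exact ⟨q, hq, i + k, j, by rw [hk, pow_add]; group⟩ }

theorem Hy.q3_c1 (h : Hy s Q x w) (y : G) : x * (w * y * w⁻¹) * x⁻¹ = w * (x * (x * y * x⁻¹) * x⁻¹) * w⁻¹ := by
  have e : x * w = w * (x * x) := by
    have := h.q3_wx 2
    rw [show 2 * 2 = 3 + 1 from rfl, pow_succ x 3, h.x3, one_mul, sq] at this
    exact this.symm
  calc _ = (x * w) * y * (x * w)⁻¹ := by group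
    _ = _ := by rw [e]; group

theorem Hy.q3_c2 (h : Hy s Q x w) (y : G) : w * (x * y * x⁻¹) * w⁻¹ = x * (x * (w * y * w⁻¹) * x⁻¹) * x⁻¹ := by
  rw [h.q3_c1, h.q3_c1, h.q1_x3]

theorem Hy.q3_good (h : Hy s Q x w) (g : Good Q x y) : Good Q x (w * y * w⁻¹) := by
  have c2 : Commute y (x * (x * y * x⁻¹) * x⁻¹) := by rw [g.nn]; exact g.cm.mul_right (Commute.refl y)
  refine ⟨h.le.conj_mem h.ws g.mem, by rw [conj_mul, g.sq]; group, ?_, ?_⟩
  · rw [h.q3_c1]; exact q1_cj.2 c2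
  · rw [← h.q3_c2, h.q3_c1, conj_mul, g.nn, mul_assoc _ y y, g.sq, mul_one]

theorem Hy.q3_ns (h : Hy s Q x w) (g : Good Q x y) (g' : Good Q x (y * s)) : False := by
  have e1 : x * (y * s) * x⁻¹ = x * y * x⁻¹ * s := by rw [← conj_mul, h.q1_s]
  have e2 : x * (x * y * x⁻¹ * s) * x⁻¹ = x * (x * y * x⁻¹) * x⁻¹ * s := by rw [← conj_mul, h.q1_s]
  have := g'.nn
  rw [e1, e2, g.nn, mul_assoc _ s, ← mul_assoc s, ← (h.le.zc y g.mem).eq, mul_assoc y, h.le.zz, mul_one] at this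
  exact h.le.z1 (by simpa using this)

theorem Hy.q3_ww (h : Hy s Q x w) (hy : y ∈ Q) : w * (w * y * w⁻¹) * w⁻¹ = y := by
  have : w * (w * y * w⁻¹) * w⁻¹ = (w * w) * y * (w * w)⁻¹ := by group
  rcases h.ww with e | e <;> rw [this, e]
  · group
  · rw [← (h.le.zc y hy).eq, mul_inv_cancel_right]

theorem Hy.q3_fix1 (h : Hy s Q x w) (ga : Good Q x a) (h1 : a ≠ 1) (hs : a ≠ s) (c : Commute a (w * a * w⁻¹)) :
    ∃ a, Good Q x a ∧ a ≠ 1 ∧ a ≠ s ∧ w * a * w⁻¹ = a := by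
  by_cases e : w * a * w⁻¹ = a
  · exact ⟨a, ga, h1, hs, e⟩
  have gb := h.q3_good ga
  have f : w * (a * (w * a * w⁻¹)) * w⁻¹ = a * (w * a * w⁻¹) := by rw [← conj_mul, h.q3_ww ga.mem, c.eq]
  have ia := inv_eq_of_mul_eq_one_right ga.sq
  have n1 : a * (w * a * w⁻¹) ≠ 1 := fun k => e (by rw [← inv_eq_of_mul_eq_one_right k, ia])
  have n2 : a * (w * a * w⁻¹) ≠ s := fun k => h.q3_ns ga (by rwa [← k, ← mul_assoc, ga.sq, one_mul])
  rcases h.q1_good (mul_mem ga.mem gb.mem) (by rw [← sq, c.mul_pow, sq, sq, ga.sq, gb.sq, one_mul]) with g | g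
  · exact ⟨_, g, n1, n2, f⟩
  · refine ⟨_, g, fun k => n2 (by rw [eq_inv_of_mul_eq_one_left k, inv_eq_of_mul_eq_one_right h.le.zz]),
      fun k => n1 (by simpa using k), ?_⟩
    rw [← conj_mul, f, h.ws, mul_inv_cancel_right]

theorem Hy.q3_fix (h : Hy s Q x w) : ∃ w' a, Hy s Q x w' ∧ Good Q x a ∧ a ≠ 1 ∧ a ≠ s ∧ w' * a * w'⁻¹ = a := by
  obtain ⟨g, hg, ne⟩ := h.nwc
  have n1 : g * s * g⁻¹ ≠ 1 := fun e => h.le.z1 (by simpa using e)
  obtain ⟨a, ga, h1, hs⟩ : ∃ a, Good Q x a ∧ a ≠ 1 ∧ a ≠ s := by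
    rcases h.q1_good hg (by rw [conj_mul, h.le.zz]; group) with k | k
    · exact ⟨_, k, n1, ne⟩
    · exact ⟨_, k, fun e => ne (by rw [eq_inv_of_mul_eq_one_left e, inv_eq_of_mul_eq_one_right h.le.zz]),
        fun e => n1 (mul_eq_right.1 e)⟩
  have gb := h.q3_good ga
  by_cases c1 : Commute a (w * a * w⁻¹)
  · obtain ⟨b, k⟩ := h.q3_fix1 ga h1 hs c1
    exact ⟨_, b, h, k⟩
  by_cases c2 : Commute a (x * (w * a * w⁻¹) * x⁻¹)
  · obtain ⟨b, k⟩ := h.mulx.q3_fix1 ga h1 hs (by convert c2 using 1; group)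
    exact ⟨_, b, h.mulx, k⟩
  · obtain ⟨b, k⟩ := h.mulx.mulx.q3_fix1 ga h1 hs (by
      rw [show x * (x * w) * a * (x * (x * w))⁻¹ = x * (x * (w * a * w⁻¹) * x⁻¹) * x⁻¹ by group, gb.nn]
      exact (h.le.mul_comm_of (h.q1_mem gb.mem) gb.mem ga.mem (fun c => c2 c.symm) fun c => c1 c.symm).symm)
    exact ⟨_, b, h.mulx.mulx, k⟩

theorem Hy.q3_n2 (h : Hy s Q x w) (ga : Good Q x a) (ac : Commute a c) (nc : ¬ Commute a (x * c * x⁻¹)) :
    ¬ Commute c (x * a * x⁻¹) := fun e => nc (by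
  have := q1_cj (x := x).2 (ga.nn ▸ e.mul_right ac.symm)
  rw [h.q1_x3] at this
  exact this.symm)

theorem Hy.q3_wc (h : Hy s Q x w) (ga : Good Q x a) (gc : Good Q x c) (ac : Commute a c) (nc : ¬ Commute a (x * c * x⁻¹))
    (f : w * a * w⁻¹ = a) : w * c * w⁻¹ = c ∨ w * c * w⁻¹ = a * c * s := by
  have n2 := h.q3_n2 ga ac nc
  have gd := h.q3_good gc
  have ad : Commute a (w * c * w⁻¹) := by have := q1_cj (x := w).2 ac; rwa [f] at this
  have n3 : ¬ Commute (w * c * w⁻¹) (x * a * x⁻¹) := fun e => n2 (q1_cj (x := w).1 (by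
    rw [h.q3_c2, f, ga.nn]; exact e.mul_right ad.symm))
  obtain ⟨y, hy, e⟩ := h.q3_self ga.mem (h.q1_mem ga.mem) ga.sq ga.cm nc (q1_cj.2 ac) (fun e => n2 e.symm) (h.q1_mem gc.mem)
    gc.mem (mul_mem gd.mem gc.mem) (ad.symm.mul_left ac.symm) (h.le.mul_comm_of gd.mem gc.mem (h.q1_mem ga.mem) n3 n2)
  have as := h.le.zc a ga.mem
  have cs := h.le.zc c gc.mem
  generalize w * c * w⁻¹ = d at *
  have k : ∀ u, d * c = u → d = u * c := fun u e => by rw [← e, mul_assoc, gc.sq, mul_one]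
  have yc : Commute y c ∧ Commute y (x * a * x⁻¹) ∧ y * y = 1 := by
    have s' := (h.le.zc _ (h.q1_mem ga.mem)).symm
    rcases hy with rfl | rfl | rfl | rfl
    exacts [⟨Commute.one_left _, Commute.one_left _, one_mul _⟩, ⟨cs.symm, s', h.le.zz⟩, ⟨ac, ga.cm, ga.sq⟩,
      ⟨cs.symm.mul_left ac, s'.mul_left ga.cm, by rw [← sq, as.symm.mul_pow, sq, sq, ga.sq, h.le.zz, one_mul]⟩]
  rcases e with e | e
  · replace e := k _ e
    rcases hy with rfl | rfl | rfl | rfl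
    · exact .inl (by rw [e, one_mul])
    · exact (h.q3_ns gc (by rwa [cs.eq, ← e])).elim
    · exfalso
      have := gd.nn
      have e1 : x * (y * c) * x⁻¹ = x * y * x⁻¹ * (x * c * x⁻¹) := conj_mul.symm
      have e2 : x * (x * y * x⁻¹ * (x * c * x⁻¹)) * x⁻¹ = x * y * x⁻¹ * y * (x * c * x⁻¹ * c) := by
        rw [← conj_mul, ga.nn, gc.nn]
      rw [e, e1, e2] at this
      generalize x * y * x⁻¹ = a' at this
      generalize x * c * x⁻¹ = c' at this nc
      rw [mul_assoc, mul_assoc, mul_left_cancel_iff, ← mul_assoc, ← mul_assoc, mul_right_cancel_iff] at this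
      exact nc this
    · exact .inr (by rw [e, mul_assoc, ← (as.mul_left cs).eq])
  · exfalso
    have u2 : d * c * (d * c) = 1 := by rw [e, ← sq, yc.2.1.mul_pow, sq, sq, yc.2.2, (h.q1_next ga).sq, one_mul]
    have dc : Commute d c := by
      have := inv_eq_of_mul_eq_one_right u2
      rw [mul_inv_rev, inv_eq_of_mul_eq_one_right gd.sq, inv_eq_of_mul_eq_one_right gc.sq] at this
      exact this.symm
    have := yc.1.inv_left.mul_left (e ▸ dc.mul_left (Commute.refl c))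
    rw [inv_mul_cancel_left] at this
    exact n2 this.symm

theorem Hy.q3_no (h : Hy s Q x w) (ga : Good Q x a) (gc : Good Q x c) (ac : Commute a c) (nc : ¬ Commute a (x * c * x⁻¹))
    (f : w * a * w⁻¹ = a) {q : G} (hq : q ∈ Q) : q * (w * q * w⁻¹) ≠ s := fun e => by
  have n2 := h.q3_n2 ga ac nc
  have ma := h.q1_mem ga.mem
  have mc := h.q1_mem gc.mem
  have as := h.le.zc a ga.mem
  have cs := h.le.zc c gc.mem
  have fs : w * s * w⁻¹ = s := by rw [h.ws, mul_inv_cancel_right]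
  have k : ∀ y ∈ Q, Commute (y⁻¹ * (w * y * w⁻¹)) q := fun y hy => h.le.comm_of_iff hy (h.le.conj_mem h.ws hy) hq (by
    rw [← q1_cj (x := w), eq_inv_mul_of_mul_eq e]
    have z := h.le.zc _ (h.le.conj_mem h.ws hy)
    refine ⟨fun c => ?_, fun c => c.inv_right.mul_right z⟩
    simpa using (c.mul_right z.inv_right).inv_right)
  have qa : Commute q a := by
    have := k _ ma
    rw [h.q3_c2, f, ga.nn, inv_mul_cancel_left] at this
    exact this.symm
  have yy : ∀ y, (y = 1 ∨ y = s ∨ y = a ∨ y = s * a) → w * y * w⁻¹ = y ∧ y * y = 1 ∧ Commute y c ∧ Commute y (x * a * x⁻¹) := by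
    have s' := (h.le.zc _ ma).symm
    rintro y (rfl | rfl | rfl | rfl)
    exacts [⟨by group, one_mul _, Commute.one_left _, Commute.one_left _⟩, ⟨fs, h.le.zz, cs.symm, s'⟩, ⟨f, ga.sq, ac, ga.cm⟩,
      ⟨by rw [← conj_mul, fs, f], by rw [← sq, as.symm.mul_pow, sq, sq, ga.sq, h.le.zz, one_mul], cs.symm.mul_left ac,
        s'.mul_left ga.cm⟩]
  rcases h.q3_wc ga gc ac nc f with fc | fc
  · have qc : Commute q c := by
      have := k _ mc
      rw [h.q3_c2, fc, gc.nn, inv_mul_cancel_left] at this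
      exact this.symm
    obtain ⟨y, hy, e'⟩ := h.q3_self ga.mem gc.mem ga.sq ac nc gc.cm n2 mc ma hq qa qc
    obtain ⟨y1, y2, y3, -⟩ := yy y hy
    rcases e' with rfl | rfl
    · exact h.le.z1 (by rw [← e, y1, y2])
    · exact h.le.z1 (by rw [← e, ← conj_mul, y1, fc, ← sq, y3.mul_pow, sq, sq, y2, gc.sq, one_mul])
  · have qm : Commute q (x * a * x⁻¹ * c) := by
      have := k _ mc
      have e1 : x * (a * c * s) * x⁻¹ = x * a * x⁻¹ * (x * c * x⁻¹) * s := by rw [← conj_mul, ← conj_mul, h.q1_s]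
      have e2 : x * (x * a * x⁻¹ * (x * c * x⁻¹) * s) * x⁻¹ = x * a * x⁻¹ * a * (x * c * x⁻¹ * c) * s := by
        rw [← conj_mul, ← conj_mul, h.q1_s, ga.nn, gc.nn]
      rw [h.q3_c2, fc, e1, e2] at this
      have c1 : Commute (x * a * x⁻¹) (x * c * x⁻¹) := q1_cj.2 ac
      have e3 := h.le.conj_of_not ga.mem mc nc
      have zs := h.le.zc _ mc
      have aa := ga.cm
      generalize x * a * x⁻¹ = a' at *
      generalize x * c * x⁻¹ = c' at *
      have e4 : c'⁻¹ * (a' * a * (c' * c) * s) = a * (a' * c) := by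
        calc _ = c'⁻¹ * (a' * (a * c' * a⁻¹) * (a * c * s)) := by group
          _ = (c'⁻¹ * (a' * c')) * (s * (a * c) * s) := by rw [e3]; group
          _ = _ := by
            rw [c1.eq, inv_mul_cancel_left, ← (as.mul_left cs).eq, mul_assoc, h.le.zz, mul_one, ← mul_assoc, ← aa.eq, mul_assoc]
      rw [e4] at this
      simpa using qa.inv_right.mul_right this.symm
    have nm : ¬ Commute (x * a * x⁻¹ * c) c := fun e => n2 (by
      have := e.mul_left (Commute.refl c).inv_left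
      rw [mul_inv_cancel_right] at this
      exact this.symm)
    obtain ⟨y, hy, e'⟩ := h.q3_self ga.mem (mul_mem ma gc.mem) ga.sq (ga.cm.mul_right ac) nc
      ((q1_cj.2 ac).mul_left gc.cm) nm mc gc.mem hq qa qm
    obtain ⟨y1, y2, y3, y4⟩ := yy y hy
    rcases e' with rfl | rfl
    · exact h.le.z1 (by rw [← e, y1, y2])
    · have e5 : w * (x * a * x⁻¹ * c) * w⁻¹ = x * a * x⁻¹ * c * s := by
        rw [← conj_mul, h.q3_c2, f, ga.nn, fc]
        calc _ = x * a * x⁻¹ * (a * a) * c * s := by group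
          _ = _ := by rw [ga.sq, mul_one]
      have e6 : x * a * x⁻¹ * c * (x * a * x⁻¹ * c) = s := (h.le.sq _ (mul_mem ma gc.mem)).resolve_left fun e => n2 (by
        have := inv_eq_of_mul_eq_one_right e
        rw [mul_inv_rev, inv_eq_of_mul_eq_one_right gc.sq, inv_eq_of_mul_eq_one_right (h.q1_next ga).sq] at this
        exact this)
      have cy := y4.mul_right y3
      rw [← conj_mul, y1, e5] at e
      generalize x * a * x⁻¹ * c = m at e e6 cy
      rw [← mul_assoc y m s, ← mul_assoc _ _ s, ← sq, cy.mul_pow, sq, sq, y2, e6, one_mul, h.le.zz] at e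
      exact h.le.z1 e.symm

theorem Hy.gen' (h : Hy s Q x w) (hj : ∃ j ∈ C1[s], j ∉ Q ∧ j * j = 1) :
    ∃ w' a c, Gen s Q x w' a c ∧ (w' * c = c * w' ∨ w' * c * w'⁻¹ = a * c * s) := by
  obtain ⟨w, a, h, ga, h1, hs, f⟩ := h.q3_fix
  obtain ⟨c, gc, ac, nc⟩ := h.q1_c ga h1 hs
  obtain ⟨k1, k2⟩ := h.q1_gen ga gc ac nc
  refine ⟨w, a, c, ⟨h, k1, k2, h.ww.resolve_right fun ww => ?_, mul_inv_eq_iff_eq_mul.1 f⟩,
    (h.q3_wc ga gc ac nc f).imp_left mul_inv_eq_iff_eq_mul.1⟩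
  obtain ⟨j, hj, nj, jj⟩ := hj
  obtain ⟨q, hq, i, k, rfl⟩ := h.dec j hj
  have xi : ∀ (i : ℕ) {y}, y ∈ Q → x ^ i * y * (x ^ i)⁻¹ ∈ Q := fun i y hy =>
    h.le.conj_mem (Commute.pow_left h.xs i) hy
  have sk : ∀ m : ℕ, Commute (s ^ m) x := fun m => Commute.pow_left h.xs.symm m
  obtain ⟨m, rfl | rfl⟩ := Nat.even_or_odd' k
  · rw [show q * x ^ i * w ^ (2 * m) = q * s ^ m * x ^ i by
      rw [pow_mul, sq, ww, mul_assoc, ← ((sk m).pow_right i).eq, ← mul_assoc]] at nj jj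
    have hq' := mul_mem hq (pow_mem h.le.zQ m)
    generalize q * s ^ m = r at *
    have e : x ^ (2 * i) = (r * (x ^ i * r * (x ^ i)⁻¹))⁻¹ := by
      rw [eq_inv_iff_mul_eq_one, ← one_mul (x ^ (2 * i)), two_mul, pow_add]
      calc _ = (x ^ i * x ^ i) * (r * x ^ i * (r * x ^ i)) * (x ^ i * x ^ i)⁻¹ := by group
        _ = _ := by rw [jj]; group
    have m2 : x ^ (2 * i) ∈ Q := e ▸ inv_mem (mul_mem hq' (xi i hq'))
    refine nj (mul_mem hq' ?_)
    have := mul_mem m2 m2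
    rwa [← pow_add, show 2 * i + 2 * i = 3 * i + i by ring, pow_add, pow_mul, h.x3, one_pow, one_mul] at this
  · rw [show q * x ^ i * w ^ (2 * m + 1) = q * s ^ m * x ^ i * w by
      rw [pow_succ, pow_mul, sq, ww, ← mul_assoc, mul_assoc q, ← ((sk m).pow_right i).eq, ← mul_assoc]] at jj
    have hq' := mul_mem hq (pow_mem h.le.zQ m)
    generalize q * s ^ m = r at *
    have e : x ^ i * (r * x ^ i * w) * (x ^ i)⁻¹ = x ^ i * r * (x ^ i)⁻¹ * w := by
      have := h.q3_wx i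
      rw [two_mul, pow_add] at this
      calc _ = x ^ i * r * (x ^ i)⁻¹ * (x ^ i * x ^ i * w) * (x ^ i)⁻¹ := by group
        _ = _ := by rw [← this]; group
    have e2 : x ^ i * r * (x ^ i)⁻¹ * w * (x ^ i * r * (x ^ i)⁻¹ * w) = 1 := by rw [← e, conj_mul, jj]; group
    refine h.q3_no ga gc ac nc f (xi i hq') ?_
    generalize x ^ i * r * (x ^ i)⁻¹ = u at *
    calc _ = u * w * (u * w) * (w * w)⁻¹ := by group
      _ = s := by rw [e2, ww, one_mul, inv_eq_of_mul_eq_one_right h.le.zz]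

end Cfsg.Agent.W4
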